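import Cfsg.Prelude.Def_CaseTheorems
import Mathlib

/-!
Facts on the small groups that occur as automiser of the abelian subgroup of order 64.
-/

set_option autoImplicit false
set_option maxRecDepth 100000
set_option linter.style.haveILetI false

namespace CfsgLib.SylM24Q

/-- `n` permutes the involutions of the four-group `{a, b, a*b}` cyclically. -/
def IsFourTriple {K : Type*} [Group K] (n a b : K) : Prop :=
  a * a = 1 ∧ b * b = 1 ∧ a ≠ 1 ∧ b ≠ 1 ∧ a ≠ b ∧ a * b = b * a ∧ n * a * n⁻¹ = b ∧ n * b * n⁻¹ = a * b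

/-- `n` normalises a four-group nontrivially and is inverted by an involution. -/
def IsGood {K : Type*} [Group K] (n : K) : Prop :=
  (∃ a b, IsFourTriple n a b) ∧ ∃ t, t * t = 1 ∧ t ≠ 1 ∧ t * n * t⁻¹ = n⁻¹

theorem IsFourTriple.map {K L : Type*} [Group K] [Group L] (e : K ≃* L) {n a b : K}
    (h : IsFourTriple n a b) : IsFourTriple (e n) (e a) (e b) := by
  obtain ⟨h1, h2, h3, h4, h5, h6, h7, h8⟩ := h
  exact ⟨by rw [← map_mul, h1, map_one], by rw [← map_mul, h2, map_one],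
    fun h => h3 (e.map_eq_one_iff.1 h), fun h => h4 (e.map_eq_one_iff.1 h),
    fun h => h5 (e.injective h), by rw [← map_mul, ← map_mul, h6],
    by rw [← map_inv, ← map_mul, ← map_mul, h7],
    by rw [← map_inv, ← map_mul, ← map_mul, h8, map_mul]⟩

theorem IsGood.map {K L : Type*} [Group K] [Group L] (e : K ≃* L) {n : K} (h : IsGood n) :
    IsGood (e n) := by
  obtain ⟨⟨a, b, hab⟩, t, h1, h2, h3⟩ := h
  exact ⟨⟨e a, e b, hab.map e⟩, e t, by rw [← map_mul, h1, map_one],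
    fun h => h2 (e.map_eq_one_iff.1 h), by rw [← map_inv, ← map_mul, ← map_mul, h3, map_inv]⟩

/-- A cube root of unity from an odd order dividing a power of two times three. -/
theorem pow_three_eq_one_of_odd {K : Type*} [Monoid K] (n : K) (hodd : Odd (orderOf n)) (k : ℕ)
    (h : n ^ (2 ^ k * 3) = 1) : n ^ 3 = 1 :=
  orderOf_dvd_iff_pow_eq_one.1
    (((hodd.coprime_two_right).pow_right k).dvd_of_dvd_mul_left (orderOf_dvd_of_pow_eq_one h))

theorem perm_four_good (n : Equiv.Perm (Fin 4)) (hodd : Odd (orderOf n)) (hn : n ≠ 1) : IsGood n := by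
  have key : ∀ n : Equiv.Perm (Fin 4), n ^ 3 = 1 → n ≠ 1 →
      IsFourTriple n (Equiv.swap 0 1 * Equiv.swap 2 3)
        (n * (Equiv.swap 0 1 * Equiv.swap 2 3) * n⁻¹) ∧
      ∃ t : Equiv.Perm (Fin 4), t * t = 1 ∧ t ≠ 1 ∧ t * n * t⁻¹ = n⁻¹ := by
    unfold IsFourTriple
    decide +kernel
  have h24 : n ^ (2 ^ 3 * 3) = 1 := by
    have := pow_card_eq_one (x := n)
    rwa [Fintype.card_perm, Fintype.card_fin] at this
  obtain ⟨h1, h2⟩ := key n (pow_three_eq_one_of_odd n hodd 3 h24) hn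
  exact ⟨⟨_, _, h1⟩, h2⟩

theorem perm_five_witness : ∃ t n : Equiv.Perm (Fin 5),
    t * t = 1 ∧ t ≠ 1 ∧ Odd (orderOf n) ∧ n ≠ 1 ∧ Commute n t := by
  refine ⟨Equiv.swap 0 1, Equiv.swap 2 3 * Equiv.swap 3 4, by decide +kernel, by decide +kernel, ?_,
    by decide +kernel, ?_⟩
  · haveI : Fact (Nat.Prime 3) := ⟨Nat.prime_three⟩
    rw [orderOf_eq_prime (p := 3) (by decide +kernel) (by decide +kernel)]
    decide
  · rw [commute_iff_eq]; decide +kernel

theorem alt_six_witness : ∃ ψ : Multiplicative (ZMod 3 × ZMod 3) →* alternatingGroup (Fin 6),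
    Function.Injective ψ ∧ ∀ v, v ≠ 1 → ∃ a b, IsFourTriple (ψ v) a b := by
  let c₁ : alternatingGroup (Fin 6) := ⟨Equiv.swap 0 1 * Equiv.swap 1 2, Equiv.Perm.mem_alternatingGroup.2 (by decide +kernel)⟩
  let c₂ : alternatingGroup (Fin 6) := ⟨Equiv.swap 3 4 * Equiv.swap 4 5, Equiv.Perm.mem_alternatingGroup.2 (by decide +kernel)⟩
  let f : Multiplicative (ZMod 3 × ZMod 3) → alternatingGroup (Fin 6) := fun v =>
    c₁ ^ (Multiplicative.toAdd v).1.val * c₂ ^ (Multiplicative.toAdd v).2.val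
  have hmul : ∀ x y, f (x * y) = f x * f y := by decide +kernel
  refine ⟨MonoidHom.mk' f hmul, show ∀ x y, f x = f y → x = y by decide +kernel, fun v hv => ?_⟩
  have key : ∀ n a : alternatingGroup (Fin 6), IsFourTriple n a (n * a * n⁻¹) →
      ∃ a b, IsFourTriple n a b := fun n a h => ⟨_, _, h⟩
  show ∃ a b, IsFourTriple (f v) a b
  obtain ⟨i, j, rfl⟩ : ∃ i j : ZMod 3, v = Multiplicative.ofAdd (i, j) :=
    ⟨(Multiplicative.toAdd v).1, (Multiplicative.toAdd v).2, rfl⟩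
  fin_cases i <;> fin_cases j
  · exact absurd rfl hv
  · exact key _ ⟨Equiv.swap 2 3 * Equiv.swap 4 5, Equiv.Perm.mem_alternatingGroup.2 (by decide +kernel)⟩ (by unfold IsFourTriple; decide +kernel)
  · exact key _ ⟨Equiv.swap 2 3 * Equiv.swap 4 5, Equiv.Perm.mem_alternatingGroup.2 (by decide +kernel)⟩ (by unfold IsFourTriple; decide +kernel)
  · exact key _ ⟨Equiv.swap 0 1 * Equiv.swap 2 3, Equiv.Perm.mem_alternatingGroup.2 (by decide +kernel)⟩ (by unfold IsFourTriple; decide +kernel)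
  · exact key _ ⟨Equiv.swap 1 3 * Equiv.swap 2 4, Equiv.Perm.mem_alternatingGroup.2 (by decide +kernel)⟩ (by unfold IsFourTriple; decide +kernel)
  · exact key _ ⟨Equiv.swap 1 3 * Equiv.swap 2 5, Equiv.Perm.mem_alternatingGroup.2 (by decide +kernel)⟩ (by unfold IsFourTriple; decide +kernel)
  · exact key _ ⟨Equiv.swap 0 1 * Equiv.swap 2 3, Equiv.Perm.mem_alternatingGroup.2 (by decide +kernel)⟩ (by unfold IsFourTriple; decide +kernel)
  · exact key _ ⟨Equiv.swap 1 3 * Equiv.swap 2 5, Equiv.Perm.mem_alternatingGroup.2 (by decide +kernel)⟩ (by unfold IsFourTriple; decide +kernel)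
  · exact key _ ⟨Equiv.swap 1 3 * Equiv.swap 2 4, Equiv.Perm.mem_alternatingGroup.2 (by decide +kernel)⟩ (by unfold IsFourTriple; decide +kernel)

abbrev L32 := Matrix.SpecialLinearGroup (Fin 3) (ZMod 2)

/-- An element of order three normalising the first four-group. -/
def mC1 : L32 := ⟨!![1, 0, 0; 0, 0, 1; 0, 1, 1], by decide +kernel⟩

/-- An element of order three normalising the second four-group. -/
def mC2 : L32 := ⟨!![0, 1, 0; 1, 1, 0; 0, 0, 1], by decide +kernel⟩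

/-- A transvection in the first four-group. -/
def mA : L32 := ⟨!![1, 1, 0; 0, 1, 0; 0, 0, 1], by decide +kernel⟩

/-- A transvection in the second four-group. -/
def mA' : L32 := ⟨!![1, 0, 0; 0, 1, 1; 0, 0, 1], by decide +kernel⟩

/-- An element of order seven. -/
def mN : L32 := ⟨!![0, 0, 1; 1, 0, 1; 0, 1, 0], by decide +kernel⟩

/-- An element of order three normalising a Sylow 7-subgroup. -/
def mU : L32 := ⟨!![1, 0, 1; 0, 1, 1; 1, 0, 0], by decide +kernel⟩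

/-- An involution inverting `mU`. -/
def mT : L32 := ⟨!![0, 0, 1; 1, 1, 1; 1, 0, 0], by decide +kernel⟩

/-- An involution inverting `mC1`. -/
def mS : L32 := ⟨!![1, 0, 0; 0, 0, 1; 0, 1, 0], by decide +kernel⟩

theorem four₁ : IsFourTriple mC1 mA (mC1 * mA * mC1⁻¹) := by unfold IsFourTriple; decide +kernel

theorem four₂ : IsFourTriple mC2 mA' (mC2 * mA' * mC2⁻¹) := by unfold IsFourTriple; decide +kernel

theorem inverted : mS * mS = 1 ∧ mS ≠ 1 ∧ mS * mC1 * mS⁻¹ = mC1⁻¹ := by decide +kernel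

theorem seven_facts : mU ^ 3 = 1 ∧ mU ≠ 1 ∧ mT * mT = 1 ∧ mT ≠ 1 ∧ mT * mU * mT⁻¹ = mU⁻¹ ∧
    mA ≠ mA' ∧ mA ≠ mC2 * mA' * mC2⁻¹ ∧ mA ≠ mA' * (mC2 * mA' * mC2⁻¹) := by decide +kernel

theorem words : mC1 = mN * mU ∧ mC2 = mT * mN ∧
    mA = mN * mU * mU * mN * mT * mN * mN ∧ mA' = mU * mN * mU * mN * mT * mN := by decide +kernel

/-- The Sylow 2-subgroup of upper triangular matrices. -/
def upper : List L32 :=
  [1, mA, mA', mA * mA', mA' * mA, mA * mA' * mA, mA' * mA * mA', mA * mA' * (mA * mA')]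

set_option synthInstance.maxHeartbeats 400000 in
set_option synthInstance.maxSize 4000 in
theorem upper_props : (∀ x ∈ upper, ∀ y ∈ upper, x * y ∈ upper) ∧
    (∀ x ∈ upper, x⁻¹ ∈ upper) ∧ (∀ x ∈ upper, x ^ 4 = 1) ∧
    mA ∈ upper ∧ mC1 * mA * mC1⁻¹ ∈ upper ∧ mA' ∈ upper ∧ mC2 * mA' * mC2⁻¹ ∈ upper := by
  decide +kernel

theorem isPGroup_upper :
    IsPGroup 2 (Subgroup.closure ({mA, mC1 * mA * mC1⁻¹, mA', mC2 * mA' * mC2⁻¹} : Set L32)) := by
  obtain ⟨hmul, hinv, hfour, ha, hb, ha', hb'⟩ := upper_props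
  let U : Subgroup L32 :=
    { carrier := {x | x ∈ upper}
      mul_mem' := fun hx hy => hmul _ hx _ hy
      one_mem' := List.mem_cons_self
      inv_mem' := fun hx => hinv _ hx }
  have hU : IsPGroup 2 U := fun x => ⟨2, Subtype.ext (by simpa using hfour _ x.2)⟩
  refine hU.to_le ((Subgroup.closure_le U).2 ?_)
  rintro x (rfl | rfl | rfl | rfl) <;> assumption

theorem conj_cube : ∀ x : L32, x ^ 3 = 1 → x = 1 ∨ ∃ g : L32, g * mC1 = x * g := by decide +kernel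

theorem conj_seventh : ∀ x : L32, x ^ 7 = 1 →
    x = 1 ∨ ∃ g : L32, g * mN = x * g ∨ g * mN ^ 3 = x * g := by decide +kernel

theorem orders : ∀ x : L32, x ^ 3 = 1 ∨ x ^ 7 = 1 ∨ x ^ 4 = 1 := by decide +kernel

theorem l32_odd (n : L32) (hodd : Odd (orderOf n)) (hn : n ≠ 1) : IsGood n ∨ orderOf n = 7 := by
  haveI : Fact (Nat.Prime 3) := ⟨Nat.prime_three⟩
  haveI : Fact (Nat.Prime 7) := ⟨by norm_num⟩
  rcases orders n with h | h | h
  · obtain rfl | ⟨g, hg⟩ := conj_cube n h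
    · exact absurd rfl hn
    · have hbase : IsGood mC1 := ⟨⟨_, _, four₁⟩, mS, inverted⟩
      refine Or.inl ?_
      have := hbase.map (MulAut.conj g)
      rwa [MulAut.conj_apply, mul_inv_eq_of_eq_mul hg] at this
  · exact Or.inr (orderOf_eq_prime h hn)
  · exact absurd (orderOf_eq_one_iff.1 (Nat.dvd_one.1 ((hodd.coprime_two_right.pow_right 2).dvd_of_dvd_mul_left
      (by simpa using orderOf_dvd_of_pow_eq_one h)))) hn

/-- The witnesses transported by an automorphism. -/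
theorem seven_map (e : L32 ≃* L32) (k : ℕ) (hk : k = 1 ∨ k = 3) : ∃ u t a b c a' b' c' : L32,
    u * e (mN ^ k) * u⁻¹ ∈ Subgroup.zpowers (e (mN ^ k)) ∧ u ^ 3 = 1 ∧ u ≠ 1 ∧ (∃ x y, IsFourTriple u x y) ∧
      t * t = 1 ∧ t ≠ 1 ∧ t * u * t⁻¹ = u⁻¹ ∧
      IsFourTriple c a b ∧ IsFourTriple c' a' b' ∧
      IsPGroup 2 (Subgroup.closure ({a, b, a', b'} : Set L32)) ∧
      a ≠ a' ∧ a ≠ b' ∧ a ≠ a' * b' ∧
      ∀ H : Subgroup L32, e (mN ^ k) ∈ H → u ∈ H → t ∈ H →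
        a ∈ H ∧ b ∈ H ∧ c ∈ H ∧ a' ∈ H ∧ b' ∈ H ∧ c' ∈ H := by
  have hun : ∀ k : ℕ, k = 1 ∨ k = 3 → mU * mN ^ k * mU⁻¹ = (mN ^ k) ^ 2 := by
    rintro k (rfl | rfl) <;> decide +kernel
  obtain ⟨f1, f2, f3, f4, f5, f6, f7, f8⟩ := seven_facts
  refine ⟨e mU, e mT, e mA, e (mC1 * mA * mC1⁻¹), e mC1, e mA', e (mC2 * mA' * mC2⁻¹), e mC2,
    ?_, by rw [← map_pow, f1, map_one], fun h => f2 (e.map_eq_one_iff.1 h), ?_,
    by rw [← map_mul, f3, map_one], fun h => f4 (e.map_eq_one_iff.1 h),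
    by rw [← map_inv, ← map_mul, ← map_mul, f5, map_inv],
    four₁.map e, four₂.map e, ?_, ?_, ?_, ?_, ?_⟩
  · rw [← map_inv, ← map_mul, ← map_mul, hun k hk, map_pow e (mN ^ k) 2]
    exact pow_mem (Subgroup.mem_zpowers _) 2
  · obtain ⟨x, y, hxy⟩ : ∃ x y, IsFourTriple mU x y := by
      obtain ⟨g', hg'⟩ : ∃ g' : L32, g' * mC1 = mU * g' :=
        (conj_cube mU (by decide +kernel)).resolve_left (by decide +kernel)
      have := four₁.map (MulAut.conj g')
      rw [MulAut.conj_apply g' mC1, mul_inv_eq_of_eq_mul hg'] at this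
      exact ⟨_, _, this⟩
    exact ⟨_, _, hxy.map e⟩
  · have : ({e mA, e (mC1 * mA * mC1⁻¹), e mA', e (mC2 * mA' * mC2⁻¹)} : Set L32) =
        e.toMonoidHom '' {mA, mC1 * mA * mC1⁻¹, mA', mC2 * mA' * mC2⁻¹} := by
      rw [Set.image_insert_eq, Set.image_insert_eq, Set.image_insert_eq, Set.image_singleton]
      rfl
    rw [this, ← MonoidHom.map_closure]
    exact isPGroup_upper.map _
  · exact e.injective.ne f6
  · exact e.injective.ne f7
  · rw [← map_mul]; exact e.injective.ne f8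
  intro H h1 h2 h3
  have hcube : ((mN : L32) ^ 3) ^ 5 = mN := by decide +kernel
  have hN : mN ∈ H.comap e.toMonoidHom := by
    have hk' : mN ^ k ∈ H.comap e.toMonoidHom := h1
    rcases hk with rfl | rfl
    · rwa [pow_one] at hk'
    · have := pow_mem hk' 5
      rwa [hcube] at this
  have hU : mU ∈ H.comap e.toMonoidHom := h2
  have hT : mT ∈ H.comap e.toMonoidHom := h3
  obtain ⟨w1, w2, w3, w4⟩ := words
  have hc : mC1 ∈ H.comap e.toMonoidHom := by
    rw [w1]; exact mul_mem hN hU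
  have hc' : mC2 ∈ H.comap e.toMonoidHom := by
    rw [w2]; exact mul_mem hT hN
  have ha : mA ∈ H.comap e.toMonoidHom := by
    rw [w3]; exact mul_mem (mul_mem (mul_mem (mul_mem (mul_mem (mul_mem hN hU) hU) hN) hT) hN) hN
  have ha' : mA' ∈ H.comap e.toMonoidHom := by
    rw [w4]; exact mul_mem (mul_mem (mul_mem (mul_mem (mul_mem hU hN) hU) hN) hT) hN
  exact ⟨ha, mul_mem (mul_mem hc ha) (inv_mem hc), hc, ha',
    mul_mem (mul_mem hc' ha') (inv_mem hc'), hc'⟩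

theorem l32_seven (n : L32) (hn : orderOf n = 7) : ∃ u t a b c a' b' c' : L32,
    u * n * u⁻¹ ∈ Subgroup.zpowers n ∧ u ^ 3 = 1 ∧ u ≠ 1 ∧ (∃ x y, IsFourTriple u x y) ∧
      t * t = 1 ∧ t ≠ 1 ∧ t * u * t⁻¹ = u⁻¹ ∧
      IsFourTriple c a b ∧ IsFourTriple c' a' b' ∧
      IsPGroup 2 (Subgroup.closure ({a, b, a', b'} : Set L32)) ∧
      a ≠ a' ∧ a ≠ b' ∧ a ≠ a' * b' ∧
      ∀ H : Subgroup L32, n ∈ H → u ∈ H → t ∈ H →
        a ∈ H ∧ b ∈ H ∧ c ∈ H ∧ a' ∈ H ∧ b' ∈ H ∧ c' ∈ H := by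
  have h7 : n ^ 7 = 1 := hn ▸ pow_orderOf_eq_one n
  obtain rfl | ⟨g, hg⟩ := conj_seventh n h7
  · simp at hn
  obtain ⟨k, hk, hgk⟩ : ∃ k : ℕ, (k = 1 ∨ k = 3) ∧ MulAut.conj g (mN ^ k) = n := by
    rcases hg with h | h
    · exact ⟨1, Or.inl rfl, by rw [MulAut.conj_apply, pow_one, mul_inv_eq_of_eq_mul h]⟩
    · exact ⟨3, Or.inr rfl, by rw [MulAut.conj_apply, mul_inv_eq_of_eq_mul h]⟩
  rw [← hgk]
  exact seven_map (MulAut.conj g) k hk

end CfsgLib.SylM24Q
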