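import Cfsg.Agent.Lib.SylM24Q.AutoTypes
import Cfsg.Agent.Lib.SylM24Q.AutoModels

/-!
The automiser of the elementary abelian subgroup of order 64: involutions are centralised by no element of odd
order, and the fixed points of an element of odd order are at most four and fixed by an involution.
-/

set_option autoImplicit false

namespace CfsgLib.SylM24Q

open CfsgLib.StructC.M24SylQ

theorem common_facts_sep {p q : Fin 8 × Fin 8} (hp : p ∈ pairs) (hq : q ∈ pairs) (h1 : p.1 ≠ q.1)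
    (h2 : p.1 ≠ q.2) (h3 : p.1 ≠ dMul q.1 q.2) {a : Fin 64} (ha : a ∈ (common p).toFinset)
    (hb : a ∈ (common q).toFinset) : a = 0 := by
  have h := List.all_eq_true.1 (List.all_eq_true.1 common_sep p hp) q hq
  simp only [Bool.or_eq_true, decide_eq_true_eq, List.all_eq_true, Bool.not_eq_true'] at h
  rcases h with ((h | h) | h) | h
  · exact absurd h h1
  · exact absurd h h2
  · exact absurd h h3
  · rcases h a (List.mem_toFinset.1 ha) with h | h
    · exact h
    · rw [List.mem_toFinset, ← List.contains_iff_mem, h] at hb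
      cases hb

namespace Rep

variable {X : Type*} [Group X] [Finite X] (R : Rep X)
include R

omit R in
theorem four_triple_map {K : Type*} [Group K] (e : X ≃* K) {n a b : K} (h : IsFourTriple n a b) :
    IsFourTriple (e.symm n) (e.symm a) (e.symm b) := by
  obtain ⟨h1, h2, h3, h4, h5, h6, h7, h8⟩ := h
  refine ⟨?_, ?_, fun h => h3 ?_, fun h => h4 ?_, fun h => h5 (e.symm.injective h), ?_, ?_, ?_⟩
  · rw [← map_mul, h1, map_one]
  · rw [← map_mul, h2, map_one]
  · simpa using congrArg e h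
  · simpa using congrArg e h
  · rw [← map_mul, ← map_mul, h6]
  · rw [← map_inv, ← map_mul, ← map_mul, h7]
  · rw [← map_inv, ← map_mul, ← map_mul, h8, map_mul]

theorem good_fix {n : X} (hn : Odd (orderOf n)) (h : IsGood n) :
    (R.fixF n).card ≤ 4 ∧ ∃ t, t * t = 1 ∧ t ≠ 1 ∧ R.fixF n ⊆ R.fixF t := by
  obtain ⟨⟨a, b, ha, hb, ha1, hb1, hab, hc, h1, h2⟩, t, ht, ht1, hinv⟩ := h
  have hle := (R.triple_fix ha hb ha1 hb1 hab hc h1 h2).1
  exact ⟨hle, t, ht, ht1, R.fix_sub_of_invert hn ht ht1 hinv hle⟩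

omit R in
theorem good_map {K : Type*} [Group K] (e : X ≃* K) {n : X} (h : IsGood (e n)) : IsGood n := by
  obtain ⟨⟨a, b, hab⟩, t, ht, ht1, hinv⟩ := h
  refine ⟨⟨e.symm a, e.symm b, by simpa using four_triple_map e hab⟩, e.symm t, ?_, ?_, ?_⟩
  · rw [← map_mul, ht, map_one]
  · exact fun h => ht1 (by simpa using congrArg e h)
  · apply e.injective
    simpa using hinv

theorem not_perm_five (e : X ≃* Equiv.Perm (Fin 5)) : False := by
  obtain ⟨t, n, ht, ht1, hn, hn1, hc⟩ := perm_five_witness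
  refine hn1 ?_
  have h := R.cit (t := e.symm t) (n := e.symm n) (by rw [← map_mul, ht, map_one])
    (fun h => ht1 (by simpa using congrArg e h))
    (by rwa [MulEquiv.orderOf_eq]) (hc.map e.symm)
  simpa using congrArg e h

theorem not_alt_six (e : X ≃* alternatingGroup (Fin 6)) : False := by
  classical
  obtain ⟨ψ, hψ, htri⟩ := alt_six_witness
  let f : Multiplicative (ZMod 3 × ZMod 3) →* X := e.symm.toMonoidHom.comp ψ
  let φ : Multiplicative (ZMod 3 × ZMod 3) →* Equiv.Perm (Fin 64) := R.ρ.comp f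
  letI : MulAction (Multiplicative (ZMod 3 × ZMod 3)) (Fin 64) := MulAction.compHom (Fin 64) φ
  have hcube : ∀ v : Multiplicative (ZMod 3 × ZMod 3), v ^ 3 = 1 := by decide
  haveI : Fact (Nat.Prime 3) := ⟨by norm_num⟩
  have hcard : ∀ v, (R.fixF (f v)).card = if v = 1 then 64 else 4 := by
    intro v
    split_ifs with hv
    · subst hv
      simp [Rep.fixF, f]
    obtain ⟨a, b, hab⟩ := htri v hv
    obtain ⟨h1, h2, h3, h4, h5, h6, h7, h8⟩ := four_triple_map e hab
    have hb := R.triple_fix h1 h2 h3 h4 h5 h6 h7 h8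
    have hmod := R.card_fix_modEq (f v) (p := 3) (by rw [← map_pow, hcube v, map_one])
    change (R.fixF (f v)).card ≤ 4 ∧ 2 ≤ (R.fixF (f v)).card at hb
    have hd := R.fixF_card_dvd (f v)
    obtain ⟨hb1, hb2⟩ := hb
    interval_cases hx : (R.fixF (f v)).card <;> omega
  have hfix : ∀ v : Multiplicative (ZMod 3 × ZMod 3),
      Fintype.card (MulAction.fixedBy (Fin 64) v) = (R.fixF (f v)).card := fun v => by
    rw [← Fintype.card_coe]
    exact Fintype.card_congr (Equiv.subtypeEquivRight fun a => (R.mem_fixF).symm)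
  have hburn := MulAction.sum_card_fixedBy_eq_card_orbits_mul_card_group
    (Multiplicative (ZMod 3 × ZMod 3)) (Fin 64)
  rw [Finset.sum_congr rfl fun v _ => (hfix v).trans (hcard v)] at hburn
  have hsum : ∑ v : Multiplicative (ZMod 3 × ZMod 3), (if v = 1 then 64 else 4) = 96 := by
    rw [← Finset.add_sum_erase _ _ (Finset.mem_univ (1 : Multiplicative (ZMod 3 × ZMod 3))), if_pos rfl,
      Finset.sum_congr rfl (g := fun _ => 4) fun v hv => if_neg (Finset.ne_of_mem_erase hv),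
      Finset.sum_const, Finset.card_erase_of_mem (Finset.mem_univ _), Finset.card_univ]
    rfl
  rw [hsum, show Fintype.card (Multiplicative (ZMod 3 × ZMod 3)) = 9 by decide] at hburn
  omega

theorem seven_fix (e : X ≃* L32) {n : X} (hn : orderOf n = 7) : R.fixF n = {0} := by
  classical
  haveI : Fact (Nat.Prime 7) := ⟨by norm_num⟩
  haveI : Fact (Nat.Prime 3) := ⟨by norm_num⟩
  have hn1 : n ≠ 1 := fun h => by rw [h, orderOf_one] at hn; norm_num at hn
  have h0 : (0 : Fin 64) ∈ R.fixF n := R.mem_fixF.2 (R.ρ_zero n)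
  by_contra hne
  have hgt : 1 < (R.fixF n).card := by
    by_contra hle
    exact hne (Finset.eq_singleton_iff_unique_mem.2 ⟨h0, fun x hx =>
      Finset.card_le_one.1 (by omega) x hx 0 h0⟩)
  have hf8 : (R.fixF n).card = 8 := by
    have hd := R.fixF_card_dvd n
    have hmod := R.card_fix_modEq n (p := 7) (by rw [← hn, pow_orderOf_eq_one])
    have hle := Nat.le_of_dvd (by norm_num) hd
    have hne64 : (R.fixF n).card ≠ 64 := fun h64 => hn1 (R.eq_one_of_fix fun a =>
      R.mem_fixF.1 ((Finset.eq_univ_of_card _ (by rw [h64, Fintype.card_fin])).symm ▸ Finset.mem_univ a))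
    interval_cases hx : (R.fixF n).card <;> omega
  obtain ⟨u, t, a, b, c, a', b', c', hun, hu3, hu1, hgood, ht, ht1, hinv, htr, htr', hQ, e1, e2, e3, hclo⟩ :=
    l32_seven (e n) (by rw [MulEquiv.orderOf_eq, hn])
  set u₀ := e.symm u with hu₀
  have hu₀n : u₀ * n * u₀⁻¹ ∈ Subgroup.zpowers n := by
    obtain ⟨i, hi⟩ := hun
    refine ⟨i, ?_⟩
    apply e.injective
    simp only [map_zpow, map_mul, map_inv, hu₀, MulEquiv.apply_symm_apply]
    exact hi
  have hu₀3 : u₀ ^ 3 = 1 := by rw [hu₀, ← map_pow, hu3, map_one]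
  have hfixpow : ∀ y ∈ Subgroup.zpowers n, ∀ x ∈ R.fixF n, R.ρ y x = x := by
    rintro y ⟨i, rfl⟩ x hx
    show R.ρ (n ^ i) x = x
    rw [map_zpow]
    exact Equiv.Perm.zpow_apply_eq_self_of_apply_eq_self (R.mem_fixF.1 hx) i
  have hpres : ∀ x, x ∈ R.fixF n → R.ρ u₀ x ∈ R.fixF n := by
    intro x hx
    have h2 : u₀ * u₀ * n * (u₀ * u₀)⁻¹ ∈ Subgroup.zpowers n := by
      obtain ⟨i, hi⟩ := hu₀n
      have : u₀ * u₀ * n * (u₀ * u₀)⁻¹ = (u₀ * n * u₀⁻¹) ^ i := by
        rw [conj_zpow, show n ^ i = u₀ * n * u₀⁻¹ from hi]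
        group
      rw [this]
      exact Subgroup.zpow_mem _ (by obtain ⟨j, hj⟩ := (⟨i, hi⟩ : u₀ * n * u₀⁻¹ ∈ Subgroup.zpowers n)
                                    exact ⟨j, hj⟩) _
    have hinv' : u₀⁻¹ = u₀ * u₀ := inv_eq_of_mul_eq_one_right (by
      rw [← mul_assoc, ← pow_two, ← pow_succ, hu₀3])
    have e' : u₀⁻¹ * n * u₀ ∈ Subgroup.zpowers n := by
      rwa [← hinv', inv_inv] at h2
    rw [mem_fixF, ← R.ρ_mul, show n * u₀ = u₀ * (u₀⁻¹ * n * u₀) by group, R.ρ_mul, hfixpow _ e' x hx]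
  have hiff : ∀ x, R.ρ u₀ x ∈ R.fixF n ↔ x ∈ R.fixF n := by
    refine fun x => ⟨fun hx => ?_, hpres x⟩
    have h3 : R.ρ u₀ (R.ρ u₀ (R.ρ u₀ x)) = x := by
      rw [← R.ρ_mul, ← R.ρ_mul, show u₀ * u₀ * u₀ = u₀ ^ 3 by rw [pow_succ, pow_two], hu₀3, map_one,
        Equiv.Perm.one_apply]
    rw [← h3]
    exact hpres _ (hpres _ hx)
  set σ := (R.ρ u₀).subtypePerm (p := fun x => x ∈ R.fixF n) hiff with hσ
  have hσ3 : σ ^ 3 ^ 1 = 1 := by
    rw [pow_one]
    ext x
    show ((σ ^ 3) x : Fin 64).val = _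
    rw [hσ, Equiv.Perm.subtypePerm_pow]
    simp [← map_pow, hu₀3]
  have hmod := Equiv.Perm.card_compl_support_modEq hσ3
  rw [Fintype.card_coe, hf8] at hmod
  obtain ⟨q, hq, hq0⟩ : ∃ q ∈ σ.supportᶜ, q ≠ ⟨0, h0⟩ := by
    refine Finset.exists_mem_ne ?_ _
    by_contra hle
    unfold Nat.ModEq at hmod
    omega
  have hqn := q.2
  have hqu : R.ρ u₀ q = q := by
    have := Finset.mem_compl.1 hq
    rw [Equiv.Perm.mem_support, not_not] at this
    exact congrArg Subtype.val this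
  have hq00 : (q : Fin 64) ≠ 0 := fun h => hq0 (Subtype.ext h)
  obtain ⟨x, y, hxy⟩ := hgood
  obtain ⟨g1, g2, g3, g4, g5, g6, g7, g8⟩ := four_triple_map e hxy
  have hule := (R.triple_fix g1 g2 g3 g4 g5 g6 g7 g8).1
  have hu₀odd : Odd (orderOf u₀) := by
    have : u₀ ≠ 1 := fun h => hu1 (by simpa [hu₀] using congrArg e h)
    rw [orderOf_eq_prime hu₀3 this]; decide
  have hqt : R.ρ (e.symm t) q = q := R.mem_fixF.1 (R.fix_sub_of_invert hu₀odd (t := e.symm t)
    (by rw [← map_mul, ht, map_one]) (fun h => ht1 (by simpa using congrArg e h))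
    (by rw [hu₀, ← map_inv, ← map_mul, ← map_mul, hinv, map_inv]) hule (R.mem_fixF.2 hqu))
  let H : Subgroup L32 :=
    { carrier := {k | R.ρ (e.symm k) q = q}
      one_mem' := by simp
      mul_mem' := fun {k k'} (hk : R.ρ (e.symm k) q = q) (hk' : R.ρ (e.symm k') q = q) => by
        show R.ρ (e.symm (k * k')) q = q
        rw [map_mul, R.ρ_mul, hk', hk]
      inv_mem' := fun {k} (hk : R.ρ (e.symm k) q = q) => by
        show R.ρ (e.symm k⁻¹) q = q
        conv_lhs => rw [← hk, map_inv, R.ρ_inv_apply] }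
  obtain ⟨ha, hb, hc, ha', hb', hc'⟩ := hclo H
    (show R.ρ (e.symm (e n)) q = q by rw [MulEquiv.symm_apply_apply]; exact R.mem_fixF.1 hqn) hqu hqt
  obtain ⟨g, hg⟩ := R.exists_conj_mem
    ((Subgroup.closure ({a, b, a', b'} : Set L32)).map e.symm.toMonoidHom) (hQ.map _)
  have hd : ∀ k, k ∈ ({a, b, a', b'} : Set L32) → ∃ h, R.d h = g * e.symm k * g⁻¹ := fun k hk =>
    R.mem_DG.1 (hg _ ⟨k, Subgroup.subset_closure hk, rfl⟩)
  obtain ⟨i, hi⟩ := hd a (by simp)
  obtain ⟨j, hj⟩ := hd b (by simp)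
  obtain ⟨i', hi'⟩ := hd a' (by simp)
  obtain ⟨j', hj'⟩ := hd b' (by simp)
  have hpair : ∀ {k x y : L32} {p r : Fin 8}, IsFourTriple k x y → R.d p = g * e.symm x * g⁻¹ →
      R.d r = g * e.symm y * g⁻¹ → k ∈ H → x ∈ H → y ∈ H →
      (p, r) ∈ pairs ∧ R.ρ g q ∈ (common (p, r)).toFinset := by
    intro k x y p r htri hp hr hk hx hy
    obtain ⟨u1, u2, u3, u4, u5, u6, u7, u8⟩ := four_triple_map e htri
    have hmem : (p, r) ∈ pairs := mem_pairs p r
      (fun h => u3 (conj_eq_one_iff.1 (hp.symm.trans (R.d_eq_one.2 h))))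
      (fun h => u4 (conj_eq_one_iff.1 (hr.symm.trans (R.d_eq_one.2 h))))
      (fun h => u5 (by simpa using hp.symm.trans ((congrArg R.d h).trans hr)))
      (R.d_eq_one.1 (by rw [← R.d_mul, hp, conj_mul, u1, mul_one, mul_inv_cancel]))
      (R.d_eq_one.1 (by rw [← R.d_mul, hr, conj_mul, u2, mul_one, mul_inv_cancel]))
      (R.d_inj (by rw [← R.d_mul, ← R.d_mul, hp, hr, conj_mul, conj_mul, u6]))
    have c1 : (g * e.symm k * g⁻¹) * R.d p * (g * e.symm k * g⁻¹)⁻¹ = R.d r := by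
      rw [hp, hr, ← u7]; group
    have c2 : (g * e.symm k * g⁻¹) * R.d r * (g * e.symm k * g⁻¹)⁻¹ = R.d (dMul p r) := by
      rw [← R.d_mul, hp, hr, show g * e.symm x * g⁻¹ * (g * e.symm y * g⁻¹) =
        g * (e.symm x * e.symm y) * g⁻¹ by group, ← u8]
      group
    refine ⟨hmem, (R.four_fix hmem c1 c2).2.2 _ ?_ ?_ ?_⟩
    all_goals first
      | (rw [hp]; simp only [R.ρ_mul, R.ρ_inv_apply]; exact congrArg _ hx)
      | (rw [hr]; simp only [R.ρ_mul, R.ρ_inv_apply]; exact congrArg _ hy)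
      | (simp only [R.ρ_mul, R.ρ_inv_apply]; exact congrArg _ hk)
  obtain ⟨hp1, hm1⟩ := hpair htr hi hj hc ha hb
  obtain ⟨hp2, hm2⟩ := hpair htr' hi' hj' hc' ha' hb'
  have hne_of : ∀ {x : L32} {p : Fin 8}, R.d p = g * e.symm x * g⁻¹ → a ≠ x → i ≠ p := by
    intro x p hp hax h
    subst h
    exact hax (e.symm.injective (by simpa using hi.symm.trans hp))
  have h3' : R.d (dMul i' j') = g * e.symm (a' * b') * g⁻¹ := by
    rw [← R.d_mul, hi', hj', map_mul]; group
  have hz := common_facts_sep hp1 hp2 (hne_of hi' e1) (hne_of hj' e2) (hne_of h3' e3) hm1 hm2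
  exact hq00 ((R.ρ g).injective (hz.trans (R.ρ_zero g).symm))

theorem exists_fix_rep {n : X} (hn : Odd (orderOf n)) (hn1 : n ≠ 1) :
    (R.fixF n).card ≤ 4 ∧ ∃ t, t * t = 1 ∧ t ≠ 1 ∧ R.fixF n ⊆ R.fixF t := by
  rcases R.types with h8 | ⟨⟨e⟩⟩ | ⟨⟨e⟩⟩ | ⟨⟨e⟩⟩ | ⟨⟨e⟩⟩
  · exfalso
    have hd := orderOf_dvd_natCard n
    rw [h8] at hd
    refine hn1 (orderOf_eq_one_iff.1 (Nat.Coprime.eq_one_of_dvd ?_ hd))
    rw [show (8 : ℕ) = 2 ^ 3 by norm_num]
    exact (Nat.coprime_two_right.2 hn).pow_right 3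
  · exact R.good_fix hn (good_map e (perm_four_good (e n) (by rwa [MulEquiv.orderOf_eq])
      (fun h => hn1 (by simpa using congrArg e.symm h))))
  · exact (R.not_perm_five e).elim
  · rcases l32_odd (e n) (by rwa [MulEquiv.orderOf_eq])
      (fun h => hn1 (by simpa using congrArg e.symm h)) with h | h
    · exact R.good_fix hn (good_map e h)
    · rw [MulEquiv.orderOf_eq] at h
      rw [R.seven_fix e h]
      refine ⟨by simp, R.d 1, by rw [R.d_mul, four_one.1, R.d_zero],
        fun e' => absurd (R.d_eq_one.1 e') (by decide), fun x hx => ?_⟩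
      rw [Finset.mem_singleton.1 hx, mem_fixF, R.ρ_zero]
  · exact (R.not_alt_six e).elim

end Rep

theorem dAct_zero : ∀ v : Fin 6, tFn (0 : Fin 8) (2 ^ (v : ℕ)) = 2 ^ (v : ℕ) := by decide +kernel

section Group

variable {G : Type*} [Group G] [Finite G] (S : Sylow 2 G)
  (m : CfsgLib.StructC.M24SylQ.Model ↥(S : Subgroup G)) (A : Subgroup G) (hA : A ≤ (S : Subgroup G))
  (hAc : IsMulCommutative ↥A) (hA64 : Nat.card ↥A = 64)

include hA hAc hA64 m in
theorem exists_rep : ∃ (R : Rep (Subgroup.normalizer (A : Set G) ⧸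
      (Subgroup.centralizer (A : Set G)).subgroupOf (Subgroup.normalizer (A : Set G))))
    (ι : Fin 64 → G), Function.Injective ι ∧ (∀ x, x ∈ A ↔ ∃ v, ι v = x) ∧
      ∀ (g : Subgroup.normalizer (A : Set G)) v, ι (R.ρ (QuotientGroup.mk g) v) = (g : G) * ι v * (g : G)⁻¹ := by
  classical
  set S₀ := (S : Subgroup G) with hS₀
  have hcomm : IsMulCommutative (A.subgroupOf S₀) := by
    refine ⟨⟨fun x y => Subtype.ext (Subtype.ext ?_)⟩⟩
    have e := hAc.is_comm.comm (⟨((x : S₀) : G), Subgroup.mem_subgroupOf.1 x.2⟩ : A)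
      ⟨((y : S₀) : G), Subgroup.mem_subgroupOf.1 y.2⟩
    exact congrArg (fun z : A => (z : G)) e
  have hab : A.subgroupOf S₀ = m.abel := m.abel_unique _ hcomm (by
    rw [Nat.card_congr (Subgroup.subgroupOfEquivOfLe hA).toEquiv, hA64])
  set ι : Fin 64 → G := fun v => (m.f v : G) with hι
  have hιinj : Function.Injective ι := fun v w e =>
    Fin.ext (m.inj v (by omega) w (by omega) (Subtype.ext e))
  have hιmem : ∀ x, x ∈ A ↔ ∃ v, ι v = x := by
    intro x
    constructor
    · intro hx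
      have : (⟨x, hA hx⟩ : S₀) ∈ m.abel := hab ▸ Subgroup.mem_subgroupOf.2 hx
      obtain ⟨a, ha, e⟩ := this
      exact ⟨⟨a, ha⟩, congrArg Subtype.val e⟩
    · rintro ⟨v, rfl⟩
      exact Subgroup.mem_subgroupOf.1 (hab.symm ▸ ⟨v, v.2, rfl⟩ : m.f v ∈ A.subgroupOf S₀)
  have hιadd : ∀ v w, ι (xr v w) = ι v * ι w := by
    intro v w
    have h := List.all_eq_true.1 small_ok v (List.mem_range.2 v.2)
    simp only [Bool.and_eq_true, List.all_eq_true] at h
    show (m.f ((v : ℕ) ^^^ (w : ℕ)) : G) = m.f v * m.f w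
    rw [← Subgroup.coe_mul, ← m.map_mu v (by omega) w (by omega),
      Nat.eq_of_beq_eq_true (h.2 w (List.mem_range.2 w.2))]
    rfl
  set N := Subgroup.normalizer (A : Set G) with hN
  have hconj : ∀ (g : N) v, (g : G) * ι v * (g : G)⁻¹ ∈ A := fun g v =>
    (Subgroup.mem_normalizer_iff.1 g.2 _).1 ((hιmem _).2 ⟨v, rfl⟩)
  choose ρf hρf using fun g v => (hιmem _).1 (hconj g v)
  have hmul : ∀ g h v, ρf (g * h) v = ρf g (ρf h v) := fun g h v => hιinj (by
    rw [hρf, hρf, hρf, Subgroup.coe_mul]; group)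
  have hone : ∀ v, ρf 1 v = v := fun v => hιinj (by rw [hρf]; simp)
  let ρ₀ : N →* Equiv.Perm (Fin 64) :=
    { toFun := fun g =>
        { toFun := ρf g
          invFun := ρf g⁻¹
          left_inv := fun v => by rw [← hmul, inv_mul_cancel, hone]
          right_inv := fun v => by rw [← hmul, mul_inv_cancel, hone] }
      map_one' := Equiv.ext hone
      map_mul' := fun g h => Equiv.ext (hmul g h) }
  set C := (Subgroup.centralizer (A : Set G)).subgroupOf N with hCdef
  have hker : ∀ g : N, ρ₀ g = 1 ↔ g ∈ C := by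
    intro g
    rw [hCdef, Subgroup.mem_subgroupOf, Subgroup.mem_centralizer_iff]
    constructor
    · intro h x hx
      obtain ⟨v, rfl⟩ := (hιmem x).1 hx
      have e := congrArg ι (DFunLike.congr_fun h v)
      change ι (ρf g v) = ι v at e
      rw [hρf] at e
      exact (mul_inv_eq_iff_eq_mul.1 e).symm
    · intro h
      refine Equiv.ext fun v => hιinj ?_
      show ι (ρf g v) = ι v
      rw [hρf, ← h _ ((hιmem _).2 ⟨v, rfl⟩), mul_inv_cancel_right]
  haveI hCn : C.Normal := by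
    have : C = ρ₀.ker := by ext g; rw [MonoidHom.mem_ker, hker]
    rw [this]; infer_instance
  let ρ : N ⧸ C →* Equiv.Perm (Fin 64) := QuotientGroup.lift C ρ₀ fun g hg => (hker g).2 hg
  have hSN : S₀ ≤ N := by
    haveI : (A.subgroupOf S₀).Normal := by
      refine ⟨fun x hx s => ?_⟩
      have hB : (A.subgroupOf S₀).map (MulAut.conj s).toMonoidHom = m.abel := by
        refine m.abel_unique _ ?_ ?_
        · refine ⟨⟨fun y z => Subtype.ext ?_⟩⟩
          obtain ⟨y', hy', ey⟩ := y.2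
          obtain ⟨z', hz', ez⟩ := z.2
          show (y : S₀) * z = z * y
          rw [← ey, ← ez, ← map_mul, ← map_mul]
          exact congrArg _ (congrArg Subtype.val (hcomm.is_comm.comm ⟨y', hy'⟩ ⟨z', hz'⟩))
        · rw [Subgroup.card_map_of_injective (MulAut.conj s).injective,
            Nat.card_congr (Subgroup.subgroupOfEquivOfLe hA).toEquiv, hA64]
      have : MulAut.conj s x ∈ (A.subgroupOf S₀).map (MulAut.conj s).toMonoidHom := ⟨x, hx, rfl⟩
      rw [hB, ← hab] at this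
      exact this
    exact (Subgroup.normal_subgroupOf_iff_le_normalizer hA).1 inferInstance
  let D : Fin 8 → N ⧸ C := fun h => QuotientGroup.mk ⟨(m.f (64 * (h : ℕ)) : G), hSN (m.f _).2⟩
  have hD : ∀ h v, ρ (D h) v = dAct h v := by
    intro h v
    refine hιinj ?_
    show ι (ρf _ v) = _
    rw [hρf]
    show (m.f (64 * (h : ℕ)) : G) * m.f v * (m.f (64 * (h : ℕ)) : G)⁻¹ = m.f (tFn h v)
    have hv := List.all_eq_true.1 (List.all_eq_true.1 mu_conj_check h (List.mem_range.2 h.2)) v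
      (List.mem_range.2 v.2)
    refine mul_inv_eq_iff_eq_mul.2 ?_
    rw [← Subgroup.coe_mul, ← Subgroup.coe_mul, ← m.map_mu _ (by omega) _ (by omega),
      ← m.map_mu _ ((tFn_lt h v).trans (by norm_num)) _ (by omega), Nat.eq_of_beq_eq_true hv]
  refine ⟨{ ρ := ρ, inj := ?_, lin := ?_, d := D, d_act := hD, index_odd := ?_ }, ι, hιinj, hιmem,
    fun g v => hρf g v⟩
  · rw [injective_iff_map_eq_one]
    intro x
    obtain ⟨g, rfl⟩ := QuotientGroup.mk_surjective x
    intro hg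
    exact (QuotientGroup.eq_one_iff g).2 ((hker g).1 hg)
  · intro x v w
    obtain ⟨g, rfl⟩ := QuotientGroup.mk_surjective x
    refine hιinj ?_
    show ι (ρf g (xr v w)) = ι (xr (ρf g v) (ρf g w))
    rw [hρf, hιadd, hιadd, hρf, hρf]; group
  · have hSC : S₀ ⊓ Subgroup.centralizer (A : Set G) = A := by
      refine le_antisymm ?_ (le_inf hA fun x hx => Subgroup.mem_centralizer_iff.2 fun y hy =>
        congrArg Subtype.val (hAc.is_comm.comm ⟨y, hy⟩ ⟨x, hx⟩))
      rintro x ⟨hxS, hxC⟩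
      obtain ⟨a, ha, hfa⟩ := m.surj ⟨x, hxS⟩
      have h8 := hpart_lt ha
      have hsplit := List.all_eq_true.1 split_ok a (List.mem_range.2 ha)
      have hx' : x = (m.f (vpart a) : G) * m.f (64 * hpart a) := by
        rw [← Subgroup.coe_mul, ← m.map_mu _ ((vpart_lt a).trans (by norm_num)) _ (by omega)]
        have e : Nat.shiftLeft (hpart a) 6 = 64 * hpart a := by
          show hpart a <<< 6 = _
          rw [Nat.shiftLeft_eq]; ring
        rw [← e, Nat.eq_of_beq_eq_true hsplit, hfa]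
      have hvA : (m.f (vpart a) : G) ∈ A := (hιmem _).2 ⟨⟨vpart a, vpart_lt a⟩, rfl⟩
      have hhC : (m.f (64 * hpart a) : G) ∈ Subgroup.centralizer (A : Set G) := by
        have : (m.f (vpart a) : G) ∈ Subgroup.centralizer (A : Set G) :=
          Subgroup.mem_centralizer_iff.2 fun y hy =>
            congrArg Subtype.val (hAc.is_comm.comm ⟨y, hy⟩ ⟨_, hvA⟩)
        have := mul_mem (inv_mem this) (hx' ▸ hxC)
        rwa [inv_mul_cancel_left] at this
      have e0 : D ⟨hpart a, h8⟩ = 1 := (QuotientGroup.eq_one_iff _).2 (Subgroup.mem_subgroupOf.2 hhC)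
      have : (⟨hpart a, h8⟩ : Fin 8) = 0 := dAct_faithful _ _ fun v => by
        have h1 := hD ⟨hpart a, h8⟩ ⟨2 ^ (v : ℕ), by
          calc 2 ^ (v : ℕ) ≤ 2 ^ 5 := Nat.pow_le_pow_right (by norm_num) (by omega)
            _ < 64 := by norm_num⟩
        rw [e0, map_one, Equiv.Perm.one_apply] at h1
        have h2 := congrArg Fin.val h1
        simp only [dAct] at h2
        rw [← h2]
        exact (dAct_zero v).symm
      rw [hx', show hpart a = 0 from congrArg Fin.val this, mul_zero, m.f_zero]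
      simpa using hvA
    obtain ⟨k, hk, hcard⟩ : ∃ k, Odd k ∧ Nat.card N = 512 * k := by
      obtain ⟨k, hk⟩ := Subgroup.card_dvd_of_le hSN
      rw [show Nat.card S₀ = 512 from m.card] at hk
      refine ⟨k, ?_, hk⟩
      rw [Nat.odd_iff, ← Nat.two_dvd_ne_zero]
      intro h2
      have hd := Subgroup.card_subgroup_dvd_card N
      rw [hk] at hd
      have : 2 ^ 10 ∣ Nat.card G := (show 2 ^ 10 ∣ 512 * k by
        obtain ⟨r, rfl⟩ := h2; exact ⟨r, by ring⟩).trans hd
      obtain ⟨T, hT⟩ := Sylow.exists_subgroup_card_pow_prime 2 this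
      obtain ⟨T', hT'⟩ := (IsPGroup.of_card (n := 10) hT : IsPGroup 2 T).exists_le_sylow
      have := Subgroup.card_dvd_of_le hT'
      rw [hT, Sylow.card_eq_multiplicity, ← Sylow.card_eq_multiplicity S,
        show Nat.card S = 512 from m.card] at this
      norm_num at this
    have hq := C.card_eq_card_quotient_mul_card_subgroup
    rw [hcard] at hq
    -- the image of the Sylow subgroup has order eight
    let π : S₀ →* N ⧸ C := (QuotientGroup.mk' C).comp (Subgroup.inclusion hSN)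
    have hπker : π.ker = A.subgroupOf S₀ := by
      ext x
      rw [MonoidHom.mem_ker, Subgroup.mem_subgroupOf]
      show (QuotientGroup.mk (Subgroup.inclusion hSN x) : N ⧸ C) = 1 ↔ _
      rw [QuotientGroup.eq_one_iff, hCdef, Subgroup.mem_subgroupOf]
      refine ⟨fun h => ?_, fun h => Subgroup.mem_centralizer_iff.2 fun y hy =>
        congrArg Subtype.val (hAc.is_comm.comm ⟨y, hy⟩ ⟨_, h⟩)⟩
      have : (x : G) ∈ S₀ ⊓ Subgroup.centralizer (A : Set G) := ⟨x.2, h⟩
      rwa [hSC] at this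
    have h8 : Nat.card π.range = 8 := by
      have h := π.ker.index_mul_card
      rw [Subgroup.index_ker, hπker, Nat.card_congr (Subgroup.subgroupOfEquivOfLe hA).toEquiv, hA64,
        show Nat.card S₀ = 512 from m.card] at h
      omega
    obtain ⟨r, hr⟩ := h8 ▸ Subgroup.card_subgroup_dvd_card π.range
    refine ⟨r, ?_, hr⟩
    have h64 : 64 ∣ Nat.card C := by
      rw [← hA64, ← Nat.card_congr (Subgroup.subgroupOfEquivOfLe (hA.trans hSN)).toEquiv]
      exact Subgroup.card_dvd_of_le fun x hx => by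
        rw [hCdef, Subgroup.mem_subgroupOf]
        exact Subgroup.mem_centralizer_iff.2 fun y hy =>
          congrArg Subtype.val (hAc.is_comm.comm ⟨y, hy⟩ ⟨_, Subgroup.mem_subgroupOf.1 hx⟩)
    obtain ⟨c, hc⟩ := h64
    rw [hr, hc] at hq
    have : k = r * c := by
      have h' : 512 * k = 512 * (r * c) := by rw [hq]; ring
      omega
    exact (Nat.odd_mul.1 (this ▸ hk)).1


include hA hAc hA64 m in
theorem cit {t n : G} (ht : t ∈ Subgroup.normalizer (A : Set G))
    (htA : t ∉ Subgroup.centralizer (A : Set G))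
    (ht2 : t * t ∈ Subgroup.centralizer (A : Set G)) (hn : n ∈ Subgroup.normalizer (A : Set G))
    (hodd : Odd (orderOf n)) (hnt : n * t * n⁻¹ * t⁻¹ ∈ Subgroup.centralizer (A : Set G)) :
    n ∈ Subgroup.centralizer (A : Set G) := by
  obtain ⟨R, -, -, -, -⟩ := exists_rep S m A hA hAc hA64
  set N := Subgroup.normalizer (A : Set G)
  set C := (Subgroup.centralizer (A : Set G)).subgroupOf N with hC
  have hmk : ∀ g : N, (QuotientGroup.mk g : N ⧸ C) = 1 ↔ (g : G) ∈ Subgroup.centralizer (A : Set G) :=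
    fun g => (QuotientGroup.eq_one_iff g).trans Subgroup.mem_subgroupOf
  have h := R.cit (t := (QuotientGroup.mk ⟨t, ht⟩ : N ⧸ C)) (n := QuotientGroup.mk ⟨n, hn⟩)
    (by rw [← QuotientGroup.mk_mul, hmk]; exact ht2) (fun h => htA ((hmk _).1 h))
    (hodd.of_dvd_nat (by
      rw [← Subgroup.orderOf_mk n hn]
      exact orderOf_map_dvd (QuotientGroup.mk' C) (⟨n, hn⟩ : N)))
    (by
      show _ * _ = _ * _
      rw [← QuotientGroup.mk_mul, ← QuotientGroup.mk_mul, ← mul_inv_eq_one, ← QuotientGroup.mk_inv,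
        ← QuotientGroup.mk_mul, hmk]
      simpa [mul_assoc] using hnt)
  exact (hmk _).1 h

include hA hAc hA64 m in
theorem exists_fix {n : G} (hn : n ∈ Subgroup.normalizer (A : Set G)) (hodd : Odd (orderOf n))
    (hnA : n ∉ Subgroup.centralizer (A : Set G)) :
    Nat.card ↥(A ⊓ Subgroup.centralizer ({n} : Set G)) ≤ 4 ∧
      ∃ t ∈ Subgroup.normalizer (A : Set G), t ∉ Subgroup.centralizer (A : Set G) ∧
        t * t ∈ Subgroup.centralizer (A : Set G) ∧ ∀ a ∈ A, n * a = a * n → t * a = a * t := by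
  obtain ⟨R, ι, hinj, hmem, hρ⟩ := exists_rep S m A hA hAc hA64
  set N := Subgroup.normalizer (A : Set G)
  set C := (Subgroup.centralizer (A : Set G)).subgroupOf N with hC
  have hmk : ∀ g : N, (QuotientGroup.mk g : N ⧸ C) = 1 ↔ (g : G) ∈ Subgroup.centralizer (A : Set G) :=
    fun g => (QuotientGroup.eq_one_iff g).trans Subgroup.mem_subgroupOf
  obtain ⟨hle, t', ht2, ht1, hsub⟩ := R.exists_fix_rep (n := (QuotientGroup.mk ⟨n, hn⟩ : N ⧸ C))
    (hodd.of_dvd_nat (by
      rw [← Subgroup.orderOf_mk n hn]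
      exact orderOf_map_dvd (QuotientGroup.mk' C) (⟨n, hn⟩ : N)))
    (fun h => hnA ((hmk _).1 h))
  obtain ⟨⟨t, ht⟩, rfl⟩ := QuotientGroup.mk_surjective t'
  have hfix : ∀ (g : N) v, v ∈ R.fixF (QuotientGroup.mk g) ↔ (g : G) * ι v = ι v * (g : G) := fun g v => by
    rw [R.mem_fixF, ← mul_inv_eq_iff_eq_mul, ← hρ, hinj.eq_iff]
  refine ⟨?_, t, ht, fun h => ht1 ((hmk _).2 h), (hmk _).1 (by rw [QuotientGroup.mk_mul]; exact ht2),
    fun a ha hc => ?_⟩
  · classical
    refine le_trans ?_ hle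
    rw [← Nat.card_eq_finsetCard]
    choose f hf using fun x : ↥(A ⊓ Subgroup.centralizer ({n} : Set G)) => (hmem _).1 x.2.1
    refine Nat.card_le_card_of_injective (fun x => ⟨f x, (hfix ⟨n, hn⟩ _).2 (by
      show n * ι (f x) = ι (f x) * n
      rw [hf x]; exact (Subgroup.mem_centralizer_singleton_iff.1 x.2.2).symm)⟩) fun x y e => ?_
    refine Subtype.ext ?_
    rw [← hf x, ← hf y, show f x = f y from congrArg Subtype.val e]
  · obtain ⟨v, rfl⟩ := (hmem a).1 ha
    exact (hfix ⟨t, ht⟩ v).1 (hsub ((hfix ⟨n, hn⟩ v).2 hc))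

end Group

end CfsgLib.SylM24Q
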