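import Cfsg.Agent.Lib.StructC.M24SylQModel
import Mathlib.GroupTheory.SpecificGroups.Dihedral

/-!
The action of the eight cosets on the elementary abelian subgroup of order 64 in the model of order 512.
-/

set_option autoImplicit false
set_option maxRecDepth 100000

namespace CfsgLib.SylM24Q

open CfsgLib.StructC.M24SylQ

/-- The sum of two points. -/
def xr (a b : Fin 64) : Fin 64 := ⟨(a : ℕ) ^^^ (b : ℕ), Nat.xor_lt_two_pow (n := 6) a.2 b.2⟩

theorem xr_val (a b : Fin 64) : (xr a b : ℕ) = (a : ℕ) ^^^ (b : ℕ) := rfl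

theorem xr_self (a : Fin 64) : xr a a = 0 := Fin.ext (Nat.xor_self _)

theorem xr_zero (a : Fin 64) : xr a 0 = a := Fin.ext (Nat.xor_zero _)

theorem zero_xr (a : Fin 64) : xr 0 a = a := Fin.ext (Nat.zero_xor _)

theorem xr_comm (a b : Fin 64) : xr a b = xr b a := Fin.ext (Nat.xor_comm _ _)

theorem xr_assoc (a b c : Fin 64) : xr (xr a b) c = xr a (xr b c) := Fin.ext (Nat.xor_assoc _ _ _)

theorem xr_cancel (a b : Fin 64) : xr a (xr a b) = b := by rw [← xr_assoc, xr_self, zero_xr]

theorem xr_eq_zero {a b : Fin 64} : xr a b = 0 ↔ a = b :=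
  ⟨fun h => by rw [← xr_zero a, ← h, xr_cancel], fun h => by rw [h, xr_self]⟩

/-- The product of two cosets. -/
def dMul (h k : Fin 8) : Fin 8 :=
  ⟨hpart (psi h k), hpart_lt (psi_lt _ _)⟩

/-- The action of a coset. -/
def dAct (h : Fin 8) (v : Fin 64) : Fin 64 := ⟨tFn h v, tFn_lt _ _⟩

/-- The displacement of a point. -/
def dif (h : Fin 8) (v : Fin 64) : Fin 64 := xr (dAct h v) v

/-- A point is a displacement. -/
def inRg (h : Fin 8) (a : Fin 64) : Bool :=
  (List.range 64).any fun u => Nat.beq (Nat.xor (tFn h u) u) a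

/-- A point is fixed. -/
def fixB (h : Fin 8) (a : Fin 64) : Bool := Nat.beq (tFn h a) a

theorem inRg_iff {h : Fin 8} {a : Fin 64} : inRg h a = true ↔ ∃ u, dif h u = a := by
  simp only [inRg, List.any_eq_true, List.mem_range]
  constructor
  · rintro ⟨u, hu, e⟩
    exact ⟨⟨u, hu⟩, Fin.ext (Nat.eq_of_beq_eq_true e)⟩
  · rintro ⟨u, rfl⟩
    exact ⟨u, u.2, Nat.beq_refl _⟩

theorem fixB_iff {h : Fin 8} {a : Fin 64} : fixB h a = true ↔ dAct h a = a :=
  ⟨fun e => Fin.ext (Nat.eq_of_beq_eq_true e), fun e => by
    rw [fixB, show tFn h a = (a : ℕ) from congrArg Fin.val e]; exact Nat.beq_refl _⟩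

theorem mu_conj_check : ((List.range 8).all fun h => (List.range 64).all fun v =>
    Nat.beq (mu (64 * h) v) (mu (tFn h v) (64 * h))) = true := by decide +kernel

theorem dAct_mul_check : ((List.range 8).all fun h => (List.range 8).all fun k => (List.range 64).all fun v =>
    Nat.beq (tFn h (tFn k v)) (tFn (hpart (psi h k)) v)) = true := by decide +kernel

theorem dAct_faithful : ∀ h k : Fin 8, (∀ v : Fin 6, tFn h (2 ^ (v : ℕ)) = tFn k (2 ^ (v : ℕ))) → h = k := by
  decide +kernel

theorem dAct_card_fix : ∀ h : Fin 8, dMul h h = 0 → h ≠ 0 →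
    ((List.range 64).filter fun a => Nat.beq (tFn h a) a).length = 16 := by decide +kernel

theorem dMul_zero : ∀ h : Fin 8, dMul h 0 = h ∧ dMul 0 h = h := by decide +kernel

/-- The pairs of commuting involutions. -/
def pairs : List (Fin 8 × Fin 8) :=
  [(1, 3), (1, 5), (1, 6), (1, 7), (3, 1), (3, 5), (5, 1), (5, 3), (6, 1), (6, 7), (7, 1), (7, 6)]

theorem mem_pairs : ∀ h k : Fin 8, h ≠ 0 → k ≠ 0 → h ≠ k → dMul h h = 0 → dMul k k = 0 →
    dMul h k = dMul k h → (h, k) ∈ pairs := by decide +kernel

/-- What holds for one four-subgroup. -/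
def fourOK (p : Fin 8 × Fin 8) : Bool :=
  let h := p.1
  let k := p.2
  let l := dMul h k
  (List.finRange 64).all (fun a => (!(fixB h a && fixB k a) ||
      ((inRg h a || inRg k a || inRg l a) && (List.finRange 64).any fun u => inRg k (xr a (dif h u)))) &&
    (!inRg h a || (fixB h a && fixB k a && (inRg k a == inRg l a))) &&
    (!inRg k a || (fixB h a && fixB k a && (inRg h a == inRg l a))) &&
    (!inRg l a || (fixB h a && fixB k a && (inRg h a == inRg k a))))

theorem four_check : (pairs.all fourOK) = true := by decide +kernel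

/-- The points common to the displacements of a four-subgroup. -/
def common (p : Fin 8 × Fin 8) : List (Fin 64) :=
  (List.finRange 64).filter fun a => inRg p.1 a && inRg p.2 a

theorem common_len : (pairs.all fun p => decide ((common p).length = 2) && (common p).contains 0 &&
    decide (((List.finRange 64).filter (inRg p.1)).length = 4)) = true := by
  decide +kernel

theorem common_sep : (pairs.all fun p => pairs.all fun q =>
    decide (p.1 = q.1) || decide (p.1 = q.2) || decide (p.1 = dMul q.1 q.2) ||
      (common p).all fun a => decide (a = 0) || !(common q).contains a) = true := by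
  decide +kernel

/-- The identification with the dihedral group. -/
def dihMap : DihedralGroup 4 → Fin 8
  | .r i => ([0, 2, 1, 4] : List (Fin 8)).getD i.val 0
  | .sr i => dMul 3 (([0, 2, 1, 4] : List (Fin 8)).getD i.val 0)

theorem dihMap_spec : (∀ a b, dihMap (a * b) = dMul (dihMap a) (dihMap b)) ∧
    Function.Bijective dihMap := by
  refine ⟨by decide +kernel, ?_, ?_⟩
  · unfold Function.Injective; decide +kernel
  · unfold Function.Surjective; decide +kernel

theorem central_one : ∀ h : Fin 8, (∀ k, dMul h k = dMul k h) ↔ (h = 0 ∨ h = 1) := by decide +kernel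

end CfsgLib.SylM24Q
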