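import Cfsg.Agent.Lib.SylM24Q.AutoRep
import Mathlib.Combinatorics.Pigeonhole
import Mathlib.GroupTheory.GroupAction.Quotient
import Mathlib.GroupTheory.Perm.Cycle.Type

/-!
Fixed points of elements of odd order in a faithful linear action on 64 points with the given Sylow subgroup.
-/

set_option autoImplicit false

namespace CfsgLib.SylM24Q

open CfsgLib.StructC.M24SylQ

theorem common_facts {p : Fin 8 × Fin 8} (hp : p ∈ pairs) :
    (common p).toFinset.card = 2 ∧ (0 : Fin 64) ∈ (common p).toFinset ∧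
      (∀ a, a ∈ (common p).toFinset ↔ inRg p.1 a = true ∧ inRg p.2 a = true) ∧
      ((List.finRange 64).filter (inRg p.1)).toFinset.card = 4 := by
  have hlen := List.all_eq_true.1 common_len _ hp
  simp only [Bool.and_eq_true, decide_eq_true_eq, List.contains_iff_mem] at hlen
  refine ⟨?_, List.mem_toFinset.2 hlen.1.2, fun a => by simp [common], ?_⟩
  · rw [common, List.toFinset_card_of_nodup ((List.nodup_finRange _).filter _)]
    exact hlen.1.1
  · rw [List.toFinset_card_of_nodup ((List.nodup_finRange _).filter _)]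
    exact hlen.2

theorem pairs_mul : ∀ p : Fin 8 × Fin 8, p ∈ pairs → dMul p.2 p.2 = 0 ∧ dMul p.2 (dMul p.1 p.2) = p.1 := by
  decide +kernel

/-- The points as a group. -/
def Pt := Fin 64

instance : Zero Pt := ⟨(0 : Fin 64)⟩
instance : Add Pt := ⟨xr⟩
instance : Neg Pt := ⟨fun a => a⟩

instance : AddCommGroup Pt where
  add_assoc := xr_assoc
  zero_add := zero_xr
  add_zero := xr_zero
  nsmul := nsmulRec
  zsmul := zsmulRec
  neg_add_cancel := xr_self
  add_comm := xr_comm

namespace Rep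

variable {X : Type*} [Group X] (R : Rep X)

theorem fixF_conj (g n : X) : R.fixF (g * n * g⁻¹) = (R.fixF n).map (R.ρ g).toEmbedding := by
  ext a
  rw [Finset.mem_map_equiv, mem_fixF, mem_fixF, R.ρ_mul, R.ρ_mul, show (R.ρ g).symm a = R.ρ g⁻¹ a from by
    rw [map_inv]; rfl]
  constructor
  · intro h
    have := congrArg (R.ρ g⁻¹) h
    rwa [R.ρ_inv_apply] at this
  · intro h
    rw [h, R.ρ_apply_inv]

theorem fixF_inv (n : X) : R.fixF n⁻¹ = R.fixF n := by
  ext a
  rw [mem_fixF, mem_fixF]
  constructor <;> intro h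
  · conv_lhs => rw [← h, R.ρ_apply_inv]
  · conv_lhs => rw [← h, R.ρ_inv_apply]

theorem fixF_pow_sub (n : X) (k : ℕ) : R.fixF n ⊆ R.fixF (n ^ k) := fun a ha => by
  rw [mem_fixF] at ha ⊢
  induction k with
  | zero => simp
  | succ k ih => rw [pow_succ, R.ρ_mul, ha, ih]

theorem fixF_card_dvd (n : X) : (R.fixF n).card ∣ 64 := by
  let H : AddSubgroup Pt :=
    { carrier := {a | R.ρ n a = a}
      zero_mem' := R.ρ_zero n
      add_mem' := fun {a b} (ha : R.ρ n a = a) (hb : R.ρ n b = b) =>
        (R.lin n a b).trans (congrArg₂ xr ha hb)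
      neg_mem' := fun {a} ha => ha }
  have h := AddSubgroup.card_addSubgroup_dvd_card H
  rw [show Nat.card Pt = 64 from Nat.card_fin 64] at h
  have e : Nat.card H = (R.fixF n).card := by
    rw [← Nat.card_eq_finsetCard]
    exact Nat.card_congr (Equiv.subtypeEquivRight fun a => (R.mem_fixF).symm)
  rwa [e] at h

/-- What a pair of the Sylow subgroup gives for an element permuting its three involutions. -/
theorem four_fix {n : X} {h k : Fin 8} (hp : (h, k) ∈ pairs) (c1 : n * R.d h * n⁻¹ = R.d k)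
    (c2 : n * R.d k * n⁻¹ = R.d (dMul h k)) :
    (R.fixF n).card ≤ 4 ∧ (∃ v, v ≠ 0 ∧ R.ρ n v = v) ∧
      ∀ a, R.ρ n a = a → R.ρ (R.d h) a = a → R.ρ (R.d k) a = a → a ∈ (common (h, k)).toFinset := by
  classical
  set l := dMul h k
  obtain ⟨hC2, hC0, hCmem, hr4⟩ := common_facts hp
  set C := (common (h, k)).toFinset
  simp only at hCmem hr4
  have hok := List.all_eq_true.1 four_check _ hp
  simp only [fourOK, List.all_eq_true, List.mem_finRange, forall_const, Bool.and_eq_true, Bool.or_eq_true,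
    Bool.not_eq_true', beq_iff_eq] at hok
  have hdif : ∀ {i j : Fin 8}, n * R.d i = R.d j * n → ∀ a, R.ρ n (dif i a) = dif j (R.ρ n a) := by
    intro i j e a
    rw [R.dif_eq, R.dif_eq, R.lin, ← R.ρ_mul, e, R.ρ_mul]
  have e1 : n * R.d h = R.d k * n := mul_inv_eq_iff_eq_mul.1 c1
  have e2 : n * R.d k = R.d l * n := mul_inv_eq_iff_eq_mul.1 c2
  have hrg : ∀ {i j : Fin 8}, n * R.d i = R.d j * n → ∀ a, inRg i a = true → inRg j (R.ρ n a) = true := by
    intro i j e a ha
    obtain ⟨u, rfl⟩ := inRg_iff.1 ha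
    exact inRg_iff.2 ⟨_, (hdif e u).symm⟩
  have hkl : ∀ a, inRg h a = true → inRg k a = inRg l a := fun a ha => by
    rcases (hok a).1.1.2 with e | e
    · rw [ha] at e; cases e
    · exact e.2
  have hhl : ∀ a, inRg k a = true → inRg h a = inRg l a := fun a ha => by
    rcases (hok a).1.2 with e | e
    · rw [ha] at e; cases e
    · exact e.2
  have hhk : ∀ a, inRg l a = true → inRg h a = inRg k a := fun a ha => by
    rcases (hok a).2 with e | e
    · rw [ha] at e; cases e
    · exact e.2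
  have hfixh : ∀ a, inRg k a = true → R.ρ (R.d h) a = a := fun a ha => by
    rcases (hok a).1.2 with e | e
    · rw [ha] at e; cases e
    · rw [R.d_act]; exact fixB_iff.1 e.1.1
  have hCfix : ∀ a ∈ C, R.ρ n a = a := by
    intro a ha
    have hk' := hrg e1 a ((hCmem a).1 ha).1
    have hl' := hrg e2 a ((hCmem a).1 ha).2
    have hn : R.ρ n a ∈ C := (hCmem _).2 ⟨(hhl _ hk').trans hl', hk'⟩
    by_cases ha0 : a = 0
    · rw [ha0, R.ρ_zero]
    by_contra hne
    have hna0 : R.ρ n a ≠ 0 := fun e => ha0 ((R.ρ n).injective (e.trans (R.ρ_zero n).symm))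
    have h3 : ({0, a, R.ρ n a} : Finset (Fin 64)).card ≤ C.card := Finset.card_le_card (by
      intro x hx
      simp only [Finset.mem_insert, Finset.mem_singleton] at hx
      rcases hx with rfl | rfl | rfl <;> assumption)
    rw [hC2, Finset.card_insert_of_notMem (by simp [Ne.symm ha0, Ne.symm hna0]),
      Finset.card_pair (Ne.symm hne)] at h3
    omega
  have hin : ∀ a, R.ρ n a = a → R.ρ (R.d h) a = a → R.ρ (R.d k) a = a → a ∈ C := by
    intro a ha hh hk
    rcases (hok a).1.1.1 with e | e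
    · rw [R.d_act] at hh hk
      rw [fixB_iff.2 hh, fixB_iff.2 hk] at e
      cases e
    rcases e.1 with (e' | e') | e'
    · have := hrg e1 a e'
      rw [ha] at this
      exact (hCmem a).2 ⟨e', this⟩
    · have hl := hrg e2 a e'
      rw [ha] at hl
      exact (hCmem a).2 ⟨(hhl a e').trans hl, e'⟩
    · have e3 : n * R.d l = R.d h * n := by
        refine mul_inv_eq_iff_eq_mul.1 ?_
        have hkl' : dMul k l = h := (pairs_mul _ hp).2
        calc n * R.d l * n⁻¹ = n * (R.d h * R.d k) * n⁻¹ := by rw [R.d_mul]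
          _ = n * R.d h * n⁻¹ * (n * R.d k * n⁻¹) := (conj_mul).symm
          _ = R.d h := by rw [c1, c2, R.d_mul, hkl']
      have hh' := hrg e3 a e'
      rw [ha] at hh'
      exact (hCmem a).2 ⟨hh', (hhk a e').symm.trans hh'⟩
  refine ⟨?_, ?_, hin⟩
  · set F := R.fixF n
    have hb : ∀ a ∈ F, dif h a ∈ C → dif h a = 0 := by
      intro a ha hC
      have ha' := R.mem_fixF.1 ha
      have h1 : R.ρ n (dif h a) = dif k a := by rw [hdif e1, ha']
      have h2 : R.ρ n (dif k a) = dif l a := by rw [hdif e2, ha']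
      have hkfix : R.ρ (R.d h) (dif k a) = dif k a := hfixh _ (inRg_iff.2 ⟨a, rfl⟩)
      have hl : dif l a = xr (dif k a) (dif h a) := by
        have e : dAct k a = xr (dif k a) a := by rw [dif, xr_assoc, xr_self, xr_zero]
        rw [R.dif_eq l, ← R.d_mul, R.ρ_mul, R.d_act k, e, R.lin, hkfix, R.d_act h,
          show dif h a = xr (dAct h a) a from rfl, xr_assoc]
      rw [hCfix _ hC] at h1
      rw [← h1, hCfix _ hC] at h2
      rw [h2, hl, ← h1, xr_self]
    have hker : ∀ a ∈ F, dif h a = 0 → a ∈ C := by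
      intro a ha h0
      have ha' := R.mem_fixF.1 ha
      have hk0 : dif k a = 0 := by
        have := hdif e1 a
        rw [ha', h0, R.ρ_zero] at this
        exact this.symm
      exact hin a ha' (by rw [R.d_act]; exact fixB_iff.1 (dif_eq_zero.1 h0))
        (by rw [R.d_act]; exact fixB_iff.1 (dif_eq_zero.1 hk0))
    have hFadd : ∀ a ∈ F, ∀ b ∈ F, xr a b ∈ F := fun a ha b hb => by
      rw [mem_fixF, R.lin, R.mem_fixF.1 ha, R.mem_fixF.1 hb]
    have hone : ∀ a ∈ F, ∀ b ∈ F, dif h a ≠ 0 → dif h b ≠ 0 → dif h a = dif h b := by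
      intro a ha b hb' ha0 hb0
      by_contra hne
      set W := ((List.finRange 64).filter (inRg h)).toFinset
      have hCW : C ⊆ W := fun x hx => by simp [W, ((hCmem x).1 hx).1]
      have hmem : ∀ c ∈ F, dif h c ≠ 0 → dif h c ∈ W \ C := fun c hc hc0 =>
        Finset.mem_sdiff.2 ⟨by simp [W, inRg_iff], fun hC => hc0 (hb c hc hC)⟩
      have h3 : ({dif h a, dif h b, dif h (xr a b)} : Finset (Fin 64)).card ≤ (W \ C).card :=
        Finset.card_le_card (by
          intro x hx
          simp only [Finset.mem_insert, Finset.mem_singleton] at hx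
          rcases hx with rfl | rfl | rfl
          · exact hmem a ha ha0
          · exact hmem b hb' hb0
          · exact hmem _ (hFadd a ha b hb') (by rw [R.dif_xr]; exact fun e => hne (xr_eq_zero.1 e)))
      rw [Finset.card_sdiff_of_subset hCW, hr4, hC2, R.dif_xr,
        Finset.card_insert_of_notMem, Finset.card_pair] at h3
      · omega
      · intro e
        refine ha0 ?_
        have := congrArg (fun x => xr x (dif h b)) e
        simpa [xr_self, xr_assoc, xr_zero] using this.symm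
      · simp only [Finset.mem_insert, Finset.mem_singleton, not_or]
        refine ⟨hne, fun e => hb0 ?_⟩
        have := congrArg (fun x => xr (dif h a) x) e
        simpa [xr_self, xr_cancel] using this.symm
    have himg : (F.image (dif h)).card ≤ 2 := by
      by_cases hex : ∃ a ∈ F, dif h a ≠ 0
      · obtain ⟨a, ha, ha0⟩ := hex
        refine (Finset.card_le_card (t := {0, dif h a}) fun x hx => ?_).trans Finset.card_le_two
        obtain ⟨b, hb', rfl⟩ := Finset.mem_image.1 hx
        by_cases hb0 : dif h b = 0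
        · simp [hb0]
        · simp [hone a ha b hb' ha0 hb0]
      · push Not at hex
        refine (Finset.card_le_card (t := {0}) fun x hx => ?_).trans (by simp)
        obtain ⟨b, hb', rfl⟩ := Finset.mem_image.1 hx
        simp [hex b hb']
    refine (Finset.card_le_mul_card_image (f := dif h) F 2 fun x hx => ?_).trans (by omega)
    obtain ⟨a, ha, rfl⟩ := Finset.mem_image.1 hx
    rw [← hC2]
    refine Finset.card_le_card_of_injOn (fun b => xr a b) (fun b hb' => ?_) fun b _ c _ e => ?_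
    · obtain ⟨hbF, hbe⟩ := Finset.mem_filter.1 hb'
      exact hker _ (hFadd a ha b hbF) (by rw [R.dif_xr, hbe, xr_self])
    · have := congrArg (fun x => xr a x) e
      simpa [xr_cancel] using this
  · obtain ⟨v, hv, hv0⟩ := Finset.exists_mem_ne (by rw [hC2]; norm_num) (0 : Fin 64) (s := C)
    exact ⟨v, hv0, hCfix v hv⟩

section Fin

variable [Finite X]
include R

/-- Two commuting involutions are conjugate to a pair of the Sylow subgroup. -/
theorem exists_pair {a b : X} (ha : a * a = 1) (hb : b * b = 1) (ha1 : a ≠ 1) (hb1 : b ≠ 1)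
    (hab : a ≠ b) (hc : a * b = b * a) :
    ∃ g h k, (h, k) ∈ pairs ∧ g * a * g⁻¹ = R.d h ∧ g * b * g⁻¹ = R.d k := by
  let Q : Subgroup X :=
    { carrier := {x | x = 1 ∨ x = a ∨ x = b ∨ x = a * b}
      one_mem' := Or.inl rfl
      mul_mem' := by
        have hab' : a * (a * b) = b := by rw [← mul_assoc, ha, one_mul]
        have hba : b * (a * b) = a := by rw [hc, ← mul_assoc, hb, one_mul]
        have hab2 : a * b * a = b := by rw [hc, mul_assoc, ha, mul_one]
        have hab3 : a * b * b = a := by rw [mul_assoc, hb, mul_one]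
        have hab4 : a * b * (a * b) = 1 := by rw [mul_assoc, hba, ha]
        rintro x y (rfl | rfl | rfl | rfl) (rfl | rfl | rfl | rfl) <;>
          simp [ha, hb, hab', hba, hab2, hab3, hab4, hc.symm]
      inv_mem' := by
        have hai := inv_eq_of_mul_eq_one_right ha
        have hbi := inv_eq_of_mul_eq_one_right hb
        rintro x (rfl | rfl | rfl | rfl) <;> simp [hai, hbi, hc] }
  have hQ : IsPGroup 2 Q := fun x => ⟨1, Subtype.ext (by
    rw [Subgroup.coe_pow, Subgroup.coe_one, pow_one, pow_two]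
    rcases x.2 with e | e | e | e <;> rw [e]
    · exact one_mul 1
    · exact ha
    · exact hb
    · rw [mul_assoc, ← mul_assoc b a b, ← hc, mul_assoc a b b, hb, mul_one, ha])⟩
  obtain ⟨g, hg⟩ := R.exists_conj_mem Q hQ
  obtain ⟨h, hh⟩ := R.mem_DG.1 (hg a (Or.inr (Or.inl rfl)))
  obtain ⟨k, hk⟩ := R.mem_DG.1 (hg b (Or.inr (Or.inr (Or.inl rfl))))
  refine ⟨g, h, k, mem_pairs h k ?_ ?_ ?_ ?_ ?_ ?_, hh.symm, hk.symm⟩
  · exact fun e => ha1 (conj_eq_one_iff.1 (hh.symm.trans (R.d_eq_one.2 e)))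
  · exact fun e => hb1 (conj_eq_one_iff.1 (hk.symm.trans (R.d_eq_one.2 e)))
  · exact fun e => hab (by
      have := hh.symm.trans ((congrArg R.d e).trans hk)
      simpa using this)
  · exact R.d_eq_one.1 (by rw [← R.d_mul, hh, conj_mul, ha, mul_one, mul_inv_cancel])
  · exact R.d_eq_one.1 (by rw [← R.d_mul, hk, conj_mul, hb, mul_one, mul_inv_cancel])
  · exact R.d_inj (by rw [← R.d_mul, ← R.d_mul, hh, hk, conj_mul, conj_mul, hc])

/-- An element permuting the involutions of a four-group cyclically. -/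
theorem triple_fix {n a b : X} (ha : a * a = 1) (hb : b * b = 1) (ha1 : a ≠ 1) (hb1 : b ≠ 1)
    (hab : a ≠ b) (hc : a * b = b * a) (h1 : n * a * n⁻¹ = b) (h2 : n * b * n⁻¹ = a * b) :
    (R.fixF n).card ≤ 4 ∧ 2 ≤ (R.fixF n).card := by
  classical
  obtain ⟨g, h, k, hp, hga, hgb⟩ := R.exists_pair ha hb ha1 hb1 hab hc
  have c1 : (g * n * g⁻¹) * R.d h * (g * n * g⁻¹)⁻¹ = R.d k := by
    rw [← hga, ← hgb, ← h1]; group
  have c2 : (g * n * g⁻¹) * R.d k * (g * n * g⁻¹)⁻¹ = R.d (dMul h k) := by
    rw [← R.d_mul, ← hga, ← hgb, show g * a * g⁻¹ * (g * b * g⁻¹) = g * (a * b) * g⁻¹ by group, ← h2]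
    group
  obtain ⟨hle, ⟨v, hv0, hv⟩, -⟩ := R.four_fix hp c1 c2
  rw [R.fixF_conj, Finset.card_map] at hle
  refine ⟨hle, ?_⟩
  rw [← Finset.card_map (R.ρ g).toEmbedding, ← R.fixF_conj]
  refine le_trans (Finset.card_pair (Ne.symm hv0)).ge (Finset.card_le_card fun x hx => ?_)
  simp only [Finset.mem_insert, Finset.mem_singleton] at hx
  rcases hx with rfl | rfl
  · exact R.mem_fixF.2 (R.ρ_zero _)
  · exact R.mem_fixF.2 hv

theorem card_fix_invol {t : X} (ht : t * t = 1) (ht1 : t ≠ 1) : (R.fixF t).card = 16 := by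
  classical
  obtain ⟨g, hg⟩ := R.exists_conj_mem (Subgroup.zpowers t) (IsPGroup.of_card (n := 1) (by
    rw [Nat.card_zpowers, orderOf_eq_prime (by rw [pow_two, ht]) ht1, pow_one]))
  obtain ⟨j, hj⟩ := R.mem_DG.1 (hg t (Subgroup.mem_zpowers t))
  rw [← Finset.card_map (R.ρ g).toEmbedding, ← R.fixF_conj, ← hj]
  have h := dAct_card_fix j (R.d_eq_one.1 (by rw [← R.d_mul, hj, conj_mul, ht, mul_one, mul_inv_cancel]))
    fun e => ht1 (conj_eq_one_iff.1 (hj.symm.trans (R.d_eq_one.2 e)))
  rw [← h]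
  have e2 : R.fixF (R.d j) = ((List.finRange 64).filter fun a => fixB j a).toFinset := by
    ext a
    simp [mem_fixF, R.d_act, fixB_iff]
  rw [e2, List.toFinset_card_of_nodup ((List.nodup_finRange _).filter _)]
  rw [← List.map_coe_finRange_eq_range, List.filter_map, List.length_map]
  rfl

/-- An involution inverting an element with at most four fixed points fixes them. -/
theorem fix_sub_of_invert {n t : X} (hn : Odd (orderOf n)) (ht : t * t = 1) (ht1 : t ≠ 1)
    (hinv : t * n * t⁻¹ = n⁻¹) (hle : (R.fixF n).card ≤ 4) : R.fixF n ⊆ R.fixF t := by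
  classical
  set U := R.fixF t
  have hU : U.card = 16 := R.card_fix_invol ht ht1
  set P := U ×ˢ U
  obtain ⟨y, -, hy⟩ := Finset.exists_le_card_fiber_of_mul_le_card_of_maps_to (s := P)
    (t := (Finset.univ : Finset (Fin 64))) (f := fun q => xr (R.ρ n q.1) q.2) (n := 4)
    (fun q _ => Finset.mem_univ _) Finset.univ_nonempty (by
      rw [Finset.card_univ, Fintype.card_fin, Finset.card_product, hU])
  obtain ⟨q0, hq0⟩ := Finset.card_pos.1 (show 0 < _ by omega : 0 < (P.filter fun q =>
    xr (R.ρ n q.1) q.2 = y).card)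
  obtain ⟨hq0P, hq0y⟩ := Finset.mem_filter.1 hq0
  obtain ⟨hu0, hv0⟩ := Finset.mem_product.1 hq0P
  rw [mem_fixF] at hu0 hv0
  have hkey : ∀ q ∈ P.filter (fun q => xr (R.ρ n q.1) q.2 = y),
      xr q.1 q0.1 ∈ R.fixF n ∩ U := by
    intro q hq
    obtain ⟨hqP, hqy⟩ := Finset.mem_filter.1 hq
    obtain ⟨hu, hv⟩ := Finset.mem_product.1 hqP
    rw [mem_fixF] at hu hv
    set w := xr q.1 q0.1 with hw
    have hwU : R.ρ t w = w := by rw [hw, R.lin, hu, hu0]
    have hnw : R.ρ n w = xr q.2 q0.2 := by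
      have e : R.ρ n q.1 = xr y q.2 := by rw [← hqy, xr_assoc, xr_self, xr_zero]
      have e' : R.ρ n q0.1 = xr y q0.2 := by rw [← hq0y, xr_assoc, xr_self, xr_zero]
      rw [hw, R.lin, e, e', xr_assoc, xr_left_comm q.2, xr_cancel]
    have htn : R.ρ t (R.ρ n w) = R.ρ n w := by rw [hnw, R.lin, hv, hv0]
    have hni : R.ρ n⁻¹ w = R.ρ n w := by
      have e : t * n = n⁻¹ * t := mul_inv_eq_iff_eq_mul.1 hinv
      rw [← R.ρ_mul, e, R.ρ_mul, hwU] at htn
      exact htn
    have h2 : R.ρ (n ^ 2) w = w := by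
      rw [pow_two, R.ρ_mul, ← hni, R.ρ_apply_inv]
    have hnm : R.ρ n w = w := by
      obtain ⟨m, hm⟩ := hn
      have e : n = (n ^ 2) ^ (m + 1) := by
        rw [← pow_mul, show 2 * (m + 1) = (2 * m + 1) + 1 by ring, ← hm, pow_succ, pow_orderOf_eq_one,
          one_mul]
      rw [e]
      exact R.mem_fixF.1 (R.fixF_pow_sub (n ^ 2) (m + 1) (R.mem_fixF.2 h2))
    exact Finset.mem_inter.2 ⟨R.mem_fixF.2 hnm, R.mem_fixF.2 hwU⟩
  have h4 : 4 ≤ (R.fixF n ∩ U).card := by
    refine hy.trans (Finset.card_le_card_of_injOn (fun q => xr q.1 q0.1) hkey ?_)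
    intro q hq q' hq' e
    have e1 : q.1 = q'.1 := by
      have := congrArg (fun x => xr x q0.1) e
      simpa [xr_assoc, xr_self, xr_zero] using this
    refine Prod.ext e1 ?_
    have hq2 := (Finset.mem_filter.1 hq).2.trans (Finset.mem_filter.1 hq').2.symm
    rw [e1] at hq2
    have := congrArg (fun x => xr (R.ρ n q'.1) x) hq2
    simpa [xr_cancel] using this
  have : R.fixF n ∩ U = R.fixF n :=
    Finset.eq_of_subset_of_card_le Finset.inter_subset_left (hle.trans h4)
  exact fun x hx => (Finset.mem_inter.1 (this.symm ▸ hx)).2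

end Fin

theorem card_fix_modEq (n : X) {p : ℕ} [Fact p.Prime] (hn : n ^ p = 1) :
    (R.fixF n).card % p = 64 % p := by
  classical
  have h := Equiv.Perm.card_compl_support_modEq (p := p) (n := 1) (σ := R.ρ n)
    (by rw [pow_one, ← map_pow, hn, map_one])
  have e : (R.ρ n).supportᶜ = R.fixF n := by ext a; simp [mem_fixF]
  rw [e, Fintype.card_fin] at h
  exact h

end Rep

end CfsgLib.SylM24Q
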