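import Cfsg.Agent.Lib.SylM24Q.AutoData
import Mathlib.GroupTheory.Sylow

/-!
A faithful linear action on 64 points whose Sylow 2-subgroup is the group of eight cosets: centralisers of
involutions have no nontrivial elements of odd order.
-/

set_option autoImplicit false

namespace CfsgLib.SylM24Q

open CfsgLib.StructC.M24SylQ

theorem xr_left_comm (a b c : Fin 64) : xr a (xr b c) = xr b (xr a c) := by
  rw [← xr_assoc, xr_comm a b, xr_assoc]

theorem layer_check : ∀ t h : Fin 8, dMul t t = 0 → t ≠ 0 → dMul h t = dMul t h →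
    ((List.finRange 64).all fun u => Nat.beq (tFn h (dif t u)) (dif t u) &&
      (!fixB t u || inRg t (dif h u))) = true := by
  decide +kernel

/-- Commutation on the four involutions outside the centre. -/
def outer (i : Fin 4) : Fin 8 := ([3, 5, 6, 7] : List (Fin 8)).getD i 0

theorem outer_check : ∀ f : Fin 4 → Fin 4, (∀ i j, f i = f j → i = j) →
    (∀ i j, (dMul (outer i) (outer j) = dMul (outer j) (outer i)) ↔
      (dMul (outer (f i)) (outer (f j)) = dMul (outer (f j)) (outer (f i)))) → f (f (f (f 0))) = 0 := by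
  decide +kernel

theorem outer_iff : ∀ h : Fin 8, (∃ i, outer i = h) ↔ (h ≠ 0 ∧ h ≠ 1 ∧ dMul h h = 0) := by decide +kernel

theorem outer_injective : ∀ i j, outer i = outer j → i = j := by decide +kernel

theorem pairs_swap : ∀ p : Fin 8 × Fin 8, p ∈ pairs → (p.2, p.1) ∈ pairs := by decide +kernel

theorem outer_pair : ∀ i, (1, outer i) ∈ pairs ∧ dMul 1 (outer i) = dMul (outer i) 1 := by decide +kernel

/-- A faithful linear action with the given Sylow subgroup. -/
structure Rep (X : Type*) [Group X] where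
  /-- The action. -/
  ρ : X →* Equiv.Perm (Fin 64)
  inj : Function.Injective ρ
  lin : ∀ g a b, ρ g (xr a b) = xr (ρ g a) (ρ g b)
  /-- The eight elements. -/
  d : Fin 8 → X
  d_act : ∀ h v, ρ (d h) v = dAct h v
  index_odd : ∃ m, Odd m ∧ Nat.card X = 8 * m

namespace Rep

variable {X : Type*} [Group X] (R : Rep X)

theorem d_mul (h k : Fin 8) : R.d h * R.d k = R.d (dMul h k) := by
  refine R.inj (Equiv.ext fun v => Fin.ext ?_)
  rw [map_mul, Equiv.Perm.mul_apply, R.d_act, R.d_act, R.d_act]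
  have e := List.all_eq_true.1 (List.all_eq_true.1 (List.all_eq_true.1 dAct_mul_check h (List.mem_range.2 h.2))
    k (List.mem_range.2 k.2)) v (List.mem_range.2 v.2)
  exact Nat.eq_of_beq_eq_true e

theorem d_zero : R.d 0 = 1 := by
  have := R.d_mul 0 0
  rw [(dMul_zero 0).1] at this
  exact mul_eq_left.1 this

theorem d_inj : Function.Injective R.d := fun h k e => dAct_faithful h k fun v => by
  have := congrArg (fun g => ((R.ρ g) ⟨2 ^ (v : ℕ), by
    calc 2 ^ (v : ℕ) ≤ 2 ^ 5 := Nat.pow_le_pow_right (by norm_num) (by omega)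
      _ < 64 := by norm_num⟩ : ℕ)) e
  simpa [R.d_act, dAct] using this

theorem d_eq_one {h : Fin 8} : R.d h = 1 ↔ h = 0 :=
  ⟨fun e => R.d_inj (e.trans R.d_zero.symm), fun e => e ▸ R.d_zero⟩

theorem d_commute {h k : Fin 8} : Commute (R.d h) (R.d k) ↔ dMul h k = dMul k h :=
  ⟨fun e => R.d_inj (by rw [← R.d_mul, ← R.d_mul, e.eq]), fun e => by
    show _ * _ = _ * _
    rw [R.d_mul, R.d_mul, e]⟩

/-- The dihedral group inside. -/
def dih : DihedralGroup 4 →* X :=
  MonoidHom.mk' (fun a => R.d (dihMap a)) fun a b => by rw [dihMap_spec.1, R.d_mul]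

theorem dih_injective : Function.Injective R.dih := fun _ _ e => dihMap_spec.2.1 (R.d_inj e)

/-- The Sylow subgroup. -/
def DG : Subgroup X := R.dih.range

theorem mem_DG {g : X} : g ∈ R.DG ↔ ∃ h, R.d h = g :=
  ⟨fun ⟨a, e⟩ => ⟨_, e⟩, fun ⟨h, e⟩ => by
    obtain ⟨a, rfl⟩ := dihMap_spec.2.2 h
    exact ⟨a, e⟩⟩

theorem d_mem (h : Fin 8) : R.d h ∈ R.DG := R.mem_DG.2 ⟨h, rfl⟩

theorem card_DG : Nat.card R.DG = 8 := by
  rw [DG, ← Nat.card_congr (MonoidHom.ofInjective R.dih_injective).toEquiv, Nat.card_eq_fintype_card,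
    DihedralGroup.card]

theorem isPGroup_DG : IsPGroup 2 R.DG := IsPGroup.of_card (n := 3) (by rw [R.card_DG]; norm_num)

/-- The fixed points. -/
def fixF (g : X) : Finset (Fin 64) := Finset.univ.filter fun a => R.ρ g a = a

theorem mem_fixF {g : X} {a : Fin 64} : a ∈ R.fixF g ↔ R.ρ g a = a := by simp [fixF]

theorem ρ_zero (g : X) : R.ρ g 0 = 0 := by
  have h := R.lin g 0 0
  rwa [xr_self, xr_self] at h

theorem ρ_mul (g h : X) (a : Fin 64) : R.ρ (g * h) a = R.ρ g (R.ρ h a) := by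
  rw [map_mul, Equiv.Perm.mul_apply]

theorem ρ_inv_apply (g : X) (a : Fin 64) : R.ρ g⁻¹ (R.ρ g a) = a := by
  rw [← R.ρ_mul, inv_mul_cancel, map_one, Equiv.Perm.one_apply]

theorem ρ_apply_inv (g : X) (a : Fin 64) : R.ρ g (R.ρ g⁻¹ a) = a := by
  rw [← R.ρ_mul, mul_inv_cancel, map_one, Equiv.Perm.one_apply]

theorem ρ_comm {g h : X} (e : Commute g h) (a : Fin 64) : R.ρ g (R.ρ h a) = R.ρ h (R.ρ g a) := by
  rw [← R.ρ_mul, ← R.ρ_mul, e.eq]

theorem eq_one_of_fix {g : X} (h : ∀ a, R.ρ g a = a) : g = 1 :=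
  R.inj (Equiv.ext fun a => by rw [map_one, Equiv.Perm.one_apply, h a])

theorem dif_eq (h : Fin 8) (a : Fin 64) : dif h a = xr (R.ρ (R.d h) a) a := by rw [R.d_act, dif]

theorem dif_comm {n : X} {h : Fin 8} (c : Commute n (R.d h)) (a : Fin 64) :
    R.ρ n (dif h a) = dif h (R.ρ n a) := by
  rw [R.dif_eq, R.dif_eq, R.lin, R.ρ_comm c]

include R in
theorem dif_xr (h : Fin 8) (a b : Fin 64) : dif h (xr a b) = xr (dif h a) (dif h b) := by
  simp only [R.dif_eq, R.lin, xr_assoc, xr_left_comm, xr_comm]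

theorem dif_eq_zero {h : Fin 8} {a : Fin 64} : dif h a = 0 ↔ fixB h a = true := by
  rw [fixB_iff, dif, xr_eq_zero]

/-- An element of odd order centralising a four-subgroup of the Sylow subgroup is trivial. -/
theorem eq_one_of_commute_pair {n : X} (hn : Odd (orderOf n)) {p : Fin 8 × Fin 8} (hp : p ∈ pairs)
    (c1 : Commute n (R.d p.1)) (c2 : Commute n (R.d p.2)) : n = 1 := by
  classical
  obtain ⟨h, k⟩ := p
  simp only at c1 c2
  have hok := List.all_eq_true.1 four_check _ hp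
  simp only [fourOK, List.all_eq_true, List.mem_finRange, forall_const] at hok
  have hlen := List.all_eq_true.1 common_len _ hp
  simp only [Bool.and_eq_true, decide_eq_true_eq, List.contains_iff_mem] at hlen
  obtain ⟨⟨hc2, hc0⟩, hr4⟩ := hlen
  set C := (common (h, k)).toFinset
  have hCnd : (common (h, k)).Nodup := (List.nodup_finRange _).filter _
  have hCcard : C.card = 2 := by rw [List.toFinset_card_of_nodup hCnd, hc2]
  have hCmem : ∀ a, a ∈ C ↔ inRg h a = true ∧ inRg k a = true := fun a => by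
    simp [C, common]
  have hrg : ∀ (j : Fin 8), Commute n (R.d j) → ∀ a, inRg j a = true → inRg j (R.ρ n a) = true := by
    intro j cj a ha
    obtain ⟨u, rfl⟩ := inRg_iff.1 ha
    exact inRg_iff.2 ⟨_, (R.dif_comm cj u).symm⟩
  have hCfix : ∀ a ∈ C, R.ρ n a = a := by
    intro a ha
    have h1 : R.ρ n a ∈ C :=
      (hCmem _).2 ⟨hrg h c1 a ((hCmem a).1 ha).1, hrg k c2 a ((hCmem a).1 ha).2⟩
    have h0 : (0 : Fin 64) ∈ C := List.mem_toFinset.2 hc0
    by_cases ha0 : a = 0
    · rw [ha0, R.ρ_zero]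
    by_contra hne
    have hna0 : R.ρ n a ≠ 0 := fun e => ha0 ((R.ρ n).injective (e.trans (R.ρ_zero n).symm))
    have h3 : ({0, a, R.ρ n a} : Finset (Fin 64)).card ≤ C.card := Finset.card_le_card (by
      intro x hx
      simp only [Finset.mem_insert, Finset.mem_singleton] at hx
      rcases hx with rfl | rfl | rfl <;> assumption)
    rw [hCcard, Finset.card_insert_of_notMem (by simp [Ne.symm ha0, Ne.symm hna0]),
      Finset.card_pair (Ne.symm hne)] at h3
    omega
  have hfix2 : ∀ j, Commute n (R.d j) → (∀ b ∈ C, inRg j b = true) →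
      ((List.finRange 64).filter (inRg j)).length = 4 → ∀ a, inRg j a = true → R.ρ n (R.ρ n a) = a := by
    intro j cj hCj hj4 a ha
    by_cases haC : a ∈ C
    · rw [hCfix a haC, hCfix a haC]
    set O := ((List.finRange 64).filter (inRg j)).toFinset \ C
    have hO : O.card = 2 := by
      rw [Finset.card_sdiff_of_subset, List.toFinset_card_of_nodup ((List.nodup_finRange _).filter _),
        hj4, hCcard]
      intro x hx
      simp [hCj x hx]
    have hmem : ∀ b, inRg j b = true → b ∉ C → b ∈ O := fun b hb hbC => by simp [O, hb, hbC]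
    have hout : ∀ b, b ∉ C → R.ρ n b ∉ C := fun b hbC hC => hbC (by
      have := hCfix _ hC
      rwa [(R.ρ n).injective this] at hC)
    by_contra hne
    have hne1 : a ≠ R.ρ n a := fun e => hne (by rw [← e, ← e])
    have hne2 : R.ρ n a ≠ R.ρ n (R.ρ n a) := fun e => hne1 ((R.ρ n).injective e)
    have hi1 := hrg j cj a ha
    have h3 : ({a, R.ρ n a, R.ρ n (R.ρ n a)} : Finset (Fin 64)).card ≤ O.card := Finset.card_le_card (by
      intro x hx
      simp only [Finset.mem_insert, Finset.mem_singleton] at hx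
      rcases hx with rfl | rfl | rfl
      · exact hmem _ ha haC
      · exact hmem _ hi1 (hout _ haC)
      · exact hmem _ (hrg j cj _ hi1) (hout _ (hout _ haC)))
    rw [hO, Finset.card_insert_of_notMem (by simp [hne1, Ne.symm hne]), Finset.card_pair hne2] at h3
    omega
  have hsw := List.all_eq_true.1 common_len _ (pairs_swap _ hp)
  simp only [Bool.and_eq_true, decide_eq_true_eq] at hsw
  have hfixh := hfix2 h c1 (fun b hb => ((hCmem b).1 hb).1) hr4
  have hfixk := hfix2 k c2 (fun b hb => ((hCmem b).1 hb).2) hsw.2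
  set m := n * n with hm
  have hmfix : ∀ a, fixB h a = true → fixB k a = true → R.ρ m a = a := by
    intro a h1 h2
    have := (hok a)
    simp only [Bool.and_eq_true, Bool.or_eq_true, h1, h2, Bool.and_self, Bool.not_true, List.any_eq_true,
      Bool.false_eq_true, false_or] at this
    obtain ⟨u, -, hu⟩ := this.1.1.1.2
    have e : a = xr (xr a (dif h u)) (dif h u) := by rw [xr_assoc, xr_self, xr_zero]
    rw [hm, R.ρ_mul, e, R.lin, R.lin, hfixk _ hu, hfixh _ (inRg_iff.2 ⟨u, rfl⟩)]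
  have hm2 : ∀ a, R.ρ m (R.ρ m a) = a := by
    intro a
    have cm : ∀ j, Commute n (R.d j) → Commute m (R.d j) := fun j c => c.mul_left c
    have hf : ∀ j, Commute n (R.d j) → (∀ b, inRg j b = true → R.ρ m b = b) →
        fixB j (xr (R.ρ m a) a) = true := fun j c hb => by
      rw [← dif_eq_zero, R.dif_xr, ← R.dif_comm (cm j c), hb _ (inRg_iff.2 ⟨a, rfl⟩), xr_self]
    have e := hmfix _ (hf h c1 fun b hb => by rw [hm, R.ρ_mul]; exact hfixh b hb)
      (hf k c2 fun b hb => by rw [hm, R.ρ_mul]; exact hfixk b hb)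
    rw [R.lin] at e
    have := congrArg (fun x => xr (R.ρ m a) x) e
    simp only [xr_cancel] at this
    rw [← xr_assoc, xr_comm (R.ρ m a), xr_assoc, xr_self, xr_zero] at this
    exact this
  have h4 : n ^ 4 = 1 := by
    rw [show n ^ 4 = m * m by rw [hm, ← pow_two, ← pow_two, ← pow_mul]]
    exact R.eq_one_of_fix fun a => by rw [R.ρ_mul, hm2]
  have hd := orderOf_dvd_of_pow_eq_one h4
  rw [← orderOf_eq_one_iff]
  have hcop : Nat.Coprime (orderOf n) 4 := by
    rw [show (4 : ℕ) = 2 ^ 2 by norm_num]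
    exact (Nat.coprime_two_right.2 hn).pow_right 2
  exact Nat.Coprime.eq_one_of_dvd hcop hd

/-- The elements centralising `t` that are trivial on its layers. -/
def layerKer (t : X) : Subgroup X where
  carrier := {g | Commute g t ∧ (∀ u, R.ρ g (xr (R.ρ t u) u) = xr (R.ρ t u) u) ∧
    ∀ a, R.ρ t a = a → ∃ u, xr (R.ρ g a) a = xr (R.ρ t u) u}
  one_mem' := ⟨Commute.one_left t, fun u => by simp, fun a _ => ⟨0, by simp [R.ρ_zero, xr_self]⟩⟩
  mul_mem' := by
    rintro g g' ⟨c, f, q⟩ ⟨c', f', q'⟩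
    refine ⟨c.mul_left c', fun u => by rw [R.ρ_mul, f', f], fun a ha => ?_⟩
    obtain ⟨u, hu⟩ := q a ha
    obtain ⟨u', hu'⟩ := q' a ha
    refine ⟨xr u u', ?_⟩
    have e : R.ρ g' a = xr (xr (R.ρ t u') u') a := by rw [← hu', xr_assoc, xr_self, xr_zero]
    rw [R.ρ_mul, e, R.lin, f u', R.lin t, xr_assoc, hu]
    apply Fin.ext
    simp only [xr_val]
    ac_rfl
  inv_mem' := by
    rintro g ⟨c, f, q⟩
    refine ⟨c.inv_left, fun u => by conv_lhs => rw [← f u]; rw [R.ρ_inv_apply], fun a ha => ?_⟩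
    obtain ⟨u, hu⟩ := q (R.ρ g⁻¹ a) (by rw [R.ρ_comm c.inv_left.symm, ha])
    refine ⟨u, ?_⟩
    rw [R.ρ_apply_inv] at hu
    rw [← hu, xr_comm]

theorem pow_four_layerKer {t g : X} (hg : g ∈ R.layerKer t) : g ^ 4 = 1 := by
  obtain ⟨c, f, q⟩ := hg
  have h2 : ∀ a, ∃ u, R.ρ (g * g) a = xr a (xr (R.ρ t u) u) := fun a => by
    set b := xr (R.ρ g a) a with hb
    have hbt : R.ρ t b = b := by
      have e := f a
      rw [R.lin] at e
      have e' : R.ρ g (R.ρ t a) = xr (xr (R.ρ t a) a) (R.ρ g a) := by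
        rw [← e, xr_assoc, xr_self, xr_zero]
      rw [hb, R.lin, ← R.ρ_comm c a, e']
      simp only [xr_assoc, xr_left_comm, xr_comm, xr_cancel, xr_self, xr_zero]
    obtain ⟨u, hu⟩ := q b hbt
    refine ⟨u, ?_⟩
    rw [← hu, hb, R.lin, R.ρ_mul]
    simp only [xr_assoc, xr_left_comm, xr_comm, xr_cancel, xr_self, xr_zero]
  refine R.eq_one_of_fix fun a => ?_
  obtain ⟨u, hu⟩ := h2 a
  rw [show g ^ 4 = (g * g) * (g * g) by rw [← pow_two, ← pow_two, ← pow_mul], R.ρ_mul, hu, R.lin, hu,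
    R.ρ_mul g g, f, f]
  rw [xr_assoc, xr_self, xr_zero]

theorem conj_mem_layerKer {t g n : X} (hg : g ∈ R.layerKer t) (c : Commute n t) :
    n * g * n⁻¹ ∈ R.layerKer t := by
  obtain ⟨cg, f, q⟩ := hg
  refine ⟨(c.mul_left cg).mul_left c.inv_left, fun u => ?_, fun a ha => ?_⟩
  · have e : R.ρ n⁻¹ (xr (R.ρ t u) u) = xr (R.ρ t (R.ρ n⁻¹ u)) (R.ρ n⁻¹ u) := by
      rw [R.lin, R.ρ_comm c.inv_left]
    rw [R.ρ_mul, R.ρ_mul, e, f, ← e, R.ρ_apply_inv]
  · obtain ⟨u, hu⟩ := q (R.ρ n⁻¹ a) (by rw [R.ρ_comm c.inv_left.symm, ha])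
    refine ⟨R.ρ n u, ?_⟩
    have e := congrArg (R.ρ n) hu
    rw [R.lin, R.lin, R.ρ_apply_inv, R.ρ_comm c] at e
    rw [R.ρ_mul, R.ρ_mul, e]

theorem d_mem_layerKer {t h : Fin 8} (ht : dMul t t = 0) (ht0 : t ≠ 0) (hc : dMul h t = dMul t h) :
    R.d h ∈ R.layerKer (R.d t) := by
  have hk := List.all_eq_true.1 (layer_check t h ht ht0 hc)
  simp only [List.mem_finRange, forall_const, Bool.and_eq_true, Bool.or_eq_true,
    Bool.not_eq_true'] at hk
  refine ⟨R.d_commute.2 hc, fun u => ?_, fun a ha => ?_⟩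
  · rw [← R.dif_eq]
    refine Fin.ext ?_
    rw [R.d_act]
    exact Nat.eq_of_beq_eq_true (hk u).1
  · have hfix : fixB t a = true := fixB_iff.2 (by rw [← R.d_act]; exact ha)
    rcases (hk a).2 with e | e
    · rw [hfix] at e; cases e
    · obtain ⟨u, hu⟩ := inRg_iff.1 e
      exact ⟨u, by rw [← R.dif_eq, ← R.dif_eq, hu]⟩

section Fin

variable [Finite X]
include R

theorem card_le_eight (Q : Subgroup X) (hQ : IsPGroup 2 Q) : Nat.card Q ≤ 8 := by
  obtain ⟨k, hk⟩ := IsPGroup.iff_card.1 hQ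
  obtain ⟨m, hm, hX⟩ := R.index_odd
  have hd := Q.card_subgroup_dvd_card
  rw [hX, hk] at hd
  rw [hk]
  exact Nat.le_of_dvd (by norm_num)
    ((Nat.Coprime.pow_left k (Nat.coprime_two_left.2 hm)).dvd_of_dvd_mul_right hd)

theorem eq_DG (Q : Subgroup X) (hQ : IsPGroup 2 Q) (hle : R.DG ≤ Q) : Q = R.DG :=
  (Subgroup.eq_of_le_of_card_ge hle (by rw [R.card_DG]; exact R.card_le_eight Q hQ)).symm

/-- A 2-subgroup is conjugate into the Sylow subgroup. -/
theorem exists_conj_mem (Q : Subgroup X) (hQ : IsPGroup 2 Q) :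
    ∃ g : X, ∀ q ∈ Q, g * q * g⁻¹ ∈ R.DG := by
  haveI : Fact (Nat.Prime 2) := ⟨Nat.prime_two⟩
  obtain ⟨S, hS⟩ := R.isPGroup_DG.exists_le_sylow
  obtain ⟨T, hT⟩ := hQ.exists_le_sylow
  obtain ⟨g, hg⟩ := MulAction.exists_smul_eq X T S
  refine ⟨g, fun q hq => ?_⟩
  have e := R.eq_DG S S.2 hS
  rw [← e, ← hg, Sylow.coe_subgroup_smul]
  exact ⟨q, hT hq, rfl⟩

theorem cit_one {n : X} (hn : Odd (orderOf n)) (c : Commute n (R.d 1)) : n = 1 := by
  have hK : R.layerKer (R.d 1) = R.DG := by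
    refine R.eq_DG _ (fun g => ⟨2, Subtype.ext ?_⟩) fun g hg => ?_
    · have := R.pow_four_layerKer g.2
      rw [Subgroup.coe_pow, Subgroup.coe_one]
      norm_num
      exact this
    · obtain ⟨h, rfl⟩ := R.mem_DG.1 hg
      exact R.d_mem_layerKer (by decide +kernel) (by decide) ((central_one 1).2 (Or.inr rfl) h).symm
  have hmap : ∀ i, ∃ j, n * R.d (outer i) * n⁻¹ = R.d (outer j) := by
    intro i
    obtain ⟨h, hh⟩ := R.mem_DG.1 (hK ▸ R.conj_mem_layerKer
      (hK.symm ▸ R.d_mem (outer i)) c)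
    obtain ⟨h0, h1, h2⟩ := (outer_iff _).1 ⟨i, rfl⟩
    obtain ⟨j, rfl⟩ := (outer_iff h).2 ⟨fun e => h0 (R.d_eq_one.1 (conj_eq_one_iff.1
        (hh.symm.trans (R.d_eq_one.2 e)))), fun e => h1 (R.d_inj (by
      rw [e] at hh
      calc R.d (outer i) = n⁻¹ * (n * R.d (outer i) * n⁻¹) * n := by group
        _ = n⁻¹ * R.d 1 * n := by rw [hh]
        _ = R.d 1 := by rw [mul_assoc, ← c.eq, inv_mul_cancel_left])), R.d_eq_one.1 (by
      rw [← R.d_mul, hh, conj_mul, R.d_mul, h2, R.d_zero, mul_one, mul_inv_cancel])⟩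
    exact ⟨j, hh.symm⟩
  choose f hf using hmap
  have hfinj : ∀ i j, f i = f j → i = j := fun i j e => outer_injective i j (R.d_inj (by
    have := (hf i).trans ((congrArg (fun x => R.d (outer x)) e).trans (hf j).symm)
    simpa using this))
  have hf4 := outer_check f hfinj fun i j => by
    rw [← R.d_commute, ← R.d_commute, ← hf i, ← hf j, Commute.conj_iff]
  have hpow : n ^ 4 * R.d (outer 0) * (n ^ 4)⁻¹ = R.d (outer 0) := by
    calc n ^ 4 * R.d (outer 0) * (n ^ 4)⁻¹
        = n * (n * (n * (n * R.d (outer 0) * n⁻¹) * n⁻¹) * n⁻¹) * n⁻¹ := by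
          simp only [pow_succ, pow_zero, one_mul, mul_inv_rev, mul_assoc]
      _ = R.d (outer 0) := by rw [hf, hf, hf, hf, hf4]
  have hn4 : Odd (orderOf (n ^ 4)) := hn.of_dvd_nat (orderOf_pow_dvd 4)
  have h4 := R.eq_one_of_commute_pair hn4 (outer_pair 0).1 (c.pow_left 4) (mul_inv_eq_iff_eq_mul.1 hpow)
  have hcop : Nat.Coprime (orderOf n) 4 := by
    rw [show (4 : ℕ) = 2 ^ 2 by norm_num]
    exact (Nat.coprime_two_right.2 hn).pow_right 2
  exact orderOf_eq_one_iff.1 (hcop.eq_one_of_dvd (orderOf_dvd_of_pow_eq_one h4))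

theorem cit_outer {n : X} (hn : Odd (orderOf n)) (i : Fin 4) (c : Commute n (R.d (outer i))) :
    n = 1 := by
  set x := R.d (outer i) with hx
  by_cases hconj : ∃ g : X, g * x * g⁻¹ = R.d 1
  · obtain ⟨g, hg⟩ := hconj
    have e := R.cit_one (n := g * n * g⁻¹)
      (by rwa [show orderOf (g * n * g⁻¹) = orderOf n from (MulAut.conj g).orderOf_eq n])
      (hg ▸ (Commute.conj_iff g).2 c)
    exact conj_eq_one_iff.1 e
  set K := R.layerKer x with hK
  have hKp : IsPGroup 2 K := fun g => ⟨2, Subtype.ext (by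
    have := R.pow_four_layerKer g.2
    rw [Subgroup.coe_pow, Subgroup.coe_one]
    norm_num
    exact this)⟩
  obtain ⟨ho0, ho1, ho2⟩ := (outer_iff _).1 ⟨i, rfl⟩
  have hxK : x ∈ K := R.d_mem_layerKer ho2 ho0 rfl
  have hzK : R.d 1 ∈ K := R.d_mem_layerKer ho2 ho0 ((central_one 1).2 (Or.inr rfl) _)
  set F : Set X := {1, x, R.d 1, R.d 1 * x}
  have hsub : ∀ g ∈ K, g ∈ F := by
    by_contra hno
    push Not at hno
    obtain ⟨g, hg, hgF⟩ := hno
    obtain ⟨y, hy⟩ := R.exists_conj_mem K hKp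
    have hKle : Nat.card K ≤ 8 := R.card_le_eight K hKp
    obtain ⟨k, hk⟩ := IsPGroup.iff_card.1 hKp
    have h5 : 5 ≤ Nat.card K := by
      have hs : ({1, x, R.d 1, R.d 1 * x, g} : Set X) ⊆ (K : Set X) := by
        intro u hu
        simp only [Set.mem_insert_iff, Set.mem_singleton_iff] at hu
        rcases hu with rfl | rfl | rfl | rfl | rfl
        exacts [one_mem _, hxK, hzK, mul_mem hzK hxK, hg]
      have := Set.ncard_le_ncard hs
      rw [← Nat.card_coe_set_eq (K : Set X)] at this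
      refine le_trans ?_ this
      simp only [F, Set.mem_insert_iff, Set.mem_singleton_iff, not_or] at hgF
      have e1 : x ≠ 1 := fun e => ho0 (R.d_eq_one.1 e)
      have e2 : R.d 1 ≠ 1 := fun e => absurd (R.d_eq_one.1 e) (by decide)
      have e3 : x ≠ R.d 1 := fun e => ho1 (R.d_inj e)
      have e4 : R.d 1 * x ≠ 1 := fun e => e3 (by
        rw [eq_inv_of_mul_eq_one_right e]
        exact inv_eq_of_mul_eq_one_right (by rw [R.d_mul, show dMul 1 1 = 0 by decide +kernel, R.d_zero]))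
      rw [Set.ncard_insert_of_notMem (by simp [Ne.symm e1, Ne.symm e2, Ne.symm e4, Ne.symm hgF.1]),
        Set.ncard_insert_of_notMem (by simp [e3, e2, Ne.symm hgF.2.1]),
        Set.ncard_insert_of_notMem (by simp [e1, Ne.symm hgF.2.2.1]),
        Set.ncard_pair (Ne.symm hgF.2.2.2)]
    have h8 : Nat.card K = 8 := by
      rw [hk] at h5 hKle ⊢
      have hk3 : k ≤ 3 := by
        by_contra h'
        have := Nat.pow_le_pow_right (show 1 ≤ 2 by norm_num) (show 4 ≤ k by omega)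
        omega
      interval_cases k <;> simp_all
    have heq : K.map (MulAut.conj y).toMonoidHom = R.DG := by
      refine Subgroup.eq_of_le_of_card_ge (Subgroup.map_le_iff_le_comap.2 fun q hq => hy q hq) ?_
      rw [Subgroup.card_map_of_injective (MulAut.conj y).injective, h8, R.card_DG]
    obtain ⟨j, hj⟩ := R.mem_DG.1 (hy x hxK)
    have hcen : ∀ k, dMul j k = dMul k j := fun k => by
      have hd := R.d_mem k
      rw [← heq] at hd
      obtain ⟨q, hq, hqk⟩ := hd
      rw [← R.d_commute, hj, ← hqk]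
      exact (Commute.conj_iff y).2 hq.1.symm
    rcases (central_one j).1 hcen with rfl | rfl
    · rw [R.d_zero] at hj
      exact ho0 (R.d_eq_one.1 (conj_eq_one_iff.1 hj.symm))
    · exact hconj ⟨y, hj.symm⟩
  have hxx : x * x = 1 := by rw [hx, R.d_mul, ho2, R.d_zero]
  have hz1 : R.d 1 ≠ 1 := fun e => absurd (R.d_eq_one.1 e) (by decide)
  have hstep : n * R.d 1 * n⁻¹ = R.d 1 ∨ n * R.d 1 * n⁻¹ = R.d 1 * x := by
    have hm := hsub _ (R.conj_mem_layerKer hzK c)
    simp only [F, Set.mem_insert_iff, Set.mem_singleton_iff] at hm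
    rcases hm with e | e | e | e
    · exact absurd (conj_eq_one_iff.1 e) hz1
    · exfalso
      refine ho1 (R.d_inj ?_)
      calc R.d (outer i) = n⁻¹ * x * n := by rw [mul_assoc, ← c.eq, inv_mul_cancel_left]
        _ = R.d 1 := by rw [← e]; group
    · exact Or.inl e
    · exact Or.inr e
  have h2 : Commute (n * n) (R.d 1) := by
    refine mul_inv_eq_iff_eq_mul.1 ?_
    have e : n * n * R.d 1 * (n * n)⁻¹ = n * (n * R.d 1 * n⁻¹) * n⁻¹ := by group
    rw [e]
    rcases hstep with h | h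
    · rw [h, h]
    · rw [h, ← conj_mul, h, show n * x * n⁻¹ = x from mul_inv_eq_iff_eq_mul.2 c.eq, mul_assoc, hxx,
        mul_one]
  have hn2 := R.cit_one (n := n * n) (hn.of_dvd_nat (by rw [← pow_two]; exact orderOf_pow_dvd 2)) h2
  exact orderOf_eq_one_iff.1 ((Nat.coprime_two_right.2 hn).eq_one_of_dvd
    (orderOf_dvd_of_pow_eq_one (by rw [pow_two, hn2])))

/-- An involution is centralised by no nontrivial element of odd order. -/
theorem cit {t n : X} (ht : t * t = 1) (ht1 : t ≠ 1) (hn : Odd (orderOf n)) (c : Commute n t) :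
    n = 1 := by
  obtain ⟨g, hg⟩ := R.exists_conj_mem (Subgroup.zpowers t) (IsPGroup.of_card (n := 1) (by
    rw [Nat.card_zpowers, orderOf_eq_prime (by rw [pow_two, ht]) ht1, pow_one]))
  obtain ⟨j, hj⟩ := R.mem_DG.1 (hg t (Subgroup.mem_zpowers t))
  have hj2 : dMul j j = 0 := R.d_eq_one.1 (by
    rw [← R.d_mul, hj, conj_mul, ht, mul_one, mul_inv_cancel])
  have hc : Commute (g * n * g⁻¹) (R.d j) := hj ▸ (Commute.conj_iff g).2 c
  have ho : Odd (orderOf (g * n * g⁻¹)) := by
    rwa [show orderOf (g * n * g⁻¹) = orderOf n from (MulAut.conj g).orderOf_eq n]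
  by_cases h1 : j = 1
  · subst h1
    exact conj_eq_one_iff.1 (R.cit_one ho hc)
  · obtain ⟨i, rfl⟩ := (outer_iff j).2 ⟨fun e => ht1 (conj_eq_one_iff.1
      (hj.symm.trans (R.d_eq_one.2 e))), h1, hj2⟩
    exact conj_eq_one_iff.1 (R.cit_outer ho i hc)

end Fin

end Rep

end CfsgLib.SylM24Q
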