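import Cfsg.Agent.Lib.SylM24Q.AutoFix
import Cfsg.Agent.Lib.Solvable.Basic
import Cfsg.Agent.S3035

/-!
The possible groups with the given faithful linear action: centralisers of involutions, the odd core, the models.
-/

set_option autoImplicit false

namespace CfsgLib.SylM24Q

open CfsgLib.StructC.M24SylQ

theorem four_one : dMul 1 1 = 0 ∧ dMul 3 3 = 0 ∧ dMul 1 3 = 5 ∧ dMul 5 5 = 0 := by decide +kernel

namespace Rep

variable {X : Type*} [Group X] [Finite X] (R : Rep X)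
include R

theorem centralizer_eq : Subgroup.centralizer ({R.d 1} : Set X) = R.DG := by
  refine R.eq_DG _ (IsPGroup.iff_orderOf.2 fun g => ?_) fun g hg => ?_
  · rw [← Subgroup.orderOf_coe g]
    obtain ⟨k, m, hm, hkm⟩ := Nat.exists_eq_two_pow_mul_odd (orderOf_pos (g : X)).ne'
    refine ⟨k, ?_⟩
    have hc : Commute (g : X) (R.d 1) := Subgroup.mem_centralizer_singleton_iff.1 g.2
    have ho : orderOf ((g : X) ^ (2 ^ k)) = m := by
      rw [orderOf_pow' _ (by positivity), hkm, Nat.gcd_eq_right (dvd_mul_right _ _),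
        Nat.mul_div_cancel_left _ (by positivity)]
    have e := R.cit (t := R.d 1) (n := (g : X) ^ (2 ^ k)) (by rw [R.d_mul, four_one.1, R.d_zero])
      (fun e => absurd (R.d_eq_one.1 e) (by decide)) (by rw [ho]; exact hm) (hc.pow_left _)
    rw [e, orderOf_one] at ho
    rw [hkm, ← ho, mul_one]
  · obtain ⟨h, rfl⟩ := R.mem_DG.1 hg
    exact Subgroup.mem_centralizer_singleton_iff.2
      (R.d_commute.2 ((central_one 1).2 (Or.inr rfl) h).symm).eq

theorem eq_one_of_odd_normal (O : Subgroup X) (hn : O.Normal) (hodd : Odd (Nat.card O)) : O = ⊥ := by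
  have hinv : ∀ t : X, t * t = 1 → t ≠ 1 → ∀ x ∈ O, t * x * t⁻¹ = x⁻¹ := by
    intro t ht ht1 x hx
    have hti : t⁻¹ = t := inv_eq_of_mul_eq_one_right ht
    let f : O → O := fun y => ⟨(y : X)⁻¹ * (t * y * t⁻¹), mul_mem (inv_mem y.2) (hn.conj_mem _ y.2 t)⟩
    have hfix : ∀ y ∈ O, t * y * t⁻¹ = y → y = 1 := fun y hy e =>
      R.cit (t := t) ht ht1 (hodd.of_dvd_nat (Subgroup.orderOf_dvd_natCard O hy))
        (mul_inv_eq_iff_eq_mul.1 e).symm
    have hinj : Function.Injective f := fun y z e => by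
      have e' : (y : X)⁻¹ * (t * y * t⁻¹) = (z : X)⁻¹ * (t * z * t⁻¹) := congrArg Subtype.val e
      have h1 : t * ((z : X) * (y : X)⁻¹) * t⁻¹ = (z : X) * (y : X)⁻¹ := by
        calc t * ((z : X) * (y : X)⁻¹) * t⁻¹
            = z * ((z : X)⁻¹ * (t * z * t⁻¹)) * ((y : X)⁻¹ * (t * y * t⁻¹))⁻¹ * (y : X)⁻¹ := by group
          _ = (z : X) * (y : X)⁻¹ := by rw [e']; group
      exact Subtype.ext (mul_inv_eq_one.1 (hfix _ (mul_mem z.2 (inv_mem y.2)) h1)).symm
    obtain ⟨y, hy⟩ := (Finite.injective_iff_surjective.1 hinj) ⟨x, hx⟩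
    have hxy : x = (y : X)⁻¹ * (t * y * t⁻¹) := (congrArg Subtype.val hy).symm
    rw [hxy, hti]
    calc t * ((y : X)⁻¹ * (t * y * t)) * t
        = t * (y : X)⁻¹ * t * y * (t * t) := by group
      _ = ((y : X)⁻¹ * (t * y * t))⁻¹ := by rw [ht, mul_inv_rev, mul_inv_rev, mul_inv_rev, hti]; group
  refine (Subgroup.eq_bot_iff_forall _).2 fun x hx => ?_
  have h1 := hinv (R.d 1) (by rw [R.d_mul, four_one.1, R.d_zero])
    (fun e => absurd (R.d_eq_one.1 e) (by decide)) x hx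
  have h3 := hinv (R.d 3) (by rw [R.d_mul, four_one.2.1, R.d_zero])
    (fun e => absurd (R.d_eq_one.1 e) (by decide)) x hx
  have h5 := hinv (R.d 5) (by rw [R.d_mul, four_one.2.2.2, R.d_zero])
    (fun e => absurd (R.d_eq_one.1 e) (by decide)) x hx
  rw [← four_one.2.2.1, ← R.d_mul] at h5
  have e : R.d 1 * R.d 3 * x * (R.d 1 * R.d 3)⁻¹ = R.d 1 * (R.d 3 * x * (R.d 3)⁻¹) * (R.d 1)⁻¹ := by group
  rw [e, h3] at h5
  have e2 : R.d 1 * x⁻¹ * (R.d 1)⁻¹ = (R.d 1 * x * (R.d 1)⁻¹)⁻¹ := by group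
  rw [e2, h1, inv_inv] at h5
  have hxx : x ^ 2 = 1 := by rw [pow_two]; exact mul_eq_one_iff_eq_inv.2 h5
  exact orderOf_eq_one_iff.1 ((Nat.coprime_two_right.2 (hodd.of_dvd_nat (Subgroup.orderOf_dvd_natCard O hx))
    ).eq_one_of_dvd (orderOf_dvd_of_pow_eq_one hxx))

/-- The four models. -/
theorem types : Nat.card X = 8 ∨ Nonempty (X ≃* Equiv.Perm (Fin 4)) ∨ Nonempty (X ≃* Equiv.Perm (Fin 5)) ∨
    Nonempty (X ≃* Matrix.SpecialLinearGroup (Fin 3) (ZMod 2)) ∨
    Nonempty (X ≃* alternatingGroup (Fin 6)) := by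
  have hz : orderOf (R.d 1) = 2 := orderOf_eq_prime (by rw [pow_two, R.d_mul, four_one.1, R.d_zero])
    fun e => absurd (R.d_eq_one.1 e) (by decide)
  have hC : Nonempty (↥(Subgroup.centralizer ({R.d 1} : Set X)) ≃* DihedralGroup 4) :=
    ⟨(MulEquiv.subgroupCongr R.centralizer_eq).trans (MonoidHom.ofInjective R.dih_injective).symm⟩
  rcases Cfsg.Agent.S3035.result (R.d 1) hz hC with h | h
  · left
    have hO : Cfsg.oddCore X = ⊥ := R.eq_one_of_odd_normal _ inferInstance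
      (Nat.coprime_two_right.1 (CfsgLib.Solvable.pPrimeCore_coprime 2))
    rw [hO, sup_bot_eq, R.centralizer_eq] at h
    have := R.card_DG
    rwa [h, Subgroup.card_top] at this
  · exact Or.inr h

end Rep

end CfsgLib.SylM24Q
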