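import Cfsg.Agent.Lib.Transfer.Frobenius
import Cfsg.Agent.Lib.SylAltEight.Criterion
import Cfsg.Prelude.Def_LocalEven

/-!
A normal 2-complement from the control of strong fusion by a subgroup with a normal 2-complement.
-/

set_option autoImplicit false
set_option linter.style.haveILetI false

namespace CfsgLib.SylM24Q

open Subgroup

universe u

variable {G : Type u} [Group G] [Finite G]

/-- An element splits as a power of odd order times an element killed by a prescribed odd exponent. -/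
theorem exists_odd_power (n : G) (m : ℕ) (hm : Odd m) :
    ∃ e : ℕ, Odd (orderOf (n ^ e)) ∧ ∃ i : ℕ, n * n ^ (m * i) = n ^ e := by
  obtain ⟨a, r, hr, he⟩ := Nat.exists_eq_two_pow_mul_odd (orderOf_pos n).ne'
  have hc : Nat.Coprime m (2 ^ a) := Nat.Coprime.pow_right a (Nat.coprime_two_right.2 hm)
  have hpos : 0 < 2 ^ a := pow_pos (by norm_num) a
  -- `1 + m * i` is a multiple of `2 ^ a`
  obtain ⟨i, hi⟩ : ∃ i : ℕ, 2 ^ a ∣ 1 + m * i := by
    rcases Nat.eq_or_lt_of_le hpos with h1 | h1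
    · exact ⟨0, by rw [← h1]; exact one_dvd _⟩
    obtain ⟨j, hj⟩ := Nat.exists_mul_mod_eq_one_of_coprime hc h1
    refine ⟨j * (2 ^ a - 1), ?_⟩
    have h2 : m * j ≡ 1 [MOD 2 ^ a] := by
      show _ % _ = 1 % _
      rw [hj.2, Nat.mod_eq_of_lt h1]
    have h3 : 1 + m * (j * (2 ^ a - 1)) ≡ 1 + 1 * (2 ^ a - 1) [MOD 2 ^ a] := by
      rw [← mul_assoc]
      exact (h2.mul_right _).add_left _
    refine (Nat.modEq_zero_iff_dvd).1 (h3.trans ?_)
    rw [one_mul, Nat.modEq_zero_iff_dvd]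
    exact ⟨1, by omega⟩
  refine ⟨1 + m * i, hr.of_dvd_nat (orderOf_dvd_of_pow_eq_one ?_), i, by rw [pow_add, pow_one]⟩
  obtain ⟨k, hk⟩ := hi
  rw [← pow_mul, hk, show 2 ^ a * k * r = k * (2 ^ a * r) by ring, ← he, pow_mul', pow_orderOf_eq_one,
    one_pow]

/-- A subgroup with a normal 2-complement that controls strong fusion: a normal 2-complement. -/
theorem exists_core_mul (T : Sylow 2 G) (N L : Subgroup G) (hTN : (T : Subgroup G) ≤ N)
    (hLn : N ≤ normalizer (L : Set G)) (hL : Odd (Nat.card L))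
    (hodd : ∀ x ∈ N, Odd (orderOf x) → x ∈ L)
    (hctrl : ∀ D : Set G, D ⊆ (T : Subgroup G) → ∀ g : G,
      (∀ d ∈ D, g * d * g⁻¹ ∈ (T : Subgroup G)) → ∃ x ∈ N, ∀ d ∈ D, g * d * g⁻¹ = x * d * x⁻¹)
    (g : G) : ∃ o ∈ Cfsg.oddCore G, ∃ t ∈ (T : Subgroup G), g = o * t := by
  haveI : Fact (Nat.Prime 2) := ⟨Nat.prime_two⟩
  have hfr : ∀ D : Subgroup G, IsPGroup 2 D → ∀ g ∈ normalizer (D : Set G),
      (orderOf g).Coprime 2 → g ∈ centralizer (D : Set G) := by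
    intro D hD g hg hgo
    obtain ⟨h, hh⟩ := Invol.exists_conj_mem_sylow T hD
    have hgo' : Odd (orderOf g) := Nat.coprime_two_right.1 hgo
    obtain ⟨x, hxN, hx⟩ := hctrl {y | h⁻¹ * y * h ∈ D} (fun y hy => by
        have := hh _ hy; rwa [show h * (h⁻¹ * y * h) * h⁻¹ = y by group] at this)
      (h * g * h⁻¹) (fun y hy => by
        rw [show h * g * h⁻¹ * y * (h * g * h⁻¹)⁻¹ = h * (g * (h⁻¹ * y * h) * g⁻¹) * h⁻¹ by group]
        exact hh _ ((mem_normalizer_iff.1 hg _).1 hy))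
    -- on `D` conjugated by `h` the powers agree
    have hpow : ∀ (k : ℕ) (d : G), d ∈ D →
        x ^ k * (h * d * h⁻¹) * (x ^ k)⁻¹ = h * (g ^ k * d * (g ^ k)⁻¹) * h⁻¹ := by
      intro k
      induction k with
      | zero => intro d _; simp
      | succ j ih =>
        intro d hd
        have hd' : g * d * g⁻¹ ∈ D := (mem_normalizer_iff.1 hg d).1 hd
        have e := hx (h * d * h⁻¹) (by
          show h⁻¹ * (h * d * h⁻¹) * h ∈ D
          rwa [show h⁻¹ * (h * d * h⁻¹) * h = d by group])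
        rw [show h * g * h⁻¹ * (h * d * h⁻¹) * (h * g * h⁻¹)⁻¹ = h * (g * d * g⁻¹) * h⁻¹ by group]
          at e
        calc x ^ (j + 1) * (h * d * h⁻¹) * (x ^ (j + 1))⁻¹
            = x ^ j * (x * (h * d * h⁻¹) * x⁻¹) * (x ^ j)⁻¹ := by rw [pow_succ]; group
          _ = x ^ j * (h * (g * d * g⁻¹) * h⁻¹) * (x ^ j)⁻¹ := by rw [e]
          _ = h * (g ^ j * (g * d * g⁻¹) * (g ^ j)⁻¹) * h⁻¹ := ih _ hd'
          _ = _ := by rw [pow_succ]; group
    obtain ⟨e, he, i, hie⟩ := exists_odd_power x (orderOf g) hgo'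
    refine mem_centralizer_iff.2 fun d hd => ?_
    set d' := h * d * h⁻¹ with hd'
    have hxe : x ^ e ∈ L := hodd _ (pow_mem hxN e) he
    have hdT : d' ∈ N := hTN (hh d hd)
    have hg1 : x ^ e * d' * (x ^ e)⁻¹ = h * (g * d * g⁻¹) * h⁻¹ := by
      rw [← hie, show x * x ^ (orderOf g * i) = x ^ (1 + orderOf g * i) by rw [pow_add, pow_one],
        hpow _ d hd, pow_add, pow_one, pow_mul, pow_orderOf_eq_one, one_pow, mul_one]
    have hgd : g * d * g⁻¹ ∈ D := (mem_normalizer_iff.1 hg d).1 hd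
    have hq : x ^ e * d' * (x ^ e)⁻¹ * d'⁻¹ ∈ L := by
      rw [show x ^ e * d' * (x ^ e)⁻¹ * d'⁻¹ = x ^ e * (d' * (x ^ e)⁻¹ * d'⁻¹) by group]
      exact mul_mem hxe ((mem_normalizer_iff.1 (hLn hdT) _).1 (inv_mem hxe))
    rw [hg1] at hq
    have hz : g * d * g⁻¹ * d⁻¹ = 1 := by
      have h1 : h * (g * d * g⁻¹) * h⁻¹ * d'⁻¹ ∈ (T : Subgroup G) :=
        mul_mem (hh _ hgd) (inv_mem (hh d hd))
      have h2 := SylAltEight.eq_one_of_pGroup_odd T.2 hL h1 hq
      rw [hd', show h * (g * d * g⁻¹) * h⁻¹ * (h * d * h⁻¹)⁻¹ =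
        h * (g * d * g⁻¹ * d⁻¹) * h⁻¹ by group] at h2
      exact conj_eq_one_iff.1 h2
    exact (mul_inv_eq_iff_eq_mul.1 (mul_inv_eq_one.1 hz)).symm
  obtain ⟨P, K, hK, hKP⟩ := Transfer.hasNormalPComplement_iff_frobenius.2 hfr
  haveI := hK
  have hKo : K ≤ Cfsg.oddCore G := Invol.le_oddCore hK <| by
    rw [← hKP.index_eq_card]
    exact SylAltEight.not_two_dvd_iff.1 P.not_dvd_index
  have hKT : K ⊔ (T : Subgroup G) = ⊤ := by
    obtain ⟨c, hc⟩ := MulAction.exists_smul_eq G P T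
    refine eq_top_iff.2 fun y _ => ?_
    obtain ⟨⟨k, p⟩, hkp, -⟩ := hKP.existsUnique (c⁻¹ * y * c)
    have hp : c * (p : G) * c⁻¹ ∈ (T : Subgroup G) := by
      rw [← hc]
      refine Transfer.sylow_smul_mem_iff.2 ?_
      rw [show c⁻¹ * (c * (p : G) * c⁻¹) * c = p by group]
      exact p.2
    rw [show y = (c * (k : G) * c⁻¹) * (c * (p : G) * c⁻¹) by
      rw [show (c * (k : G) * c⁻¹) * (c * (p : G) * c⁻¹) = c * ((k : G) * p) * c⁻¹ by group,
        show (k : G) * p = c⁻¹ * y * c from hkp]; group]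
    exact mul_mem (mem_sup_left (hK.conj_mem _ k.2 c)) (mem_sup_right hp)
  obtain ⟨k, hk, t, ht, e⟩ := mem_sup_of_normal_left.1 (hKT.symm ▸ mem_top g)
  exact ⟨k, hKo hk, t, ht, e.symm⟩

end CfsgLib.SylM24Q
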