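import Cfsg.Agent.Lib.SylM24Q.Complement
import Cfsg.Agent.Lib.Amalgam.StronglyClosedAbelian
import Cfsg.Agent.Lib.InvChar.CommutingPairs
import Cfsg.Agent.Lib.SylHS.Signal

/-!
An elementary abelian subgroup of order 64 that is strongly closed, with an automizer in which the
centralizers of involutions are 2-groups: it is normal modulo the odd core. The proof is by induction
along the centralizers of its elements, with a signalizer functor and a fixed point argument.
-/

set_option autoImplicit false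
set_option linter.style.haveILetI false

namespace CfsgLib.SylM24Q

open Subgroup CfsgLib.SylAltEight

universe u

variable {G : Type u} [Group G]

/-- The hypotheses on the elementary abelian subgroup. -/
structure Hyp (A : Subgroup G) : Prop where
  sq : ∀ a ∈ A, a * a = 1
  card : Nat.card A = 64
  self : ∀ x ∈ centralizer (A : Set G), IsPGroup 2 (zpowers x) → x ∈ A
  weak : ∀ Q : Subgroup G, IsPGroup 2 Q → A ≤ Q → ∀ g : G, (∀ a ∈ A, g * a * g⁻¹ ∈ Q) →
    g ∈ normalizer (A : Set G)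
  closed : ∀ a ∈ A, ∀ g : G, g * a * g⁻¹ ∈ normalizer (A : Set G) → g * a * g⁻¹ ∈ A
  cit : ∀ t ∈ normalizer (A : Set G), t ∉ centralizer (A : Set G) →
    t * t ∈ centralizer (A : Set G) → ∀ n ∈ normalizer (A : Set G), Odd (orderOf n) →
    n * t * n⁻¹ * t⁻¹ ∈ centralizer (A : Set G) → n ∈ centralizer (A : Set G)
  rank : ∀ s ∈ normalizer (A : Set G), s * s ∈ A →
    16 ≤ Nat.card ↥(A ⊓ centralizer ({s} : Set G))
  split : ∀ s ∈ normalizer (A : Set G), s * s ∈ A → ∃ a ∈ A, s * a * (s * a) = 1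
  fix : ∀ n ∈ normalizer (A : Set G), Odd (orderOf n) → n ∉ centralizer (A : Set G) →
    Nat.card ↥(A ⊓ centralizer ({n} : Set G)) ≤ 4 ∧ ∃ t ∈ normalizer (A : Set G),
      t ∉ centralizer (A : Set G) ∧ t * t ∈ centralizer (A : Set G) ∧
        ∀ a ∈ A, n * a = a * n → t * a = a * t

theorem mem_normalizer_subgroupOf {A K : Subgroup G} (hAK : A ≤ K) {x : K} :
    x ∈ normalizer (A.subgroupOf K : Set K) ↔ (x : G) ∈ normalizer (A : Set G) := by
  constructor
  · intro hx
    refine mem_normalizer_iff.2 fun y => ⟨fun hy => ?_, fun hy => ?_⟩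
    · exact (mem_normalizer_iff.1 hx ⟨y, hAK hy⟩).1 hy
    · have hyK : y ∈ K := by
        have := mul_mem (mul_mem (inv_mem x.2) (hAK hy)) x.2
        rwa [show (x : G)⁻¹ * ((x : G) * y * (x : G)⁻¹) * (x : G) = y by group] at this
      exact (mem_normalizer_iff.1 hx ⟨y, hyK⟩).2 hy
  · exact fun hx => mem_normalizer_iff.2 fun y => mem_normalizer_iff.1 hx y

theorem mem_centralizer_subgroupOf {A K : Subgroup G} (hAK : A ≤ K) {x : K} :
    x ∈ centralizer (A.subgroupOf K : Set K) ↔ (x : G) ∈ centralizer (A : Set G) := by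
  constructor
  · exact fun hx => mem_centralizer_iff.2 fun y hy =>
      congrArg Subtype.val (mem_centralizer_iff.1 hx ⟨y, hAK hy⟩ hy)
  · exact fun hx => mem_centralizer_iff.2 fun y hy =>
      Subtype.ext (mem_centralizer_iff.1 hx y hy)

/-- A product in a coset of a subgroup normalized by the second factor. -/
theorem exists_mul_pow {N : Subgroup G} {o p : G} (ho : o ∈ N) (hp : ∀ x ∈ N, p * x * p⁻¹ ∈ N) :
    ∀ k : ℕ, ∃ o' ∈ N, (o * p) ^ k = o' * p ^ k
  | 0 => ⟨1, one_mem _, by simp⟩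
  | k + 1 => by
    obtain ⟨o', ho', he⟩ := exists_mul_pow ho hp k
    refine ⟨o * (p * o' * p⁻¹), mul_mem ho (hp o' ho'), ?_⟩
    rw [pow_succ', he, pow_succ']
    group

/-- Elements of exponent two commute. -/
theorem comm_of_sq {A : Subgroup G} (hA : ∀ a ∈ A, a * a = 1) {a b : G} (ha : a ∈ A) (hb : b ∈ A) :
    a * b = b * a := by
  calc a * b = (a * b)⁻¹ := eq_inv_of_mul_eq_one_left (hA _ (mul_mem ha hb))
    _ = b⁻¹ * a⁻¹ := mul_inv_rev a b
    _ = b * a := by rw [inv_eq_of_mul_eq_one_right (hA a ha), inv_eq_of_mul_eq_one_right (hA b hb)]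

/-- The cores of equal centralizers are equal. -/
theorem core_eq_of_cent {a b : G} (h : centralizer ({a} : Set G) = centralizer ({b} : Set G)) :
    Cfsg.centralizerPPrimeCore 2 a = Cfsg.centralizerPPrimeCore 2 b := by
  unfold Cfsg.centralizerPPrimeCore
  rw [h]

theorem cent_mul_central {a c : G} (hc : c ∈ center G) :
    centralizer ({a * c} : Set G) = centralizer ({a} : Set G) := by
  ext x
  have hx : x * c = c * x := mem_center_iff.1 hc x
  rw [mem_centralizer_singleton_iff, mem_centralizer_singleton_iff, ← mul_assoc,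
    mul_assoc a c x, ← hx, ← mul_assoc]
  exact mul_left_inj c

/-- A complement in an elementary abelian group. -/
theorem exists_compl [Finite G] {A B : Subgroup G} (hA : ∀ a ∈ A, a * a = 1) (hB : B ≤ A) :
    ∃ V ≤ A, (∀ v ∈ V, v ∈ B → v = 1) ∧ ∀ a ∈ A, ∃ v ∈ V, ∃ b ∈ B, a = v * b := by
  classical
  obtain ⟨V, hV⟩ := (Set.toFinite {V : Subgroup G | V ≤ A ∧ ∀ v ∈ V, v ∈ B → v = 1}).exists_maximal
    ⟨⊥, bot_le, fun v hv _ => mem_bot.1 hv⟩
  obtain ⟨hVA, hVB⟩ := hV.1
  refine ⟨V, hVA, hVB, fun a ha => ?_⟩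
  by_contra hcon
  push Not at hcon
  have hcomm : ∀ x ∈ A, ∀ y ∈ A, x * y = y * x := fun x hx y hy => comm_of_sq hA hx hy
  let V' : Subgroup G :=
    { carrier := {x | ∃ v ∈ V, x = v ∨ x = v * a}
      mul_mem' := by
        rintro x y ⟨v, hv, e | e⟩ ⟨w, hw, e' | e'⟩ <;> rw [e, e']
        · exact ⟨v * w, mul_mem hv hw, Or.inl rfl⟩
        · exact ⟨v * w, mul_mem hv hw, Or.inr (mul_assoc _ _ _).symm⟩
        · exact ⟨v * w, mul_mem hv hw, Or.inr (by
            rw [mul_assoc, hcomm a ha w (hVA hw), mul_assoc])⟩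
        · exact ⟨v * w, mul_mem hv hw, Or.inl (by
            rw [mul_assoc v, ← mul_assoc a, hcomm a ha w (hVA hw), mul_assoc w, hA a ha, mul_one])⟩
      one_mem' := ⟨1, one_mem _, Or.inl rfl⟩
      inv_mem' := by
        rintro x ⟨v, hv, e | e⟩ <;> rw [e]
        · exact ⟨v⁻¹, inv_mem hv, Or.inl rfl⟩
        · exact ⟨v⁻¹, inv_mem hv, Or.inr (by
            rw [mul_inv_rev, inv_eq_of_mul_eq_one_right (hA a ha),
              hcomm a ha v⁻¹ (inv_mem (hVA hv))])⟩ }
  have hle : V ≤ V' := fun v hv => ⟨v, hv, Or.inl rfl⟩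
  have haV : a ∈ V' := ⟨1, one_mem _, Or.inr (one_mul a).symm⟩
  have hmem : V' ≤ A ∧ ∀ x ∈ V', x ∈ B → x = 1 := by
    refine ⟨?_, ?_⟩
    · rintro x ⟨v, hv, e | e⟩ <;> rw [e]
      · exact hVA hv
      · exact mul_mem (hVA hv) ha
    · rintro x ⟨v, hv, e | e⟩ hx <;> rw [e] at hx ⊢
      · exact hVB v hv hx
      · exact absurd (by group) (hcon v⁻¹ (inv_mem hv) (v * a) hx)
  exact hcon a (hV.2 hmem hle haV) 1 (one_mem _) (mul_one a).symm

namespace Hyp

variable {A : Subgroup G} (h : Hyp A)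
include h

theorem comm : ∀ a ∈ A, ∀ b ∈ A, a * b = b * a := fun _ ha _ hb =>
  SylM24Q.comm_of_sq h.sq ha hb

theorem A_le_cent : A ≤ centralizer (A : Set G) := fun a ha =>
  mem_centralizer_iff.2 fun b hb => h.comm b hb a ha

theorem isPGroup : IsPGroup 2 A := fun a => ⟨1, Subtype.ext (by simpa [pow_two] using h.sq a a.2)⟩

theorem isMulCommutative : IsMulCommutative A := ⟨⟨fun a b => Subtype.ext (h.comm a a.2 b b.2)⟩⟩

/-- A 2-subgroup containing `A` normalizes it. -/
theorem le_normalizer_of_two {Q : Subgroup G} (hQ : IsPGroup 2 Q) (hAQ : A ≤ Q) :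
    Q ≤ normalizer (A : Set G) := fun g hg =>
  h.weak Q hQ hAQ g fun a ha => mul_mem (mul_mem hg (hAQ ha)) (inv_mem hg)

/-- Restriction to the centralizer of an element of `A`. -/
theorem restrict {b : G} (hb : b ∈ A) :
    Hyp (A.subgroupOf (centralizer ({b} : Set G))) := by
  set K := centralizer ({b} : Set G)
  have hAK : A ≤ K := fun a ha => mem_centralizer_singleton_iff.2 (h.comm a ha b hb)
  have hc : ∀ {x : K}, IsPGroup 2 (zpowers x) → IsPGroup 2 (zpowers (x : G)) := fun {x} hx => by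
    rw [← K.coe_subtype, ← MonoidHom.map_zpowers]
    exact hx.map _
  have hN : ∀ {x : K}, x ∈ normalizer (A.subgroupOf K : Set K) ↔
      (x : G) ∈ normalizer (A : Set G) := mem_normalizer_subgroupOf hAK
  have hC : ∀ {x : K}, x ∈ centralizer (A.subgroupOf K : Set K) ↔
      (x : G) ∈ centralizer (A : Set G) := mem_centralizer_subgroupOf hAK
  have hinf : ∀ x : K, Nat.card ↥(A.subgroupOf K ⊓ centralizer ({x} : Set K)) =
      Nat.card ↥(A ⊓ centralizer ({(x : G)} : Set G)) := fun x =>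
    Nat.card_congr
      { toFun := fun y => ⟨((y : K) : G), mem_inf.2 ⟨y.2.1, mem_centralizer_singleton_iff.2
          (congrArg Subtype.val (mem_centralizer_singleton_iff.1 y.2.2))⟩⟩
        invFun := fun y => ⟨⟨y, hAK y.2.1⟩, mem_inf.2 ⟨y.2.1, mem_centralizer_singleton_iff.2
          (Subtype.ext (mem_centralizer_singleton_iff.1 y.2.2))⟩⟩
        left_inv := fun y => rfl
        right_inv := fun y => rfl }
  constructor
  · exact fun a ha => Subtype.ext (h.sq _ ha)
  · rw [Nat.card_congr (subgroupOfEquivOfLe hAK).toEquiv, h.card]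
  · exact fun x hx h2 => h.self x (hC.1 hx) (hc h2)
  · intro Q hQ hAQ g hg
    refine hN.2 (h.weak (Q.map K.subtype) (hQ.map _) (fun a ha => ⟨⟨a, hAK ha⟩, hAQ ha, rfl⟩) g ?_)
    exact fun a ha => ⟨_, hg ⟨a, hAK ha⟩ ha, rfl⟩
  · exact fun a ha g hg => h.closed _ ha g (hN.1 hg)
  · exact fun t ht htA ht2 n hn hodd hnt => hC.2 (h.cit _ (hN.1 ht) (fun e => htA (hC.2 e))
      (hC.1 ht2) _ (hN.1 hn) (by rwa [Subgroup.orderOf_coe]) (hC.1 hnt))
  · intro s hs hs2
    rw [hinf]
    exact h.rank _ (hN.1 hs) hs2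
  · intro s hs hs2
    obtain ⟨a, ha, e⟩ := h.split _ (hN.1 hs) hs2
    exact ⟨⟨a, hAK ha⟩, ha, Subtype.ext e⟩
  · intro n hn hodd hnA
    obtain ⟨hle, t, ht, htA, ht2, hta⟩ :=
      h.fix _ (hN.1 hn) (by rwa [Subgroup.orderOf_coe]) fun e => hnA (hC.2 e)
    rw [hinf]
    refine ⟨hle, ⟨t, mem_centralizer_singleton_iff.2
      (hta b hb (mem_centralizer_singleton_iff.1 n.2))⟩, hN.2 ht, fun e => htA (hC.1 e),
      hC.2 ht2, fun a ha e => Subtype.ext (hta _ ha (congrArg Subtype.val e))⟩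

variable [Finite G]

theorem exists_sylow : ∃ T : Sylow 2 G, A ≤ (T : Subgroup G) := h.isPGroup.exists_le_sylow

/-- The centralizer of `A` is `A` times an odd normal subgroup of its normalizer. -/
theorem exists_cent_decomp : ∃ K : Subgroup G, Odd (Nat.card K) ∧ K ≤ centralizer (A : Set G) ∧
    normalizer (A : Set G) ≤ normalizer (K : Set G) ∧
    ∀ x ∈ centralizer (A : Set G), ∃ a ∈ A, ∃ k ∈ K, x = a * k := by
  haveI : Fact (Nat.Prime 2) := ⟨Nat.prime_two⟩
  set C := centralizer (A : Set G) with hCdef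
  obtain ⟨T, hT⟩ := (h.isPGroup.of_equiv (subgroupOfEquivOfLe h.A_le_cent).symm).exists_le_sylow
  have hTA : ∀ x ∈ (T : Subgroup C), (x : G) ∈ A := fun x hx => by
    refine h.self _ x.2 ?_
    rw [← C.coe_subtype, ← MonoidHom.map_zpowers]
    exact (T.2.to_le (zpowers_le.2 hx)).map _
  refine ⟨(Cfsg.oddCore C).map C.subtype, ?_, map_subtype_le _, ?_, fun x hx => ?_⟩
  · rw [Subgroup.card_map_of_injective C.subtype_injective]
    exact Invol.odd_card_oddCore _
  · intro g hg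
    have hgC : ∀ y ∈ C, g * y * g⁻¹ ∈ C := fun y hy => mem_centralizer_iff.2 fun a ha => by
      have ha' : g⁻¹ * a * g ∈ A :=
        (mem_normalizer_iff.1 hg _).2 (by rwa [show g * (g⁻¹ * a * g) * g⁻¹ = a by group])
      have e := mem_centralizer_iff.1 hy _ ha'
      calc a * (g * y * g⁻¹) = g * ((g⁻¹ * a * g) * y) * g⁻¹ := by group
        _ = g * (y * (g⁻¹ * a * g)) * g⁻¹ := by rw [e]
        _ = _ := by group
    refine Invol.mem_normalizer_iff_of_finite ?_
    rintro _ ⟨y, hy, rfl⟩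
    haveI hc : (Cfsg.oddCore C).Characteristic := Solvable.pPrimeCore_characteristic 2 C
    have hgN : g ∈ normalizer (C : Set G) := Invol.mem_normalizer_iff_of_finite hgC
    let α : MulAut C :=
      { toFun := fun y => ⟨g * y * g⁻¹, (mem_normalizer_iff.1 hgN y).1 y.2⟩
        invFun := fun y => ⟨g⁻¹ * y * g, (mem_normalizer_iff.1 hgN _).2 (by
          rw [show g * (g⁻¹ * (y : G) * g) * g⁻¹ = y by group]; exact y.2)⟩
        left_inv := fun y => Subtype.ext (by simp [mul_assoc])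
        right_inv := fun y => Subtype.ext (by simp [mul_assoc])
        map_mul' := fun y z => Subtype.ext (by simp [mul_assoc]) }
    exact ⟨α y, (characteristic_iff_map_eq.1 hc α).le (mem_map_of_mem α.toMonoidHom hy), rfl⟩
  · obtain ⟨w, hw, o, ho, e⟩ := exists_eq_mul_oddCore T (fun y _ => mem_centralizer_iff.2 fun t ht =>
      Subtype.ext (mem_centralizer_iff.1 y.2 _ (hTA t ht))) ⟨x, hx⟩
    exact ⟨w, hTA w hw, o, ⟨o, ho, rfl⟩, congrArg Subtype.val e⟩

/-- Fusion in `A` is controlled by its normalizer. -/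
theorem conj_in_A {a g : G} (ha : a ∈ A) (hga : g * a * g⁻¹ ∈ A) :
    ∃ n ∈ normalizer (A : Set G), n * a * n⁻¹ = g * a * g⁻¹ := by
  haveI : Fact (Nat.Prime 2) := ⟨Nat.prime_two⟩
  set b := g * a * g⁻¹
  have h1 : A ≤ centralizer ({b} : Set G) := fun x hx =>
    mem_centralizer_singleton_iff.2 (h.comm x hx b hga)
  have h2 : A.map (MulAut.conj g).toMonoidHom ≤ centralizer ({b} : Set G) := by
    rintro _ ⟨x, hx, rfl⟩
    refine mem_centralizer_singleton_iff.2 ?_
    show g * x * g⁻¹ * (g * a * g⁻¹) = g * a * g⁻¹ * (g * x * g⁻¹)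
    rw [show g * x * g⁻¹ * (g * a * g⁻¹) = g * (x * a) * g⁻¹ by group, h.comm x hx a ha]; group
  obtain ⟨Q, hQ⟩ := (h.isPGroup.of_equiv (subgroupOfEquivOfLe h1).symm).exists_le_sylow
  obtain ⟨c, hc⟩ := Invol.exists_conj_mem_sylow Q
    ((h.isPGroup.map (MulAut.conj g).toMonoidHom).of_equiv (subgroupOfEquivOfLe h2).symm)
  refine ⟨(c : G) * g, h.weak ((Q : Subgroup _).map (centralizer ({b} : Set G)).subtype)
    (Q.2.map _) (fun x hx => ⟨⟨x, h1 hx⟩, hQ hx, rfl⟩) _ (fun x hx => ?_), ?_⟩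
  · exact ⟨_, hc ⟨g * x * g⁻¹, h2 ⟨x, hx, rfl⟩⟩ ⟨x, hx, rfl⟩, by simp [mul_assoc]⟩
  · rw [show (c : G) * g * a * ((c : G) * g)⁻¹ = c * b * (c : G)⁻¹ by simp only [b]; group,
      mem_centralizer_singleton_iff.1 c.2, mul_inv_cancel_right]

/-- If the normalizer of `A` has a 2-group as automizer, `G` has a normal 2-complement. -/
theorem step_small (hodd : ∀ n ∈ normalizer (A : Set G), Odd (orderOf n) →
    n ∈ centralizer (A : Set G)) :
    ∀ g : G, ∃ o ∈ Cfsg.oddCore G, ∃ n ∈ normalizer (A : Set G), g = o * n := by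
  haveI : Fact (Nat.Prime 2) := ⟨Nat.prime_two⟩
  obtain ⟨T, hT⟩ := h.exists_sylow
  have hTN := h.le_normalizer_of_two T.2 hT
  obtain ⟨K, hKo, -, hKn, hKd⟩ := h.exists_cent_decomp
  have hsc : Cfsg.IsStronglyClosed A (T : Subgroup G) :=
    ⟨hT, fun a ha g hg => h.closed a ha g (hTN hg)⟩
  intro g
  refine Exists.imp (fun o ho => ⟨ho.1, ho.2.elim fun t ht => ⟨t, hTN ht.1, ht.2⟩⟩)
    (exists_core_mul T (normalizer (A : Set G)) K hTN hKn hKo
      (fun x hx hox => ?_) (fun D hD y hy => ?_) g)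
  · -- odd elements of the centralizer
    obtain ⟨a, ha, k, hk, e⟩ := hKd x (hodd x hx hox)
    suffices a = 1 by rw [e, this, one_mul]; exact hk
    haveI : (K.subgroupOf (normalizer (A : Set G))).Normal :=
      ⟨fun y hy z => (mem_normalizer_iff.1 (hKn z.2) _).1 hy⟩
    let π := QuotientGroup.mk' (K.subgroupOf (normalizer (A : Set G)))
    have haN : a ∈ normalizer (A : Set G) := le_normalizer ha
    have e1 : π ⟨a, haN⟩ = π ⟨x, hx⟩ := by
      refine (QuotientGroup.eq).2 ?_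
      show a⁻¹ * x ∈ K
      rw [e, inv_mul_cancel_left]; exact hk
    have h1 : π ⟨a, haN⟩ = 1 := by
      refine orderOf_eq_one_iff.1 (Nat.eq_one_of_dvd_coprimes (Nat.coprime_two_right.2 hox)
        (orderOf_dvd_of_pow_eq_one ?_) (orderOf_dvd_of_pow_eq_one ?_))
      · rw [e1, ← map_pow, show (⟨x, hx⟩ : normalizer (A : Set G)) ^ orderOf x = 1 from
          Subtype.ext (by simp [pow_orderOf_eq_one]), map_one]
      · rw [← map_pow, show (⟨a, haN⟩ : normalizer (A : Set G)) ^ 2 = 1 from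
          Subtype.ext (by simpa [pow_two] using h.sq a ha), map_one]
    exact eq_one_of_pGroup_odd h.isPGroup hKo ha (mem_subgroupOf.1
      ((QuotientGroup.eq_one_iff (N := K.subgroupOf (normalizer (A : Set G))) ⟨a, haN⟩).1 h1))
  · obtain ⟨U, hU, hctrl⟩ :=
      Amalgam.controlsStrongFusion_of_stronglyClosed_abelian T h.isMulCommutative hsc
    -- move to the chosen Sylow subgroup
    obtain ⟨c, hc⟩ := MulAction.exists_smul_eq ↥(normalizer (A : Set G))
      (T.subtype hTN) (U.subtype (h.le_normalizer_of_two U.2 hU))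
    rw [Sylow.smul_subtype] at hc
    have hcT : (c : G) • T = U := Sylow.subtype_injective hc
    have hmv : ∀ z ∈ (T : Subgroup G), (c : G) * z * (c : G)⁻¹ ∈ (U : Subgroup G) := fun z hz => by
      rw [← hcT]
      refine Transfer.sylow_smul_mem_iff.2 ?_
      rwa [show (c : G)⁻¹ * ((c : G) * z * (c : G)⁻¹) * c = z by group]
    obtain ⟨-, hh⟩ := hctrl ((fun z => (c : G) * z * (c : G)⁻¹) '' D) (by
      rintro _ ⟨z, hz, rfl⟩; exact hmv z (hD hz))
    obtain ⟨x, hx, hxe⟩ := hh ((c : G) * y * (c : G)⁻¹) (by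
      rintro _ ⟨_, ⟨z, hz, rfl⟩, rfl⟩
      show (c : G) * y * (c : G)⁻¹ * ((c : G) * z * (c : G)⁻¹) * ((c : G) * y * (c : G)⁻¹)⁻¹ ∈ _
      rw [show (c : G) * y * (c : G)⁻¹ * ((c : G) * z * (c : G)⁻¹) * ((c : G) * y * (c : G)⁻¹)⁻¹ =
        (c : G) * (y * z * y⁻¹) * (c : G)⁻¹ by group]
      exact hmv _ (hy z hz))
    refine ⟨(c : G)⁻¹ * x * c, mul_mem (mul_mem (inv_mem c.2) hx) c.2, fun z hz => ?_⟩
    have := hxe _ ⟨z, hz, rfl⟩
    calc y * z * y⁻¹ = (c : G)⁻¹ * ((c : G) * y * (c : G)⁻¹ * ((c : G) * z * (c : G)⁻¹) *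
          ((c : G) * y * (c : G)⁻¹)⁻¹) * c := by group
      _ = (c : G)⁻¹ * (x * ((c : G) * z * (c : G)⁻¹) * x⁻¹) * c := by rw [this]
      _ = _ := by group

/-- The main step: a non-trivial odd automorphism of `A`, all centralizers of noncentral elements
of `A` factorising. -/
theorem step_big {n₀ : G} (hn₀ : n₀ ∈ normalizer (A : Set G)) (hn₀o : Odd (orderOf n₀))
    (hn₀A : n₀ ∉ centralizer (A : Set G))
    (hind : ∀ a ∈ A, a ∉ center G → ∀ x ∈ centralizer ({a} : Set G),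
      ∃ o ∈ Cfsg.centralizerPPrimeCore 2 a, ∃ n ∈ normalizer (A : Set G),
        n ∈ centralizer ({a} : Set G) ∧ x = o * n) :
    ∀ g : G, ∃ o ∈ Cfsg.oddCore G, ∃ n ∈ normalizer (A : Set G), g = o * n := by
  haveI : Fact (Nat.Prime 2) := ⟨Nat.prime_two⟩
  obtain ⟨hfix, t₀, ht₀, ht₀A, ht₀2, -⟩ := h.fix n₀ hn₀ hn₀o hn₀A
  set B := A ⊓ center G with hB
  have hBA : B ≤ A := inf_le_left
  have hBc : ∀ b ∈ B, b ∈ center G := fun b hb => hb.2
  have hBcard : Nat.card B ≤ 4 := le_trans (Nat.card_le_card_of_injective _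
    (inclusion_injective (show B ≤ A ⊓ centralizer ({n₀} : Set G) from fun b hb =>
      mem_inf.2 ⟨hb.1, mem_centralizer_singleton_iff.2 (mem_center_iff.1 hb.2 n₀).symm⟩))) hfix
  have hcen : ∀ a ∈ A, a ∉ B → a ∉ center G := fun a ha haB e => haB ⟨ha, e⟩
  obtain ⟨V, hVA, hVB, hVd⟩ := exists_compl h.sq hBA
  have hVc : ∀ v ∈ V, v ≠ 1 → v ∉ center G := fun v hv hv1 e => hv1 (hVB v hv ⟨hVA hv, e⟩)
  have hV16 : 16 ≤ Nat.card V := by
    have hs : Function.Surjective
        (fun p : ↥V × ↥B => (⟨(p.1 : G) * p.2, mul_mem (hVA p.1.2) (hBA p.2.2)⟩ : A)) := by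
      rintro ⟨a, ha⟩
      obtain ⟨v, hv, b, hb, rfl⟩ := hVd a ha
      exact ⟨(⟨v, hv⟩, ⟨b, hb⟩), rfl⟩
    have h64 := Nat.card_le_card_of_surjective _ hs
    rw [h.card, Nat.card_prod] at h64
    nlinarith
  obtain ⟨K, hKo, hKC, hKn, hKd⟩ := h.exists_cent_decomp
  have hKcore : ∀ a ∈ A, a ∉ center G → K ≤ Cfsg.centralizerPPrimeCore 2 a := by
    intro a ha hac
    have hKa : K ≤ centralizer ({a} : Set G) := fun k hk =>
      mem_centralizer_singleton_iff.2 (mem_centralizer_iff.1 (hKC hk) a ha).symm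
    have hKN : K ≤ normalizer (Cfsg.centralizerPPrimeCore 2 a : Set G) := fun k hk =>
      Invol.mem_normalizer_iff_of_finite fun x hx => core_conj_self (hKa hk) hx
    refine le_sup_right.trans (le_core (sup_le (core_le a) hKa) (fun x hx => ?_)
      (SylHS.odd_sup hKN (odd_core a) hKo))
    obtain ⟨o, ho, n, hn, hna, rfl⟩ := hind a ha hac x hx
    refine mul_mem (le_normalizer (mem_sup_left ho)) (Invol.mem_normalizer_iff_of_finite fun y hy => ?_)
    have hle : Cfsg.centralizerPPrimeCore 2 a ⊔ K ≤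
        (Cfsg.centralizerPPrimeCore 2 a ⊔ K).comap (MulAut.conj n).toMonoidHom :=
      sup_le (fun z hz => mem_sup_left (core_conj_self hna hz))
        (fun z hz => mem_sup_right ((mem_normalizer_iff.1 (hKn hn) z).1 hz))
    exact hle hy
  -- balance
  have hbal : ∀ a ∈ A, a ∉ center G → ∀ b ∈ A, b ∉ center G →
      Cfsg.centralizerPPrimeCore 2 a ⊓ centralizer ({b} : Set G) ≤
        Cfsg.centralizerPPrimeCore 2 b := by
    intro a ha hac b hb hbc y hy
    obtain ⟨o, ho, n, hn, hnb, rfl⟩ := hind b hb hbc y hy.2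
    let C := centralizer ({b} : Set G)
    haveI : (Cfsg.oddCore C).Normal := Solvable.pPrimeCore_normal 2 C
    let π := QuotientGroup.mk' (Cfsg.oddCore C)
    have hπ : ∀ {z : G} (hz : z ∈ C), π ⟨z, hz⟩ = 1 → z ∈ Cfsg.centralizerPPrimeCore 2 b :=
      fun hz e => mem_core_iff.2 ⟨hz, (QuotientGroup.eq_one_iff _).1 e⟩
    have hkill : ∀ {z : G} (hz : z ∈ C) {m : ℕ}, Odd m → π ⟨z, hz⟩ ^ m = 1 →
        π ⟨z, hz⟩ ^ 2 = 1 → z ∈ Cfsg.centralizerPPrimeCore 2 b := fun {z} hz {m} hm h1 h2 =>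
      hπ hz (orderOf_eq_one_iff.1 (Nat.eq_one_of_dvd_coprimes (Nat.coprime_two_right.2 hm)
        (orderOf_dvd_of_pow_eq_one h1) (orderOf_dvd_of_pow_eq_one h2)))
    have hoy : π ⟨o * n, hy.2⟩ = π ⟨n, hnb⟩ := by
      rw [show (⟨o * n, hy.2⟩ : C) = ⟨o, core_le b ho⟩ * ⟨n, hnb⟩ from rfl, map_mul,
        show π ⟨o, core_le b ho⟩ = 1 from
          (QuotientGroup.eq_one_iff _).2 (mem_core_iff.1 ho).2, one_mul]
    -- `n` centralizes `A`
    have hnA : n ∈ centralizer (A : Set G) := mem_centralizer_iff.2 fun α hα => by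
      have hαb : α ∈ C := mem_centralizer_singleton_iff.2 (h.comm α hα b hb)
      have hc : n * α * n⁻¹ * α⁻¹ ∈ A :=
        mul_mem ((mem_normalizer_iff.1 hn α).1 hα) (inv_mem hα)
      have hcb : n * α * n⁻¹ * α⁻¹ ∈ C := mem_centralizer_singleton_iff.2 (h.comm _ hc b hb)
      set q := o * n * α * (o * n)⁻¹ * α⁻¹ with hq
      have hqa : q ∈ Cfsg.centralizerPPrimeCore 2 a := by
        rw [hq, show o * n * α * (o * n)⁻¹ * α⁻¹ = o * n * (α * (o * n)⁻¹ * α⁻¹) by group]
        exact mul_mem hy.1 (core_conj_self (mem_centralizer_singleton_iff.2 (h.comm α hα a ha))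
          (inv_mem hy.1))
      have hqb : q ∈ C := mul_mem (mul_mem (mul_mem hy.2 hαb) (inv_mem hy.2)) (inv_mem hαb)
      have e1 : π ⟨_, hcb⟩ = π ⟨q, hqb⟩ := by
        rw [show (⟨n * α * n⁻¹ * α⁻¹, hcb⟩ : C) =
            ⟨n, hnb⟩ * ⟨α, hαb⟩ * (⟨n, hnb⟩ : C)⁻¹ * (⟨α, hαb⟩ : C)⁻¹ from rfl,
          show (⟨q, hqb⟩ : C) =
            ⟨o * n, hy.2⟩ * ⟨α, hαb⟩ * (⟨o * n, hy.2⟩ : C)⁻¹ * (⟨α, hαb⟩ : C)⁻¹ from rfl]
        simp only [map_mul, map_inv, hoy]
      have hin := hkill hcb (odd_orderOf_of_mem (odd_core a) hqa)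
        (by rw [e1, ← map_pow, show (⟨q, hqb⟩ : C) ^ orderOf q = 1 from
          Subtype.ext (by simp [pow_orderOf_eq_one]), map_one])
        (by rw [← map_pow, show (⟨_, hcb⟩ : C) ^ 2 = 1 from
          Subtype.ext (by rw [SubmonoidClass.coe_pow, pow_two]; exact h.sq _ hc), map_one])
      have h1 := mul_inv_eq_one.1 (eq_one_of_pGroup_odd h.isPGroup (odd_core b) hc hin)
      exact ((mul_inv_eq_iff_eq_mul.1 h1)).symm
    obtain ⟨α, hα, k, hk, rfl⟩ := hKd n hnA
    have hαb : α ∈ C := mem_centralizer_singleton_iff.2 (h.comm α hα b hb)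
    have hkb := hKcore b hb hbc hk
    have hyα : π ⟨o * (α * k), hy.2⟩ = π ⟨α, hαb⟩ := by
      rw [hoy, show (⟨α * k, hnb⟩ : C) = ⟨α, hαb⟩ * ⟨k, core_le b hkb⟩ from rfl, map_mul,
        show π ⟨k, core_le b hkb⟩ = 1 from (QuotientGroup.eq_one_iff _).2 (mem_core_iff.1 hkb).2,
        mul_one]
    have hin := hkill hy.2 (odd_orderOf_of_mem (odd_core a) hy.1)
      (by rw [← map_pow, show (⟨o * (α * k), hy.2⟩ : C) ^ orderOf (o * (α * k)) = 1 from
        Subtype.ext (by simp [pow_orderOf_eq_one]), map_one])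
      (by rw [hyα, ← map_pow, show (⟨α, hαb⟩ : C) ^ 2 = 1 from
        Subtype.ext (by rw [SubmonoidClass.coe_pow, pow_two]; exact h.sq α hα), map_one])
    exact hin
  set W := coreClosure V with hW
  have hWodd : Odd (Nat.card W) := by
    refine odd_coreClosure (fun a ha b hb => h.comm a (hVA ha) b (hVA hb))
      (fun a ha => by rw [pow_two]; exact h.sq a (hVA ha)) (le_trans (by norm_num) hV16)
      (fun a ha ha1 b hb hb1 => ?_)
    exact hbal a (hVA ha) (hVc a ha ha1) b (hVA hb) (hVc b hb hb1)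
  -- the closure is invariant
  have hcoreW : ∀ a ∈ A, a ∉ center G → Cfsg.centralizerPPrimeCore 2 a ≤ W := by
    intro a ha hac
    obtain ⟨v, hv, b, hb, rfl⟩ := hVd a ha
    rw [core_eq_of_cent (cent_mul_central (hBc b hb))]
    exact core_le_closure hv fun e => hac (by rw [e, one_mul]; exact hBc b hb)
  have hWN : normalizer (A : Set G) ≤ normalizer (W : Set G) := fun g hg =>
    Invol.mem_normalizer_iff_of_finite fun x hx => by
      have hle : W ≤ W.comap (MulAut.conj g).toMonoidHom := iSup_le fun a y hy => by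
        refine hcoreW (g * a.1 * g⁻¹) ((mem_normalizer_iff.1 hg _).1 (hVA a.2.1)) (fun e => ?_)
          (core_conj hy)
        refine hVc a.1 a.2.1 a.2.2 ?_
        have h1 := Subgroup.Normal.conj_mem (H := center G) inferInstance _ e g⁻¹
        rwa [show g⁻¹ * (g * a.1 * g⁻¹) * g⁻¹⁻¹ = a.1 by group] at h1
      exact hle hx
  -- the odd part and the subgroup containing all centralizers
  set L := W ⊔ K with hL
  have hLodd : Odd (Nat.card L) := SylHS.odd_sup (fun k hk => hWN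
    (centralizer_le_normalizer _ (hKC hk))) hWodd hKo
  have hNL : normalizer (A : Set G) ≤ normalizer (L : Set G) := fun g hg =>
    Invol.mem_normalizer_iff_of_finite fun x hx => by
      have hle : L ≤ L.comap (MulAut.conj g).toMonoidHom :=
        sup_le (fun z hz => mem_sup_left ((mem_normalizer_iff.1 (hWN hg) z).1 hz))
          (fun z hz => mem_sup_right ((mem_normalizer_iff.1 (hKn hg) z).1 hz))
      exact hle hx
  have hLA : ∀ x ∈ L, x ∈ normalizer (A : Set G) → x ∈ centralizer (A : Set G) := by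
    intro x hx hxN
    refine mem_centralizer_iff.2 fun a ha => ?_
    have h1 : x * a * x⁻¹ * a⁻¹ ∈ A :=
      mul_mem ((mem_normalizer_iff.1 hxN a).1 ha) (inv_mem ha)
    have h2 : x * a * x⁻¹ * a⁻¹ ∈ L := by
      rw [show x * a * x⁻¹ * a⁻¹ = x * (a * x⁻¹ * a⁻¹) by group]
      exact mul_mem hx ((mem_normalizer_iff.1 (hNL (le_normalizer ha)) _).1 (inv_mem hx))
    have h3 := mul_inv_eq_one.1 (eq_one_of_pGroup_odd h.isPGroup hLodd h1 h2)
    exact ((mul_inv_eq_iff_eq_mul.1 h3)).symm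
  set H := L ⊔ normalizer (A : Set G) with hH
  have hNH : normalizer (A : Set G) ≤ H := le_sup_right
  have hHd : ∀ x ∈ H, ∃ l ∈ L, ∃ n ∈ normalizer (A : Set G), x = l * n := by
    intro x hx
    rw [hH, ← SetLike.mem_coe, coe_mul_of_right_le_normalizer_left L _ hNL] at hx
    obtain ⟨l, hl, n, hn, e⟩ := hx
    exact ⟨l, hl, n, hn, e.symm⟩
  have hCH : ∀ a ∈ A, a ∉ center G → centralizer ({a} : Set G) ≤ H := by
    intro a ha hac x hx
    obtain ⟨o, ho, n, hn, -, rfl⟩ := hind a ha hac x hx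
    exact mul_mem (mem_sup_left (mem_sup_left (hcoreW a ha hac ho))) (mem_sup_right hn)
  obtain ⟨T, hT⟩ := h.exists_sylow
  have hTN := h.le_normalizer_of_two T.2 hT
  have hTH : (T : Subgroup G) ≤ H := hTN.trans hNH
  have hconjT : ∀ x ∈ H, IsPGroup 2 (zpowers x) →
      ∃ c ∈ H, c * x * c⁻¹ ∈ (T : Subgroup G) := by
    intro x hx hx2
    obtain ⟨c, hc⟩ := Invol.exists_conj_mem_sylow (T.subtype hTH)
      (hx2.of_equiv (subgroupOfEquivOfLe (zpowers_le.2 hx)).symm)
    exact ⟨c, c.2, hc ⟨x, hx⟩ (mem_zpowers _)⟩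
  have hzp : ∀ {x : G} {k : ℕ}, x ^ 2 ^ k = 1 → IsPGroup 2 (zpowers x) := fun {x k} hx =>
    IsPGroup.of_card_dvd_pow (n := k) (by
      rw [Nat.card_zpowers]; exact orderOf_dvd_of_pow_eq_one hx)
  -- an element of `A` outside `B` fixes one point
  have hpt : ∀ a ∈ A, a ∉ B → ∀ g : G, g * a * g⁻¹ ∈ H → g ∈ H := by
    intro a ha haB g hg
    obtain ⟨c, hc, hcT⟩ := hconjT _ hg (hzp (k := 1) (by
      rw [pow_one, pow_two, show g * a * g⁻¹ * (g * a * g⁻¹) = g * (a * a) * g⁻¹ by group,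
        h.sq a ha]; group))
    rw [show c * (g * a * g⁻¹) * c⁻¹ = c * g * a * (c * g)⁻¹ by group] at hcT
    obtain ⟨n, hn, hne⟩ := h.conj_in_A ha (h.closed a ha _ (hTN hcT))
    have h1 : n⁻¹ * (c * g) ∈ centralizer ({a} : Set G) := by
      refine mem_centralizer_singleton_iff.2 ?_
      calc n⁻¹ * (c * g) * a = n⁻¹ * (c * g * a * (c * g)⁻¹) * (c * g) := by group
        _ = n⁻¹ * (n * a * n⁻¹) * (c * g) := by rw [hne]
        _ = a * (n⁻¹ * (c * g)) := by group
    have h2 := mul_mem (mul_mem (inv_mem hc) (hNH hn)) (hCH a ha (hcen a ha haB) h1)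
    rwa [show c⁻¹ * n * (n⁻¹ * (c * g)) = g by group] at h2
  -- the elements which are involutions modulo `B`
  have hkd2 : ∀ {t : G}, t * t ∈ B → IsPGroup 2 (zpowers t) := fun {t} ht => hzp (k := 2) (by
    rw [show 2 ^ 2 = 2 + 2 from rfl, pow_add, pow_two]; exact h.sq _ (hBA ht))
  have hkdA : ∀ {t : G}, t ∈ normalizer (A : Set G) → t * t ∈ B → t ∉ A →
      t ∉ centralizer (A : Set G) := fun {t} _ ht htA e => htA (h.self t e (hkd2 ht))
  have hd0 : ∀ {t : G}, t ∈ normalizer (A : Set G) → t * t ∈ B →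
      ∃ d ∈ A, d ∉ B ∧ d * t = t * d := by
    intro t htN ht2
    have hr := h.rank t htN (hBA ht2)
    by_contra hcon
    push Not at hcon
    have hle : A ⊓ centralizer ({t} : Set G) ≤ B := fun d hd => by
      by_contra hdB
      exact hcon d hd.1 hdB (mem_centralizer_singleton_iff.1 hd.2)
    have := Nat.card_le_card_of_injective _ (inclusion_injective hle)
    omega
  have hKt : ∀ t ∈ H, t ∉ B → t * t ∈ B → centralizer ({t} : Set G) ≤ H := by
    -- it is enough to treat elements of `T` with a Sylow subgroup of the centralizer in `T`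
    suffices key : ∀ t ∈ (T : Subgroup G), t ∉ A → t * t ∈ B →
        ∀ R : Sylow 2 ↥(centralizer ({t} : Set G)),
          (∀ r ∈ (R : Subgroup ↥(centralizer ({t} : Set G))), (r : G) ∈ (T : Subgroup G)) →
          centralizer ({t} : Set G) ≤ H by
      intro t ht htB ht2 y hy
      obtain ⟨c, hc, hcT⟩ := hconjT t ht (hkd2 ht2)
      set t' := c * t * c⁻¹ with ht'def
      have ht'2 : t' * t' ∈ B := by
        rw [ht'def, show c * t * c⁻¹ * (c * t * c⁻¹) = c * (t * t) * c⁻¹ by group,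
          mem_center_iff.1 (hBc _ ht2) c, mul_inv_cancel_right]
        exact ht2
      have ht'B : t' ∉ B := fun e => htB (by
        have h1 := mem_center_iff.1 (hBc _ e) c
        have h2 : t = t' := mul_left_cancel (a := c) (by rw [h1, ht'def]; group)
        rw [h2]
        exact e)
      suffices hmain : centralizer ({t'} : Set G) ≤ H by
        have h1 := hmain (show c * y * c⁻¹ ∈ centralizer ({t'} : Set G) from
          mem_centralizer_singleton_iff.2 (by
            rw [ht'def, show c * y * c⁻¹ * (c * t * c⁻¹) = c * (y * t) * c⁻¹ by group,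
              mem_centralizer_singleton_iff.1 hy]; group))
        have h2 := mul_mem (mul_mem (inv_mem hc) h1) hc
        rwa [show c⁻¹ * (c * y * c⁻¹) * c = y by group] at h2
      by_cases htA : t' ∈ A
      · exact hCH t' htA (hcen t' htA ht'B)
      obtain ⟨d₀, hd₀, hd₀B, hd₀t⟩ := hd0 (hTN hcT) ht'2
      set C := centralizer ({t'} : Set G)
      obtain ⟨R, hR⟩ := (T.2.comap_subtype (K := C) :
        IsPGroup 2 ↥((T : Subgroup G).subgroupOf C)).exists_le_sylow
      obtain ⟨r, hr⟩ := Invol.exists_conj_mem_sylow T (R.2.map C.subtype)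
      have hd₀C : d₀ ∈ C := mem_centralizer_singleton_iff.2 hd₀t
      have hrH : r ∈ H := hpt d₀ hd₀ hd₀B r (hTH (hr d₀ ⟨⟨d₀, hd₀C⟩, hR (hT hd₀), rfl⟩))
      set t'' := r * t' * r⁻¹ with ht''def
      have ht''2 : t'' * t'' ∈ B := by
        rw [ht''def, show r * t' * r⁻¹ * (r * t' * r⁻¹) = r * (t' * t') * r⁻¹ by group,
          mem_center_iff.1 (hBc _ ht'2) r, mul_inv_cancel_right]
        exact ht'2
      have ht''T : t'' ∈ (T : Subgroup G) :=
        hr t' ⟨⟨t', mem_centralizer_singleton_iff.2 rfl⟩, hR hcT, rfl⟩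
      have ht''A : t'' ∉ A := fun e => htA (by
        have h1 := h.closed t'' e r⁻¹ (by
          rw [ht''def, show r⁻¹ * (r * t' * r⁻¹) * r⁻¹⁻¹ = t' by group]; exact hTN hcT)
        rwa [ht''def, show r⁻¹ * (r * t' * r⁻¹) * r⁻¹⁻¹ = t' by group] at h1)
      set C'' := centralizer ({t''} : Set G)
      have hmap : ∀ z ∈ C, r * z * r⁻¹ ∈ C'' := fun z hz => mem_centralizer_singleton_iff.2 (by
        rw [ht''def, show r * z * r⁻¹ * (r * t' * r⁻¹) = r * (z * t') * r⁻¹ by group,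
          mem_centralizer_singleton_iff.1 hz]; group)
      have hmap' : ∀ z ∈ C'', r⁻¹ * z * r ∈ C := fun z hz => mem_centralizer_singleton_iff.2 (by
        have e := mem_centralizer_singleton_iff.1 hz
        rw [ht''def] at e
        calc r⁻¹ * z * r * t' = r⁻¹ * (z * (r * t' * r⁻¹)) * r := by group
          _ = r⁻¹ * (r * t' * r⁻¹ * z) * r := by rw [e]
          _ = _ := by group)
      let e : C ≃* C'' :=
        { toFun := fun z => ⟨r * z * r⁻¹, hmap z z.2⟩
          invFun := fun z => ⟨r⁻¹ * z * r, hmap' z z.2⟩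
          left_inv := fun z => Subtype.ext (by simp [mul_assoc])
          right_inv := fun z => Subtype.ext (by simp [mul_assoc])
          map_mul' := fun y z => Subtype.ext (by simp [mul_assoc]) }
      intro z hz
      have h1 := key t'' ht''T ht''A ht''2 (R.mapSurjective (f := e.toMonoidHom) e.surjective)
        (by rintro _ ⟨w, hw, rfl⟩; exact hr w ⟨w, hw, rfl⟩) (hmap z hz)
      have h2 := mul_mem (mul_mem (inv_mem hrH) h1) hrH
      rwa [show r⁻¹ * (r * z * r⁻¹) * r = z by group] at h2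
    intro t htT htA ht2
    have htN := hTN htT
    have htC := hkdA htN ht2 htA
    set C := centralizer ({t} : Set G)
    intro R hR
    obtain ⟨d₀, hd₀, hd₀B, hd₀t⟩ := hd0 htN ht2
    -- the Sylow subgroup of the centralizer contains the part of `A`
    have hRT : ∀ z : C, (z : G) ∈ (T : Subgroup G) → z ∈ (R : Subgroup C) := fun z hz => by
      have hle : (R : Subgroup C) ≤ (T : Subgroup G).subgroupOf C := fun r hr => hR r hr
      rw [← R.is_maximal' (T.2.comap_subtype (K := C)) hle]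
      exact hz
    have hRA : A.subgroupOf C ≤ (R : Subgroup C) := fun z hz => hRT z (hT hz)
    have hsc : Cfsg.IsStronglyClosed (A.subgroupOf C) (R : Subgroup C) :=
      ⟨hRA, fun a ha g hg => h.closed _ ha (g : G) (hTN (hR _ hg))⟩
    have hAc : IsMulCommutative ↥(A.subgroupOf C) :=
      ⟨⟨fun a b => Subtype.ext (Subtype.ext (h.comm _ a.2 _ b.2))⟩⟩
    obtain ⟨U, hU, hctrl⟩ := Amalgam.controlsStrongFusion_of_stronglyClosed_abelian R hAc hsc
    have hNQ : ∀ q : C, q ∈ normalizer (A.subgroupOf C : Set C) → (q : G) ∈ H := fun q hq =>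
      hpt d₀ hd₀ hd₀B q (hNH (le_normalizer
        ((mem_normalizer_iff.1 hq ⟨d₀, mem_centralizer_singleton_iff.2 hd₀t⟩).1 hd₀)))
    have hCLn : H.subgroupOf C ≤ normalizer (L.subgroupOf C : Set C) := fun x hx => by
      have hxL : (x : G) ∈ normalizer (L : Set G) := sup_le le_normalizer hNL hx
      exact mem_normalizer_iff.2 fun y => mem_normalizer_iff.1 hxL y
    have hLo : Odd (Nat.card (L.subgroupOf C)) := hLodd.of_dvd_nat (by
      rw [← Subgroup.card_map_of_injective C.subtype_injective (K := L.subgroupOf C)]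
      exact card_dvd_of_le (by rintro _ ⟨y, hy, rfl⟩; exact hy))
    -- odd elements of the part in `H`
    have hod : ∀ x ∈ H.subgroupOf C, Odd (orderOf x) → x ∈ L.subgroupOf C := by
      rintro ⟨x, hxC⟩ hxH hxo
      rw [Subgroup.orderOf_mk] at hxo
      obtain ⟨l, hl, n, hn, rfl⟩ := hHd x hxH
      set M := normalizer (A : Set G)
      haveI : ((centralizer (A : Set G)).subgroupOf M).Normal := ⟨fun y hy g => by
        refine mem_subgroupOf.2 (mem_centralizer_iff.2 fun a ha => ?_)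
        have ha' : (g : G)⁻¹ * a * g ∈ A := (mem_normalizer_iff.1 g.2 _).2 (by
          rwa [show (g : G) * ((g : G)⁻¹ * a * g) * (g : G)⁻¹ = a by group])
        have e := mem_centralizer_iff.1 (mem_subgroupOf.1 hy) _ ha'
        push_cast
        calc a * ((g : G) * y * (g : G)⁻¹) = g * (((g : G)⁻¹ * a * g) * y) * (g : G)⁻¹ := by group
          _ = g * ((y : G) * ((g : G)⁻¹ * a * g)) * (g : G)⁻¹ := by rw [e]
          _ = _ := by group⟩
      let π := QuotientGroup.mk' ((centralizer (A : Set G)).subgroupOf M)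
      have hπ : ∀ {z : G} (hz : z ∈ M), π ⟨z, hz⟩ = 1 ↔ z ∈ centralizer (A : Set G) := fun hz =>
        QuotientGroup.eq_one_iff _
      have hnLn := hNL hn
      -- commuting modulo the centralizer
      have hcomm : Commute (π ⟨n, hn⟩) (π ⟨t, htN⟩) := by
        have hcom : n * t * n⁻¹ * t⁻¹ ∈ L := by
          have e := mem_centralizer_singleton_iff.1 hxC
          have e2 : n * t * n⁻¹ = l⁻¹ * t * l := by
            calc n * t * n⁻¹ = l⁻¹ * ((l * n) * t) * n⁻¹ := by group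
              _ = l⁻¹ * (t * (l * n)) * n⁻¹ := by rw [e]
              _ = l⁻¹ * t * l := by group
          rw [e2, show l⁻¹ * t * l * t⁻¹ = l⁻¹ * (t * l * t⁻¹) by group]
          exact mul_mem (inv_mem hl) ((mem_normalizer_iff.1 (hNL htN) l).1 hl)
        have hcomN : n * t * n⁻¹ * t⁻¹ ∈ M :=
          mul_mem (mul_mem (mul_mem hn htN) (inv_mem hn)) (inv_mem htN)
        have h1 := (hπ hcomN).2 (hLA _ hcom hcomN)
        rw [show (⟨_, hcomN⟩ : M) = ⟨n, hn⟩ * ⟨t, htN⟩ * (⟨n, hn⟩ : M)⁻¹ * (⟨t, htN⟩ : M)⁻¹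
          from rfl, map_mul, map_mul, map_mul, map_inv, map_inv, mul_inv_eq_one,
          mul_inv_eq_iff_eq_mul] at h1
        exact h1
      have hnm : n ^ orderOf (l * n) ∈ L := by
        obtain ⟨l', hl', he⟩ := exists_mul_pow (N := L) hl
          (fun y hy => (mem_normalizer_iff.1 hnLn y).1 hy) (orderOf (l * n))
        rw [pow_orderOf_eq_one] at he
        rw [eq_inv_of_mul_eq_one_right he.symm]
        exact inv_mem hl'
      obtain ⟨e, he, i, hie⟩ := exists_odd_power n (orderOf (l * n)) hxo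
      have hne : n ^ e ∈ centralizer (A : Set G) := by
        refine h.cit t htN htC (h.A_le_cent (hBA ht2)) _ (pow_mem hn e) he ((hπ (mul_mem (mul_mem
          (mul_mem (pow_mem hn e) htN) (inv_mem (pow_mem hn e))) (inv_mem htN))).1 ?_)
        show π (⟨n, hn⟩ ^ e * ⟨t, htN⟩ * ((⟨n, hn⟩ : M) ^ e)⁻¹ * (⟨t, htN⟩ : M)⁻¹) = 1
        rw [map_mul, map_mul, map_mul, map_inv, map_inv, map_pow, (hcomm.pow_left e).eq]
        group
      have hnC : n ∈ centralizer (A : Set G) := by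
        rw [show n = n ^ e * ((n ^ orderOf (l * n)) ^ i)⁻¹ by
          rw [← hie, ← pow_mul, mul_inv_cancel_right]]
        exact mul_mem hne (inv_mem (pow_mem (hLA _ hnm (pow_mem hn _)) i))
      obtain ⟨a, ha, k, hk, rfl⟩ := hKd n hnC
      show l * (a * k) ∈ L
      suffices a = 1 by rw [this, one_mul]; exact mul_mem hl (mem_sup_right hk)
      have hlk : l * (a * k) = l * (a * k * a⁻¹) * a := by group
      have hl2 : l * (a * k * a⁻¹) ∈ L :=
        mul_mem hl (mem_sup_right ((mem_normalizer_iff.1 (hKn (le_normalizer ha)) k).1 hk))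
      obtain ⟨l', hl', he'⟩ := exists_mul_pow (N := L) hl2
        (fun y hy => (mem_normalizer_iff.1 (hNL (le_normalizer ha)) y).1 hy)
        (orderOf (l * (a * k)))
      rw [← hlk, pow_orderOf_eq_one] at he'
      obtain ⟨j, hj⟩ := hxo
      rw [hj, pow_succ, pow_mul, pow_two, h.sq a ha, one_pow, one_mul] at he'
      exact eq_one_of_pGroup_odd h.isPGroup hLodd ha
        (by rw [eq_inv_of_mul_eq_one_right he'.symm]; exact inv_mem hl')
    have hUH : ∀ u ∈ (U : Subgroup C), (u : G) ∈ H := by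
      obtain ⟨r, hr⟩ := Invol.exists_conj_mem_sylow T (U.2.map C.subtype)
      have hrH : r ∈ H := hpt d₀ hd₀ hd₀B r (hTH (hr d₀
        ⟨⟨d₀, mem_centralizer_singleton_iff.2 hd₀t⟩, hU hd₀, rfl⟩))
      intro u hu
      have h2 := mul_mem (mul_mem (inv_mem hrH) (hTH (hr u ⟨u, hu, rfl⟩))) hrH
      rwa [show r⁻¹ * (r * (u : G) * r⁻¹) * r = u by group] at h2
    intro y hy
    obtain ⟨o, ho, u, hu, e⟩ := exists_core_mul U (H.subgroupOf C) (L.subgroupOf C)
      (fun z hz => hUH z hz) hCLn hLo hod (fun D hD g hg => by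
        obtain ⟨x, hx, hxe⟩ := (hctrl D hD).2 g (by rintro _ ⟨z, hz, rfl⟩; exact hg z hz)
        exact ⟨x, hNQ x hx, hxe⟩) ⟨y, hy⟩
    have e' : y = (o : G) * (u : G) := congrArg Subtype.val e
    rw [e']
    refine mul_mem ?_ (hUH u hu)
    -- the core of the centralizer
    set X : Subgroup G := (Cfsg.oddCore C).map C.subtype with hX
    have hXodd : Odd (Nat.card X) := by
      rw [hX, Subgroup.card_map_of_injective C.subtype_injective]
      exact Invol.odd_card_oddCore _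
    have hdC : d₀ ∈ C := mem_centralizer_singleton_iff.2 hd₀t
    obtain ⟨e₂, he₂, he₂B, he₁₂⟩ : ∃ e₂ ∈ A ⊓ C, e₂ ∉ B ∧ d₀ * e₂ ∉ B := by
      by_contra hcon
      push Not at hcon
      have hle : ((A ⊓ C : Subgroup G) : Set G) ⊆ (B : Set G) ∪ (fun b => d₀ * b) '' B :=
        fun x hx => by
          by_cases hxB : x ∈ B
          · exact Or.inl hxB
          · exact Or.inr ⟨d₀ * x, hcon x hx hxB, by
              show d₀ * (d₀ * x) = x
              rw [← mul_assoc, h.sq d₀ hd₀, one_mul]⟩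
      have hr : 16 ≤ Nat.card ↥(A ⊓ C) := h.rank t htN (hBA ht2)
      have hu := (Set.ncard_le_ncard hle).trans ((Set.ncard_union_le _ _).trans
        (Nat.add_le_add_left Set.ncard_image_le _))
      rw [← Nat.card_coe_set_eq, ← Nat.card_coe_set_eq, SetLike.coe_sort_coe,
        SetLike.coe_sort_coe] at hu
      omega
    refine (?_ : X ≤ H) ⟨o, ho, rfl⟩
    have hnX : ∀ z ∈ C, z ∈ normalizer (X : Set G) := fun z hz => by
      refine Invol.mem_normalizer_iff_of_finite ?_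
      rintro _ ⟨q, hq, rfl⟩
      exact ⟨⟨z, hz⟩ * q * ⟨z, hz⟩⁻¹, Subgroup.Normal.conj_mem (H := Cfsg.oddCore C)
        (Solvable.pPrimeCore_normal 2 C) q hq _, rfl⟩
    have hle : ∀ {e : G}, e ∈ A → e ∉ B → X ⊓ centralizer ({e} : Set G) ≤ H :=
      fun he heB => inf_le_right.trans (hCH _ he (hcen _ he heB))
    have hord : ∀ {e : G}, e ∈ A → e ∉ B → orderOf e = 2 := fun {e} he heB =>
      Invol.invol_of_mul_self (h.sq e he) fun e1 => heB (e1 ▸ one_mem _)
    refine InvChar.ComClosed.le_of_four hXodd (hord hd₀ hd₀B) (hord he₂.1 he₂B)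
      (fun e1 => he₁₂ (by rw [← e1, h.sq d₀ hd₀]; exact one_mem _))
      (h.comm _ hd₀ _ he₂.1) (hnX _ hdC) (hnX _ he₂.2) (hle hd₀ hd₀B) (hle he₂.1 he₂B)
      (hle (mul_mem hd₀ he₂.1) he₁₂)
  -- the point of an involution modulo `B` is unique
  have hsqc : ∀ (g : G) {t : G}, t * t ∈ B → g * t * g⁻¹ * (g * t * g⁻¹) ∈ B := fun g {t} ht => by
    rw [show g * t * g⁻¹ * (g * t * g⁻¹) = g * (t * t) * g⁻¹ by group,
      mem_center_iff.1 (hBc _ ht) g, mul_inv_cancel_right]
    exact ht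
  have hnBc : ∀ (g : G) {t : G}, t ∉ B → g * t * g⁻¹ ∉ B := fun g {t} ht e => ht (by
    have h1 := mem_center_iff.1 (hBc _ e) g⁻¹
    rw [show g⁻¹ * (g * t * g⁻¹) = t * g⁻¹ by group] at h1
    rw [mul_right_cancel h1]
    exact e)
  have huniq : ∀ t ∈ H, t ∉ B → t * t ∈ B → ∀ g : G, g * t * g⁻¹ ∈ H → g ∈ H := by
    intro t ht htB ht2 g hg
    obtain ⟨c, hc, hcT⟩ := hconjT t ht (hkd2 ht2)
    obtain ⟨d, hd, hdB, hdt⟩ := hd0 (hTN hcT) (hsqc c ht2)
    suffices g * c⁻¹ ∈ H by simpa using mul_mem this hc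
    refine hpt d hd hdB _ (hKt _ hg (hnBc g htB) (hsqc g ht2)
      (mem_centralizer_singleton_iff.2 ?_))
    calc g * c⁻¹ * d * (g * c⁻¹)⁻¹ * (g * t * g⁻¹)
        = g * c⁻¹ * (d * (c * t * c⁻¹)) * c * g⁻¹ := by group
      _ = g * c⁻¹ * (c * t * c⁻¹ * d) * c * g⁻¹ := by rw [hdt]
      _ = _ := by group
  have hmove : ∀ t ∈ H, t ∉ B → t * t ∈ B → ∀ w : G, t⁻¹ * (w * t * w⁻¹) ∈ B → w ∈ H :=
    fun t ht htB ht2 w hw => huniq t ht htB ht2 w (by
      have h1 := mul_mem ht (hNH (le_normalizer (hBA hw)))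
      rwa [mul_inv_cancel_left] at h1)
  -- an involution outside `A`
  obtain ⟨x, hxN, hxA, hx2⟩ : ∃ x ∈ normalizer (A : Set G), x ∉ A ∧ x * x = 1 := by
    obtain ⟨a, r, hr, he⟩ := Nat.exists_eq_two_pow_mul_odd (orderOf_pos t₀).ne'
    set s := t₀ ^ r with hs
    have hsN : s ∈ normalizer (A : Set G) := pow_mem ht₀ r
    obtain ⟨j, hj⟩ := hr
    have hsC : s ∉ centralizer (A : Set G) := fun e => ht₀A (by
      have h1 : (t₀ * t₀) ^ j ∈ centralizer (A : Set G) := pow_mem ht₀2 j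
      have h2 := mul_mem (inv_mem h1) e
      rwa [hs, hj, pow_succ, pow_mul, pow_two, inv_mul_cancel_left] at h2)
    have hs2 : s * s ∈ centralizer (A : Set G) := by
      rw [hs, ← pow_add, ← two_mul, pow_mul, pow_two]
      exact pow_mem ht₀2 r
    have hs2A : s * s ∈ A := h.self _ hs2 (hzp (k := a) (by
      rw [hs, ← pow_add, ← two_mul, ← pow_mul, show 2 * r * 2 ^ a = 2 ^ a * r * 2 by ring, ← he,
        pow_mul, pow_orderOf_eq_one, one_pow]))
    obtain ⟨a₁, ha₁, he1⟩ := h.split s hsN hs2A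
    refine ⟨s * a₁, mul_mem hsN (le_normalizer ha₁), fun e => hsC ?_, he1⟩
    have h2 := mul_mem (h.A_le_cent e) (inv_mem (h.A_le_cent ha₁))
    rwa [mul_inv_cancel_right] at h2
  have hxH : x ∈ H := hNH hxN
  have hxB : x ∉ B := fun e => hxA (hBA e)
  obtain ⟨a₀, ha₀, ha₀B⟩ : ∃ a ∈ A, a ∉ B := by
    refine SetLike.not_le_iff_exists.1 fun e => ?_
    have := Nat.card_le_card_of_injective _ (inclusion_injective e)
    rw [h.card] at this
    omega
  have hHtop : ∀ g : G, g ∈ H := by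
    intro g
    set d := g * a₀ * g⁻¹ with hd
    haveI hBn : B.Normal := ⟨fun b hb y => by
      rw [mem_center_iff.1 (hBc _ hb) y, mul_inv_cancel_right]; exact hb⟩
    let π := QuotientGroup.mk' B
    have hπ : ∀ {y : G}, π y = 1 ↔ y ∈ B := QuotientGroup.eq_one_iff _
    have hdB : d ∉ B := hnBc g ha₀B
    have hd2 : d * d ∈ B := hsqc g (by rw [h.sq a₀ ha₀]; exact one_mem _)
    have hord : ∀ {y : G}, y ∉ B → y * y ∈ B → orderOf (π y) = 2 := fun hy hy2 =>
      Invol.invol_of_mul_self (by rw [← map_mul]; exact hπ.2 hy2) fun e => hy (hπ.1 e)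
    have hnc : ¬ IsConj (π x) (π d) := by
      intro hc
      obtain ⟨q, hq⟩ := isConj_iff.1 hc
      obtain ⟨y, rfl⟩ := QuotientGroup.mk'_surjective B q
      have hb : d⁻¹ * (y * x * y⁻¹) ∈ B := hπ.1 (by
        rw [map_mul, map_inv, show π (y * x * y⁻¹) = π d from hq, inv_mul_cancel])
      -- so `x` is conjugate to an element of `A`
      set b := d⁻¹ * (y * x * y⁻¹) with hbdef
      have hb' : g * b * g⁻¹ = b := by rw [mem_center_iff.1 (hBc _ hb) g, mul_inv_cancel_right]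
      have e : (y⁻¹ * g) * (a₀ * b) * (y⁻¹ * g)⁻¹ = x := by
        calc (y⁻¹ * g) * (a₀ * b) * (y⁻¹ * g)⁻¹ = y⁻¹ * (d * (g * b * g⁻¹)) * y := by
              rw [hd]; group
          _ = y⁻¹ * (d * b) * y := by rw [hb']
          _ = x := by rw [hbdef]; group
      refine hxA ?_
      rw [← e]
      exact h.closed _ (mul_mem ha₀ (hBA hb)) _ (by rw [e]; exact hxN)
    have hxo := hord hxB (by rw [hx2]; exact one_mem _)
    have hdo := hord hdB hd2
    have hev := Invol.even_of_not_isConj hxo hdo hnc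
    obtain ⟨w, hw⟩ := QuotientGroup.mk'_surjective B
      ((π x * π d) ^ (orderOf (π x * π d) / 2))
    change π w = _ at hw
    have hwo := Invol.orderOf_pow_half hev
    rw [← hw] at hwo
    have hwx := Invol.commute_pow_half_left hxo hdo hev
    have hwd := Invol.commute_pow_half_right hxo hdo hev
    rw [← hw] at hwx hwd
    have hwB : w ∉ B := fun e => Invol.invol_ne_one hwo (hπ.2 e)
    have hw2 : w * w ∈ B := hπ.1 (by rw [map_mul]; exact Invol.invol_mul_self hwo)
    have hwc : ∀ {y : G}, Commute (π w) (π y) → y⁻¹ * (w * y * w⁻¹) ∈ B := fun hy => hπ.1 (by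
      rw [map_mul, map_inv, map_mul, map_mul, map_inv, hy.eq, mul_inv_cancel_right,
        inv_mul_cancel])
    have hwH : w ∈ H := hmove x hxH hxB (by rw [hx2]; exact one_mem _) w (hwc hwx)
    -- move `d` into `H`
    have hda : g⁻¹ * d * g⁻¹⁻¹ ∈ H := by
      rw [hd, show g⁻¹ * (g * a₀ * g⁻¹) * g⁻¹⁻¹ = a₀ by group]
      exact hNH (le_normalizer ha₀)
    set d' := g⁻¹ * d * g⁻¹⁻¹ with hd'
    have hw' : g⁻¹ * w * g ∈ H := hmove d' hda (hnBc _ hdB) (hsqc _ hd2) _ (by
      rw [hd', show (g⁻¹ * d * g⁻¹⁻¹)⁻¹ * (g⁻¹ * w * g * (g⁻¹ * d * g⁻¹⁻¹) * (g⁻¹ * w * g)⁻¹) =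
        g⁻¹ * (d⁻¹ * (w * d * w⁻¹)) * g by group, mem_center_iff.1 (hBc _ (hwc hwd)) g⁻¹,
        inv_mul_cancel_right]
      exact hwc hwd)
    have := huniq w hwH hwB hw2 g⁻¹ (by rwa [inv_inv])
    simpa using inv_mem this
  intro g
  obtain ⟨l, hl, n, hn, rfl⟩ := hHd g (hHtop g)
  refine ⟨l, Invol.le_oddCore (normalizer_eq_top_iff.1 (eq_top_iff.2 fun z _ => ?_)) hLodd hl,
    n, hn, rfl⟩
  exact sup_le le_normalizer hNL (hHtop z)

end Hyp

/-- Every element is a product of an element of the odd core and one normalizing `A`. -/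
theorem Hyp.factor {G : Type u} [Group G] [Finite G] {A : Subgroup G} (h : Hyp A) (g : G) :
    ∃ o ∈ Cfsg.oddCore G, ∃ n ∈ normalizer (A : Set G), g = o * n := by
  induction hn : Nat.card G using Nat.strong_induction_on generalizing G with
  | _ m ih =>
    subst hn
    by_cases hodd : ∀ n ∈ normalizer (A : Set G), Odd (orderOf n) → n ∈ centralizer (A : Set G)
    · exact h.step_small hodd g
    push Not at hodd
    obtain ⟨n₀, hn₀, hn₀o, hn₀A⟩ := hodd
    refine h.step_big hn₀ hn₀o hn₀A (fun a ha hac x hx => ?_) g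
    set C := centralizer ({a} : Set G) with hC
    have hlt : Nat.card C < Nat.card G := by
      refine lt_of_le_of_ne (Nat.card_le_card_of_injective _ C.subtype_injective) fun e => hac ?_
      have htop : C = ⊤ := eq_top_of_card_eq _ e
      exact mem_center_iff.2 fun y => mem_centralizer_singleton_iff.1
        (show y ∈ C by rw [htop]; exact mem_top y)
    obtain ⟨o, ho, n, hn, e⟩ := ih _ hlt (h.restrict ha) ⟨x, hx⟩ rfl
    have hAC : A ≤ C := fun b hb => mem_centralizer_singleton_iff.2 (h.comm b hb a ha)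
    exact ⟨o, mem_core_iff.2 ⟨o.2, ho⟩, n, (mem_normalizer_subgroupOf hAC).1 hn, n.2,
      congrArg Subtype.val e⟩

/-- With trivial odd core the subgroup is normal. -/
theorem Hyp.normal {G : Type u} [Group G] [Finite G] {A : Subgroup G} (h : Hyp A)
    (hO : Cfsg.oddCore G = ⊥) : A.Normal := by
  refine normalizer_eq_top_iff.1 (eq_top_iff.2 fun g _ => ?_)
  obtain ⟨o, ho, n, hn, rfl⟩ := h.factor g
  rw [hO, mem_bot] at ho
  rw [ho, one_mul]
  exact hn

end CfsgLib.SylM24Q
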