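import Cfsg.Agent.Lib.StructC.M24SylQModel
import Cfsg.Prelude.Def_TwoFusion

/-!
The abelian subgroup of order `64` of a Sylow `2`-subgroup modelled on that of `M24` modulo its centre
is strongly closed.

Let `x` be a conjugate outside `A` of an element of `A`, with centralizer `T` in `S` as large as
possible.  As `A` normalises `T`, the normaliser of `T` in `S` may be assumed to be a Sylow subgroup
of the normaliser of `T`, which then moves `x` to a central element `w` of `T` inside `A`.  Either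
the numbers of square roots in `T` differ, or an element of `A` moves `x` by the only nontrivial
square of `T`, while the normaliser of `T` in `S` fixes `w`.
-/

set_option autoImplicit false
set_option maxRecDepth 100000

namespace CfsgLib.SylM24Q

open Subgroup

section Abstract

variable {G : Type*} [Group G]

/-- The centralizer of an element in `S`. -/
def cS (S : Subgroup G) (x : G) : Subgroup G := S ⊓ centralizer ({x} : Set G)

theorem mem_cS {S : Subgroup G} {x t : G} : t ∈ cS S x ↔ t ∈ S ∧ t * x = x * t := by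
  simp [cS, mem_inf, mem_centralizer_singleton_iff]

/-- What is checked in the model at an involution outside `A`. -/
def Checked (S A : Subgroup G) (x : G) : Prop :=
  (∀ v ∈ A, ∀ t ∈ cS S x, v * t * v⁻¹ ∈ cS S x) ∧
    ((∀ z ∈ A, (∀ t ∈ cS S x, t * z = z * t) →
        {t | t ∈ cS S x ∧ t * t = x}.ncard ≠ {t | t ∈ cS S x ∧ t * t = z}.ncard) ∨
      ∃ q ∈ A, ∃ c : G, c ≠ 1 ∧ q * x * q⁻¹ = c * x ∧ (∀ t ∈ cS S x, t * t = 1 ∨ t * t = c) ∧
        (∃ t ∈ cS S x, t * t = c) ∧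
        ∀ g ∈ S, (∀ t ∈ cS S x, t * (g * x * g⁻¹) = g * x * g⁻¹ * t) →
          ∀ z ∈ A, (∀ t ∈ cS S x, t * z = z * t) → g * z = z * g)

variable [Finite G]

theorem exists_conj_le (S : Sylow 2 G) {U : Subgroup G} (hU : IsPGroup 2 U) :
    ∃ g : G, ∀ u ∈ U, g * u * g⁻¹ ∈ (S : Subgroup G) := by
  have : Fact (Nat.Prime 2) := ⟨Nat.prime_two⟩
  obtain ⟨R, hR⟩ := hU.exists_le_sylow
  obtain ⟨g, hg⟩ := MulAction.exists_smul_eq G R S
  refine ⟨g, fun u hu => ?_⟩
  rw [← hg, Sylow.coe_subgroup_smul]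
  exact ⟨u, hR hu, rfl⟩

/-- A maximal `2`-subgroup of a subgroup contains a conjugate of each `2`-subgroup. -/
theorem conj_into {M Q U : Subgroup G} (hQM : Q ≤ M) (hQ : IsPGroup 2 Q)
    (hmax : ∀ V : Subgroup G, IsPGroup 2 V → Q ≤ V → V ≤ M → V ≤ Q) (hUM : U ≤ M)
    (hU : IsPGroup 2 U) : ∃ v ∈ M, ∀ u ∈ U, v * u * v⁻¹ ∈ Q := by
  have : Fact (Nat.Prime 2) := ⟨Nat.prime_two⟩
  let P : Sylow 2 M :=
    ⟨Q.subgroupOf M, hQ.of_equiv (subgroupOfEquivOfLe hQM).symm, fun {V} hV hle => by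
      refine le_antisymm (fun y hy => ?_) hle
      have h1 : Q ≤ V.map M.subtype := fun z hz => ⟨⟨z, hQM hz⟩, hle hz, rfl⟩
      exact hmax _ (hV.map _) h1 (map_subtype_le V) ⟨y, hy, rfl⟩⟩
  obtain ⟨R, hR⟩ := (hU.of_equiv (subgroupOfEquivOfLe hUM).symm).exists_le_sylow
  obtain ⟨v, hv⟩ := MulAction.exists_smul_eq M R P
  refine ⟨v, v.2, fun u hu => ?_⟩
  have h : (v * ⟨u, hUM hu⟩ * v⁻¹ : M) ∈ (P : Subgroup M) := by
    rw [← hv, Sylow.coe_subgroup_smul]
    exact ⟨⟨u, hUM hu⟩, hR hu, rfl⟩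
  exact h

omit [Finite G] in
theorem conj_mem_norm {T : Subgroup G} {n t : G} (hn : n ∈ normalizer (T : Set G)) (ht : t ∈ T) :
    n * t * n⁻¹ ∈ T :=
  (mem_normalizer_iff.1 hn t).1 ht

theorem mem_norm_of_conj {T : Subgroup G} {n : G} (h : ∀ t ∈ T, n * t * n⁻¹ ∈ T) :
    n ∈ normalizer (T : Set G) := by
  have hle : T.map (MulAut.conj n).toMonoidHom ≤ T := by
    rintro _ ⟨t, ht, rfl⟩
    exact h t ht
  have heq := eq_of_le_of_card_ge hle (le_of_eq (card_map_of_injective (MulEquiv.injective _)).symm)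
  rw [mem_normalizer_iff]
  refine fun t => ⟨h t, fun ht => ?_⟩
  rw [← heq] at ht
  obtain ⟨t', ht', e⟩ := ht
  rwa [← (MulAut.conj n).injective e]

/-- A subgroup with the checked property is strongly closed. -/
theorem closed_of_checked (S : Sylow 2 G) {A : Subgroup G} (hAS : A ≤ (S : Subgroup G))
    (hA2 : ∀ a ∈ A, a * a = 1) (hcomm : ∀ a ∈ A, ∀ b ∈ A, a * b = b * a)
    (hweak : ∀ g : G, (∀ a ∈ A, g * a * g⁻¹ ∈ (S : Subgroup G)) → ∀ a ∈ A, g * a * g⁻¹ ∈ A)
    (hcert : ∀ x ∈ (S : Subgroup G), x ∉ A → x * x = 1 → Checked (S : Subgroup G) A x)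
    {a : G} (ha : a ∈ A) (g : G) (hg : g * a * g⁻¹ ∈ (S : Subgroup G)) : g * a * g⁻¹ ∈ A := by
  have : Fact (Nat.Prime 2) := ⟨Nat.prime_two⟩
  by_contra hgA
  let Y : Set G := {x | x ∈ (S : Subgroup G) ∧ x ∉ A ∧ IsConj a x}
  have hsq : ∀ x ∈ Y, x * x = 1 := by
    rintro x ⟨-, -, hc⟩
    obtain ⟨k, rfl⟩ := isConj_iff.1 hc
    rw [show k * a * k⁻¹ * (k * a * k⁻¹) = k * (a * a) * k⁻¹ by group, hA2 a ha]
    group
  have hback : ∀ k : G, (∀ b ∈ A, k * b * k⁻¹ ∈ A) → ∀ x, k * x * k⁻¹ ∈ A → x ∈ A := by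
    intro k hk x hx
    exact (mem_normalizer_iff.1 (mem_norm_of_conj hk) x).2 hx
  obtain ⟨x₀, hx₀, hmax₀⟩ := Set.exists_max_image Y (fun x => Nat.card (cS (S : Subgroup G) x))
    (Set.toFinite _) ⟨_, hg, hgA, isConj_iff.2 ⟨g, rfl⟩⟩
  -- the normalizer in `S` may be assumed maximal
  obtain ⟨x, hx, hmax, hQ⟩ : ∃ x ∈ Y, (∀ y ∈ Y, Nat.card (cS (S : Subgroup G) y) ≤
        Nat.card (cS (S : Subgroup G) x)) ∧
      ∀ V : Subgroup G, IsPGroup 2 V →
        (S : Subgroup G) ⊓ normalizer (cS (S : Subgroup G) x : Set G) ≤ V →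
        V ≤ normalizer (cS (S : Subgroup G) x : Set G) → V ≤ (S : Subgroup G) := by
    set T := cS (S : Subgroup G) x₀ with hT
    set NT := normalizer (T : Set G) with hNT
    have hpq : IsPGroup 2 ((S : Subgroup G) ⊓ NT : Subgroup G) := S.2.to_le inf_le_left
    obtain ⟨R, hR⟩ := (hpq.of_equiv (subgroupOfEquivOfLe inf_le_right).symm).exists_le_sylow
    obtain ⟨k, hk⟩ := exists_conj_le S (R.2.map NT.subtype)
    have hin : ∀ y ∈ (S : Subgroup G), y ∈ NT → k * y * k⁻¹ ∈ (S : Subgroup G) := fun y hy hy' =>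
      hk y ⟨⟨y, hy'⟩, hR (show y ∈ (S : Subgroup G) ⊓ NT from ⟨hy, hy'⟩), rfl⟩
    obtain ⟨hx₀S, hx₀A, hx₀c⟩ := hx₀
    have hchk := hcert x₀ hx₀S hx₀A (hsq x₀ ⟨hx₀S, hx₀A, hx₀c⟩)
    have hkA := hweak k fun b hb => hin b (hAS hb) (mem_norm_of_conj (hchk.1 b hb))
    have hxT : x₀ ∈ T := mem_cS.2 ⟨hx₀S, rfl⟩
    have hY : k * x₀ * k⁻¹ ∈ Y := ⟨hin x₀ hx₀S (T.le_normalizer hxT),
      fun h => hx₀A (hback k hkA x₀ h), hx₀c.trans (isConj_iff.2 ⟨k, rfl⟩)⟩
    have hle : T.map (MulAut.conj k).toMonoidHom ≤ cS (S : Subgroup G) (k * x₀ * k⁻¹) := by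
      rintro _ ⟨t, ht, rfl⟩
      obtain ⟨htS, htx⟩ := mem_cS.1 ht
      refine mem_cS.2 ⟨hin t htS (T.le_normalizer ht), ?_⟩
      show k * t * k⁻¹ * (k * x₀ * k⁻¹) = k * x₀ * k⁻¹ * (k * t * k⁻¹)
      rw [show k * t * k⁻¹ * (k * x₀ * k⁻¹) = k * (t * x₀) * k⁻¹ by group, htx]
      group
    have hc := card_map_of_injective (K := T) (f := (MulAut.conj k).toMonoidHom) (MulEquiv.injective _)
    have heq := eq_of_le_of_card_ge hle (by rw [hc]; exact hmax₀ _ hY)
    refine ⟨_, hY, fun y hy => (hmax₀ y hy).trans (by rw [← heq, hc]), fun V hV hle' hVN v hv => ?_⟩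
    rw [← heq] at hle' hVN
    set W : Subgroup G := V.comap (MulAut.conj k).toMonoidHom with hW
    have hWN : W ≤ NT := fun w hw => mem_norm_of_conj fun t ht => by
      obtain ⟨t', ht', e⟩ := conj_mem_norm (hVN hw)
        (mem_map_of_mem (MulAut.conj k).toMonoidHom ht)
      have e' : t' = w * t * w⁻¹ := by
        apply (MulAut.conj k).injective
        rw [map_mul, map_mul, map_inv]
        exact e
      rwa [← e']
    have hRW : (R : Subgroup NT) ≤ W.subgroupOf NT := fun r hr => by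
      refine hle' ⟨hk _ ⟨r, hr, rfl⟩, mem_norm_of_conj ?_⟩
      rintro _ ⟨t, ht, rfl⟩
      refine ⟨(r : G) * t * (r : G)⁻¹, conj_mem_norm r.2 ht, ?_⟩
      show MulAut.conj k ((r : G) * t * (r : G)⁻¹) = _
      rw [map_mul, map_mul, map_inv]
      rfl
    have hWp : IsPGroup 2 W := hV.comap_of_injective _ (MulEquiv.injective _)
    have hRe := R.3 (hWp.of_equiv (subgroupOfEquivOfLe hWN).symm) hRW
    obtain ⟨v', hv'⟩ : ∃ v', k * v' * k⁻¹ = v := ⟨k⁻¹ * v * k, by group⟩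
    have hmem : v' ∈ W := by rw [hW, mem_comap]; show k * v' * k⁻¹ ∈ V; rw [hv']; exact hv
    have : (⟨v', hWN hmem⟩ : NT) ∈ (R : Subgroup NT) := by rw [← hRe]; exact hmem
    rw [← hv']
    exact hk _ ⟨_, this, rfl⟩
  clear hmax₀ hx₀ x₀
  obtain ⟨hxS, hxA, hxc⟩ := hx
  have hx2 := hsq x ⟨hxS, hxA, hxc⟩
  obtain ⟨hnormA, hcases⟩ := hcert x hxS hxA hx2
  set T := cS (S : Subgroup G) x with hT
  set NT := normalizer (T : Set G) with hNT
  have hxT : x ∈ T := mem_cS.2 ⟨hxS, rfl⟩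
  have hxcen : ∀ t ∈ T, t * x = x * t := fun t ht => (mem_cS.1 ht).2
  -- a two-element of the centralizer normalising and outside `T`
  obtain ⟨h, hhN, hhx, hhT, hhp⟩ : ∃ h ∈ NT, h * x = x * h ∧ h ∉ T ∧
      IsPGroup 2 (zpowers h) := by
    set Cx := centralizer ({x} : Set G) with hCx
    have hTC : T ≤ Cx := inf_le_right
    obtain ⟨R0, hR0⟩ :=
      ((S.2.to_le (inf_le_left : T ≤ (S : Subgroup G))).of_equiv (subgroupOfEquivOfLe hTC).symm).exists_le_sylow
    set R := (R0 : Subgroup Cx).map Cx.subtype with hR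
    have hTR : T ≤ R := fun t ht => ⟨⟨t, hTC ht⟩, hR0 ht, rfl⟩
    have hRp : IsPGroup 2 R := R0.2.map _
    have hne : T.subgroupOf R ≠ ⊤ := by
      intro e
      obtain ⟨k, hk⟩ := isConj_iff.1 hxc
      have hAC : A.map (MulAut.conj k).toMonoidHom ≤ Cx := by
        rintro _ ⟨b, hb, rfl⟩
        refine mem_centralizer_singleton_iff.2 ?_
        show k * b * k⁻¹ * x = x * (k * b * k⁻¹)
        rw [← hk, show k * b * k⁻¹ * (k * a * k⁻¹) = k * (b * a) * k⁻¹ by group, hcomm b hb a ha]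
        group
      obtain ⟨c, hcM, hc⟩ := conj_into (Q := R) (map_subtype_le _) hRp (fun V hV hle hVC v hv => by
          have := R0.3 (hV.of_equiv (subgroupOfEquivOfLe hVC).symm) fun r hr => hle ⟨r, hr, rfl⟩
          exact ⟨⟨v, hVC hv⟩, this ▸ hv, rfl⟩) hAC ((S.2.to_le hAS).map _)
      have hcT : ∀ b ∈ A, c * k * b * (c * k)⁻¹ ∈ T := fun b hb => by
        have h1 := hc _ (mem_map_of_mem (MulAut.conj k).toMonoidHom hb)
        have h2 : (⟨_, h1⟩ : R) ∈ T.subgroupOf R := by rw [e]; trivial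
        rw [show c * k * b * (c * k)⁻¹ = c * (k * b * k⁻¹) * c⁻¹ by group]
        exact h2
      have h1 := hweak (c * k) (fun b hb => (mem_cS.1 (hcT b hb)).1) a ha
      rw [show c * k * a * (c * k)⁻¹ = c * (k * a * k⁻¹) * c⁻¹ by group, hk,
        show c * x = x * c from mem_centralizer_singleton_iff.1 hcM, mul_inv_cancel_right] at h1
      exact hxA h1
    have := hRp.isNilpotent
    obtain ⟨h, hhn, hhT⟩ := SetLike.exists_of_lt
      (Group.normalizerCondition_of_isNilpotent _ (lt_top_iff_ne_top.2 hne))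
    refine ⟨h, mem_norm_of_conj fun t ht => ?_,
      mem_centralizer_singleton_iff.1 (map_subtype_le _ h.2), fun hh => hhT hh,
      hRp.to_le (zpowers_le.2 h.2)⟩
    exact (mem_normalizer_iff.1 hhn ⟨t, hTR ht⟩).1 ht
  -- move it into `S`
  have hmaxN : ∀ M : Subgroup G, M ≤ NT → ∀ V : Subgroup G, IsPGroup 2 V →
      (S : Subgroup G) ⊓ NT ≤ V → V ≤ M → V ≤ (S : Subgroup G) ⊓ NT :=
    fun M hM V hV h1 h2 => le_inf (hQ V hV h1 (h2.trans hM)) (h2.trans hM)
  obtain ⟨v, hvN, hv⟩ := conj_into (Q := (S : Subgroup G) ⊓ NT) inf_le_right (S.2.to_le inf_le_left)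
    (hmaxN NT le_rfl) (zpowers_le.2 hhN) hhp
  set w := v * x * v⁻¹ with hw
  have hwT : w ∈ T := conj_mem_norm hvN hxT
  have hvT : ∀ t ∈ T, v⁻¹ * t * v ∈ T := fun t ht => by
    simpa using conj_mem_norm (inv_mem hvN) ht
  have hwcen : ∀ t ∈ T, t * w = w * t := fun t ht => by
    calc t * w = v * (v⁻¹ * t * v * x) * v⁻¹ := by rw [hw]; group
      _ = v * (x * (v⁻¹ * t * v)) * v⁻¹ := by rw [hxcen _ (hvT t ht)]
      _ = w * t := by rw [hw]; group
  have hwA : w ∈ A := by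
    by_contra hwA
    have hle : T ≤ cS (S : Subgroup G) w := fun t ht => mem_cS.2 ⟨(mem_cS.1 ht).1, hwcen t ht⟩
    have he := eq_of_le_of_card_ge hle
      (hmax w ⟨(mem_cS.1 hwT).1, hwA, hxc.trans (isConj_iff.2 ⟨v, rfl⟩)⟩)
    have hh' : v * h * v⁻¹ ∈ T := by
      rw [he]
      refine mem_cS.2 ⟨(mem_inf.1 (hv h (mem_zpowers h))).1, ?_⟩
      rw [hw, show v * h * v⁻¹ * (v * x * v⁻¹) = v * (h * x) * v⁻¹ by group, hhx]
      group
    exact hhT (by simpa [mul_assoc] using hvT _ hh')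
  rcases hcases with hcount | ⟨q, hqA, c, hc1, hqx, hsquares, ⟨t₀, ht₀, hc⟩, hfix⟩
  · refine hcount w hwA hwcen ?_
    rw [← Set.ncard_image_of_injective _ (MulAut.conj v).injective]
    congr 1
    ext t
    constructor
    · rintro ⟨s, ⟨hs, hs2⟩, rfl⟩
      refine ⟨conj_mem_norm hvN hs, ?_⟩
      show v * s * v⁻¹ * (v * s * v⁻¹) = w
      rw [show v * s * v⁻¹ * (v * s * v⁻¹) = v * (s * s) * v⁻¹ by group, hs2, hw]
    · rintro ⟨ht, ht2⟩
      refine ⟨v⁻¹ * t * v, ⟨hvT t ht, ?_⟩, by show v * (v⁻¹ * t * v) * v⁻¹ = t; group⟩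
      rw [show v⁻¹ * t * v * (v⁻¹ * t * v) = v⁻¹ * (t * t) * v by group, ht2, hw]
      group
  -- the only square is fixed by the normalizer
  have hnc : ∀ n ∈ NT, n * c * n⁻¹ = c := by
    intro n hn
    rcases hsquares _ (conj_mem_norm hn ht₀) with h1 | h1 <;>
      rw [show n * t₀ * n⁻¹ * (n * t₀ * n⁻¹) = n * (t₀ * t₀) * n⁻¹ by group, hc] at h1
    · exact absurd (by simpa [mul_inv_eq_one] using h1) hc1
    · exact h1
  have hcc : c * c = 1 := by
    have hcT : c ∈ T := hc ▸ mul_mem ht₀ ht₀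
    exact (hsquares c hcT).resolve_right fun h1 => hc1 (mul_eq_left.1 h1)
  let M : Subgroup G :=
    { carrier := {n | n ∈ NT ∧ (n * w * n⁻¹ = w ∨ n * w * n⁻¹ = c * w)}
      one_mem' := ⟨one_mem _, Or.inl (by group)⟩
      mul_mem' := by
        rintro m n ⟨hm, hmw⟩ ⟨hn, hnw⟩
        refine ⟨mul_mem hm hn, ?_⟩
        have e : m * n * w * (m * n)⁻¹ = m * (n * w * n⁻¹) * m⁻¹ := by group
        rcases hnw with h1 | h1 <;> rw [e, h1]
        · exact hmw
        · rw [show m * (c * w) * m⁻¹ = m * c * m⁻¹ * (m * w * m⁻¹) by group, hnc m hm]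
          rcases hmw with h2 | h2 <;> rw [h2]
          · exact Or.inr rfl
          · exact Or.inl (by rw [← mul_assoc, hcc, one_mul])
      inv_mem' := by
        rintro n ⟨hn, hnw⟩
        refine ⟨inv_mem hn, ?_⟩
        rw [inv_inv]
        rcases hnw with h1 | h1
        · left
          calc n⁻¹ * w * n = n⁻¹ * (n * w * n⁻¹) * n := by rw [h1]
            _ = w := by group
        · right
          have hci : n⁻¹ * c * n = c := by simpa using hnc _ (inv_mem hn)
          calc n⁻¹ * w * n = c * (c * (n⁻¹ * w * n)) := by rw [← mul_assoc c c, hcc, one_mul]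
            _ = c * (n⁻¹ * c * n * (n⁻¹ * w * n)) := by rw [hci]
            _ = c * (n⁻¹ * (c * w) * n) := by group
            _ = c * (n⁻¹ * (n * w * n⁻¹) * n) := by rw [h1]
            _ = c * w := by group }
  have hQM : (S : Subgroup G) ⊓ NT ≤ M := by
    intro n hn
    obtain ⟨hnS, hnN⟩ := mem_inf.1 hn
    refine ⟨hnN, Or.inl ?_⟩
    rw [hfix n hnS (fun t ht => ?_) w hwA hwcen, mul_inv_cancel_right]
    have h1 := hxcen _ (conj_mem_norm (inv_mem hnN) ht)
    rw [inv_inv] at h1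
    calc t * (n * x * n⁻¹) = n * (n⁻¹ * t * n * x) * n⁻¹ := by group
      _ = n * (x * (n⁻¹ * t * n)) * n⁻¹ := by rw [h1]
      _ = n * x * n⁻¹ * t := by group
  have hq' : v * q * v⁻¹ ∈ NT := mul_mem (mul_mem hvN (mem_norm_of_conj (hnormA q hqA))) (inv_mem hvN)
  have hq'w : v * q * v⁻¹ * w * (v * q * v⁻¹)⁻¹ = c * w := by
    rw [hw, show v * q * v⁻¹ * (v * x * v⁻¹) * (v * q * v⁻¹)⁻¹ = v * (q * x * q⁻¹) * v⁻¹ by group,
      hqx, show v * (c * x) * v⁻¹ = v * c * v⁻¹ * (v * x * v⁻¹) by group, hnc v hvN]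
  have hqp : IsPGroup 2 (zpowers (v * q * v⁻¹)) := by
    have h1 := (S.2.to_le (zpowers_le.2 (hAS hqA))).map (MulAut.conj v).toMonoidHom
    rwa [MonoidHom.map_zpowers] at h1
  obtain ⟨u, ⟨huN, huw⟩, hu⟩ := conj_into (M := M) hQM (S.2.to_le inf_le_left)
    (hmaxN M fun n hn => hn.1) (zpowers_le.2 ⟨hq', Or.inr hq'w⟩) hqp
  obtain ⟨hn1, hn2⟩ := mem_inf.1 (hu _ (mem_zpowers (v * q * v⁻¹)))
  set p := v * q * v⁻¹ with hp
  -- it fixes `w`, being conjugate to an element fixing `w`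
  have hfixw : p * w * p⁻¹ = w := by
    have hnw : u * p * u⁻¹ * w = w * (u * p * u⁻¹) := by
      refine hfix _ hn1 (fun t ht => ?_) w hwA hwcen
      have h1 := hxcen _ (conj_mem_norm (inv_mem hn2) ht)
      rw [inv_inv] at h1
      generalize u * p * u⁻¹ = n at h1 ⊢
      calc t * (n * x * n⁻¹) = n * (n⁻¹ * t * n * x) * n⁻¹ := by group
        _ = n * (x * (n⁻¹ * t * n)) * n⁻¹ := by rw [h1]
        _ = n * x * n⁻¹ * t := by group
    have h1 : p * (u⁻¹ * w * u) * p⁻¹ = u⁻¹ * w * u := by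
      calc p * (u⁻¹ * w * u) * p⁻¹ = u⁻¹ * (u * p * u⁻¹ * w) * u * p⁻¹ := by group
        _ = u⁻¹ * (w * (u * p * u⁻¹)) * u * p⁻¹ := by rw [hnw]
        _ = u⁻¹ * w * u := by group
    obtain ⟨-, hui⟩ := inv_mem (show u ∈ M from ⟨huN, huw⟩)
    rw [inv_inv] at hui
    rcases hui with h2 | h2 <;> rw [h2] at h1
    · exact h1
    · rw [show p * (c * w) * p⁻¹ = p * c * p⁻¹ * (p * w * p⁻¹) by group, hnc p hq'] at h1
      exact mul_left_cancel h1
  rw [hfixw] at hq'w
  exact hc1 (mul_eq_right.1 hq'w.symm)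

end Abstract

open CfsgLib.StructC.M24SylQ

/-- The seventh power in the model. -/
def inv7 (g : ℕ) : ℕ := mu (mu (mu (mu g g) (mu g g)) (mu g g)) g

/-- The centralizer of an element in the model. -/
def centL (a : ℕ) : List ℕ := (List.range 512).filter fun t => comm t a

/-- The central elements of a centralizer inside the small subgroup. -/
def zenL (T : List ℕ) : List ℕ := (List.range 64).filter fun z => T.all fun t => comm t z

/-- The number of square roots. -/
def rootsN (T : List ℕ) (z : ℕ) : ℕ := (T.filter fun t => Nat.beq (mu t t) z).length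

/-- The check at an element. -/
def checkAt (a : ℕ) : Bool :=
  let T := centL a
  ((List.range 6).all fun i => T.all fun t => comm (mu (mu (Nat.pow 2 i) t) (Nat.pow 2 i)) a) &&
    (((zenL T).all fun z => !Nat.beq (rootsN T a) (rootsN T z)) ||
      (List.range 64).any fun q =>
        let c := mu (mu (mu q a) q) a
        !Nat.beq c 0 && T.all (fun t => Nat.beq (mu t t) 0 || Nat.beq (mu t t) c) &&
          T.any (fun t => Nat.beq (mu t t) c) &&
          let Zl := zenL T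
          (List.range 512).all fun g => Zl.all (fun z => comm g z) ||
            T.any fun t => !comm t (mu (mu g a) (inv7 g)))

theorem check_all : ((List.range 512).all fun a =>
    Nat.blt a 64 || !Nat.beq (mu a a) 0 || checkAt a) = true := by
  decide +kernel

theorem basis_ok : ((List.range 6).all fun n => (List.range 64).all fun b =>
    !(Nat.ble (2 ^ n) b && Nat.blt b (2 ^ (n + 1))) || Nat.beq (mu (b - 2 ^ n) (2 ^ n)) b) = true := by
  decide +kernel

theorem inv7_ok : ((List.range 512).all fun g => Nat.beq (mu g (inv7 g)) 0) = true := by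
  decide +kernel

theorem inv7_lt {g : ℕ} (hg : g < 512) : inv7 g < 512 := by
  have h1 := mu_lt hg hg
  exact mu_lt (mu_lt (mu_lt h1 h1) h1) hg

/-- The abelian subgroup of order `64` is strongly closed. -/
theorem strongly_closed {G : Type*} [Group G] [Finite G] (S : Sylow 2 G)
    (m : CfsgLib.StructC.M24SylQ.Model ↥(S : Subgroup G)) (A : Subgroup G) (hA : A ≤ (S : Subgroup G))
    (hAc : IsMulCommutative ↥A) (hA64 : Nat.card ↥A = 64) :
    Cfsg.IsStronglyClosed A (S : Subgroup G) := by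
  have huni : ∀ B : Subgroup G, B ≤ (S : Subgroup G) → (∀ a ∈ B, ∀ b ∈ B, a * b = b * a) →
      Nat.card B = 64 → B = m.abel.map (S : Subgroup G).subtype := by
    intro B hB hBc hB64
    rw [← m.abel_unique (B.subgroupOf (S : Subgroup G))
      ⟨⟨fun p q => Subtype.ext (Subtype.ext (hBc _ p.2 _ q.2))⟩⟩
      ((Nat.card_congr (subgroupOfEquivOfLe hB).toEquiv).trans hB64)]
    exact (map_subgroupOf_eq_of_le hB).symm
  have hcomm : ∀ a ∈ A, ∀ b ∈ A, a * b = b * a := fun a ha b hb =>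
    congrArg Subtype.val (hAc.is_comm.comm ⟨a, ha⟩ ⟨b, hb⟩)
  have hAe : A = m.abel.map (S : Subgroup G).subtype := huni A hA hcomm hA64
  obtain ⟨F, hF⟩ : ∃ F : ℕ → G, ∀ a, F a = (m.f a : G) := ⟨_, fun _ => rfl⟩
  have Fmul : ∀ a < 512, ∀ b < 512, F (mu a b) = F a * F b := fun a ha b hb => by
    rw [hF, hF, hF, m.map_mu a ha b hb, Subgroup.coe_mul]
  have Fsurj : ∀ y ∈ (S : Subgroup G), ∃ a < 512, F a = y := fun y hy => by
    obtain ⟨a, ha, e⟩ := m.surj ⟨y, hy⟩
    exact ⟨a, ha, by rw [hF, e]⟩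
  have Finj : ∀ a < 512, ∀ b < 512, F a = F b → a = b := fun a ha b hb e => by
    rw [hF, hF] at e
    exact m.inj a ha b hb (Subtype.ext e)
  have Fmem : ∀ a, F a ∈ (S : Subgroup G) := fun a => by rw [hF]; exact (m.f a).2
  have F0 : F 0 = 1 := by rw [hF, m.f_zero]; rfl
  have memA : ∀ y, y ∈ A ↔ ∃ a < 64, F a = y := by
    intro y
    rw [hAe]
    constructor
    · rintro ⟨s, ⟨a, ha, rfl⟩, rfl⟩
      exact ⟨a, ha, hF a⟩
    · rintro ⟨a, ha, rfl⟩
      exact ⟨m.f a, ⟨a, ha, rfl⟩, (hF a).symm⟩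
  have hA2 : ∀ a ∈ A, a * a = 1 := by
    intro y hy
    obtain ⟨a, ha, rfl⟩ := (memA y).1 hy
    have h := List.all_eq_true.1 small_ok a (List.mem_range.2 ha)
    simp only [Bool.and_eq_true] at h
    rw [← Fmul a (by omega) a (by omega), Nat.eq_of_beq_eq_true h.1, F0]
  have Fcomm : ∀ a < 512, ∀ b < 512, comm a b = true ↔ F a * F b = F b * F a := by
    intro a ha b hb
    rw [← Fmul a ha b hb, ← Fmul b hb a ha]
    show Nat.beq (mu a b) (mu b a) = true ↔ _
    exact ⟨fun e => congrArg F (Nat.eq_of_beq_eq_true e), fun e => by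
      rw [Finj _ (mu_lt ha hb) _ (mu_lt hb ha) e]; exact Nat.beq_refl _⟩
  have Finv : ∀ g < 512, F (inv7 g) = (F g)⁻¹ := by
    intro g hg
    have h := Nat.eq_of_beq_eq_true (List.all_eq_true.1 inv7_ok g (List.mem_range.2 hg))
    refine eq_inv_of_mul_eq_one_right ?_
    rw [← Fmul g hg _ (inv7_lt hg), h, F0]
  refine ⟨hA, fun a ha g hg => closed_of_checked S hA hA2 hcomm ?_ ?_ ha g hg⟩
  · intro k hk b hb
    have hle : A.map (MulAut.conj k).toMonoidHom ≤ (S : Subgroup G) := by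
      rintro _ ⟨b, hb, rfl⟩
      exact hk b hb
    have h := huni _ hle (by
      rintro _ ⟨p, hp, rfl⟩ _ ⟨q, hq, rfl⟩
      rw [← map_mul, ← map_mul, hcomm p hp q hq])
      ((card_map_of_injective (MulEquiv.injective _)).trans hA64)
    rw [← hAe] at h
    rw [← h]
    exact mem_map_of_mem (MulAut.conj k).toMonoidHom hb
  intro x hxS hxA hx2
  obtain ⟨a, ha, rfl⟩ := Fsurj x hxS
  have ha64 : 64 ≤ a := not_lt.1 fun h => hxA ((memA _).2 ⟨a, h, rfl⟩)
  have hmu : mu a a = 0 := Finj _ (mu_lt ha ha) 0 (by norm_num) (by rw [Fmul a ha a ha, hx2, F0])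
  have hc := List.all_eq_true.1 check_all a (List.mem_range.2 ha)
  rw [show Nat.blt a 64 = false from Bool.eq_false_iff.2 fun e =>
      absurd (Nat.le_of_ble_eq_true e) (by omega), hmu] at hc
  simp only [Nat.beq_refl, Bool.not_true, Bool.or_false, Bool.false_or, checkAt, Bool.and_eq_true,
    Bool.or_eq_true, List.all_eq_true, List.any_eq_true, List.mem_range, Bool.not_eq_true'] at hc
  obtain ⟨hnorm, hcases⟩ := hc
  have memT : ∀ y, y ∈ cS (S : Subgroup G) (F a) ↔ ∃ t ∈ centL a, F t = y := by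
    intro y
    constructor
    · intro hy
      obtain ⟨hyS, hyc⟩ := mem_cS.1 hy
      obtain ⟨t, ht, rfl⟩ := Fsurj y hyS
      exact ⟨t, List.mem_filter.2 ⟨List.mem_range.2 ht, (Fcomm t ht a ha).2 hyc⟩, rfl⟩
    · rintro ⟨t, ht, rfl⟩
      obtain ⟨h1, h2⟩ := List.mem_filter.1 ht
      exact mem_cS.2 ⟨Fmem t, (Fcomm t (List.mem_range.1 h1) a ha).1 h2⟩
  have hlt : ∀ t ∈ centL a, t < 512 := fun t ht => List.mem_range.1 (List.mem_filter.1 ht).1
  have hzen : ∀ z < 64, (∀ y ∈ cS (S : Subgroup G) (F a), y * F z = F z * y) →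
      z ∈ zenL (centL a) := fun z hz hcz => List.mem_filter.2 ⟨List.mem_range.2 hz,
    List.all_eq_true.2 fun t ht =>
      (Fcomm t (hlt t ht) z (by omega)).2 (hcz _ ((memT _).2 ⟨t, ht, rfl⟩))⟩
  refine ⟨?_, ?_⟩
  · intro y hy
    obtain ⟨b, hb, rfl⟩ := (memA y).1 hy
    have hgen : ∀ i < 6, F (2 ^ i) ∈ normalizer (cS (S : Subgroup G) (F a) : Set G) := by
      intro i hi
      have hp : 2 ^ i < 64 := lt_of_lt_of_le (Nat.pow_lt_pow_right (by norm_num) hi) le_rfl
      refine mem_norm_of_conj fun z hz => ?_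
      obtain ⟨t, ht, rfl⟩ := (memT z).1 hz
      rw [show (F (2 ^ i))⁻¹ = F (2 ^ i) from
        inv_eq_of_mul_eq_one_right (hA2 _ ((memA _).2 ⟨_, hp, rfl⟩))]
      refine (memT _).2 ⟨mu (mu (2 ^ i) t) (2 ^ i), List.mem_filter.2
        ⟨List.mem_range.2 (mu_lt (mu_lt (by omega) (hlt t ht)) (by omega)), hnorm i hi t ht⟩, ?_⟩
      rw [Fmul _ (mu_lt (by omega) (hlt t ht)) _ (by omega), Fmul _ (by omega) _ (hlt t ht)]
    have hall : ∀ n ≤ 6, ∀ b < 2 ^ n, F b ∈ normalizer (cS (S : Subgroup G) (F a) : Set G) := by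
      intro n
      induction n with
      | zero =>
        intro _ b hb
        obtain rfl : b = 0 := by simpa using hb
        rw [F0]
        exact one_mem _
      | succ n ih =>
        intro hn b hb
        rcases Nat.lt_or_ge b (2 ^ n) with h | h
        · exact ih (by omega) b h
        · have hb' : b - 2 ^ n < 2 ^ n := by rw [pow_succ] at hb; omega
          have h6 : 2 ^ n < 64 := lt_of_lt_of_le (Nat.pow_lt_pow_right (by norm_num) hn) le_rfl
          have hs := List.all_eq_true.1 (List.all_eq_true.1 basis_ok n (List.mem_range.2 (by omega)))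
            b (List.mem_range.2 (lt_of_lt_of_le hb (by
              rw [show (64 : ℕ) = 2 ^ 6 by norm_num]; exact Nat.pow_le_pow_right (by norm_num) hn)))
          rw [show Nat.ble (2 ^ n) b = true from Nat.ble_eq_true_of_le h,
            show Nat.blt b (2 ^ (n + 1)) = true from Nat.ble_eq_true_of_le hb] at hs
          simp only [Bool.and_self, Bool.not_true, Bool.false_or] at hs
          rw [← Nat.eq_of_beq_eq_true hs, Fmul _ (by omega) _ (by omega)]
          exact mul_mem (ih (by omega) _ hb') (hgen n (by omega))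
    exact fun z hz => conj_mem_norm (hall 6 le_rfl b (by simpa using hb)) hz
  rcases hcases with hcount | ⟨q, hq, ⟨⟨hc0, hsq⟩, ⟨t₀, ht₀, ht₀c⟩⟩, hfix⟩
  · refine Or.inl fun z hz hcz => ?_
    obtain ⟨z, hz', rfl⟩ := (memA z).1 hz
    have hn : ∀ u < 512, {y | y ∈ cS (S : Subgroup G) (F a) ∧ y * y = F u}.ncard =
        rootsN (centL a) u := by
      intro u hu
      classical
      have hnd : ((centL a).filter fun t => Nat.beq (mu t t) u).Nodup :=
        (List.nodup_range.filter _).filter _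
      rw [show {y | y ∈ cS (S : Subgroup G) (F a) ∧ y * y = F u} =
        F '' ↑((centL a).filter fun t => Nat.beq (mu t t) u).toFinset by
          ext y
          simp only [List.coe_toFinset, Set.mem_image]
          constructor
          · rintro ⟨hy, hy2⟩
            obtain ⟨t, ht, rfl⟩ := (memT y).1 hy
            refine ⟨t, List.mem_filter.2 ⟨ht, ?_⟩, rfl⟩
            rw [Finj _ (mu_lt (hlt t ht) (hlt t ht)) u hu
              (by rw [Fmul t (hlt t ht) t (hlt t ht), hy2])]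
            exact Nat.beq_refl u
          · rintro ⟨t, ht, rfl⟩
            obtain ⟨h1, h2⟩ := List.mem_filter.1 ht
            exact ⟨(memT _).2 ⟨t, h1, rfl⟩, by
              rw [← Fmul t (hlt t h1) t (hlt t h1), Nat.eq_of_beq_eq_true h2]⟩]
      rw [Set.InjOn.ncard_image, Set.ncard_coe_finset, List.toFinset_card_of_nodup hnd]
      · rfl
      · intro p hp r hr e
        simp only [List.coe_toFinset] at hp hr
        exact Finj p (hlt p (List.mem_filter.1 hp).1) r (hlt r (List.mem_filter.1 hr).1) e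
    rw [hn a ha, hn z (by omega)]
    intro e
    have := hcount z (hzen z hz' hcz)
    rw [e, Nat.beq_refl] at this
    cases this
  set c := mu (mu (mu q a) q) a with hcdef
  have hq' : q < 512 := by omega
  have hclt : c < 512 := mu_lt (mu_lt (mu_lt hq' ha) hq') ha
  refine Or.inr ⟨F q, (memA _).2 ⟨q, hq, rfl⟩, F c, ?_, ?_, ?_, ?_, ?_⟩
  · intro e
    rw [Finj c hclt 0 (by norm_num) (e.trans F0.symm), Nat.beq_refl] at hc0
    cases hc0
  · rw [hcdef, Fmul _ (mu_lt (mu_lt hq' ha) hq') a ha, Fmul _ (mu_lt hq' ha) q hq', Fmul q hq' a ha,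
      mul_assoc (F q * F a * F q), hx2, mul_one,
      inv_eq_of_mul_eq_one_right (hA2 _ ((memA _).2 ⟨q, hq, rfl⟩))]
  · intro y hy
    obtain ⟨t, ht, rfl⟩ := (memT y).1 hy
    rw [← Fmul t (hlt t ht) t (hlt t ht)]
    rcases hsq t ht with h | h
    · exact Or.inl (by rw [Nat.eq_of_beq_eq_true h, F0])
    · exact Or.inr (by rw [Nat.eq_of_beq_eq_true h])
  · exact ⟨F t₀, (memT _).2 ⟨t₀, ht₀, rfl⟩, by
      rw [← Fmul t₀ (hlt _ ht₀) t₀ (hlt _ ht₀), Nat.eq_of_beq_eq_true ht₀c]⟩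
  · intro y hy hyc z hz hcz
    obtain ⟨u, hu, rfl⟩ := Fsurj y hy
    obtain ⟨z, hz', rfl⟩ := (memA z).1 hz
    rcases hfix u hu with h | ⟨t, ht, h⟩
    · exact (Fcomm u hu z (by omega)).1 (h z (hzen z hz' hcz))
    · exfalso
      have hy' : mu (mu u a) (inv7 u) < 512 := mu_lt (mu_lt hu ha) (inv7_lt hu)
      have e : F (mu (mu u a) (inv7 u)) = F u * F a * (F u)⁻¹ := by
        rw [Fmul _ (mu_lt hu ha) _ (inv7_lt hu), Fmul u hu a ha, Finv u hu]
      have hct := hyc _ ((memT _).2 ⟨t, ht, rfl⟩)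
      rw [← e] at hct
      rw [(Fcomm t (hlt t ht) _ hy').2 hct] at h
      cases h

end CfsgLib.SylM24Q
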