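import Cfsg.Agent.Lib.SylM24Q.Core
import Cfsg.Agent.Lib.StructC.M24SylQ

/-!
The local facts about the abelian subgroup of order 64 in a group whose Sylow 2-subgroup is that of
`M24` modulo its centre.
-/

set_option autoImplicit false
set_option linter.style.haveILetI false
set_option maxRecDepth 100000

namespace CfsgLib.SylM24Q

open Subgroup CfsgLib.StructC.M24SylQ

theorem coset_ok : ((List.range 512).all fun b =>
    !((List.range 64).all fun a => Nat.beq (tFn (hpart b) a) a) || Nat.beq (hpart b) 0) = true := by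
  decide +kernel

theorem rank_ok : ((List.range 512).all fun b => !(Nat.beq (hpart (mu b b)) 0) ||
    Nat.ble 16 ((List.range 64).filter fun a => comm a b).length) = true := by decide +kernel

theorem split_ok' : ((List.range 512).all fun b => !(Nat.beq (hpart (mu b b)) 0) ||
    (List.range 64).any fun a => Nat.beq (mu (mu b a) (mu b a)) 0) = true := by decide +kernel

theorem lt_iff_hpart {a : ℕ} : a < 64 ↔ hpart a = 0 := by
  show a < 64 ↔ a >>> 6 = 0
  rw [Nat.shiftRight_eq_div_pow]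
  omega

universe u

variable {G : Type u} [Group G] {S : Sylow 2 G} (m : Model ↥(S : Subgroup G)) {A : Subgroup G}
  (hA : A ≤ (S : Subgroup G)) (hAc : IsMulCommutative ↥A) (hA64 : Nat.card ↥A = 64)

include m hA hAc hA64

theorem eq_A {B : Subgroup G} (hB : B ≤ (S : Subgroup G)) (hBc : ∀ x ∈ B, ∀ y ∈ B, x * y = y * x)
    (hB64 : Nat.card ↥B = 64) : B = A := by
  have key : ∀ {C : Subgroup G}, C ≤ (S : Subgroup G) → (∀ x ∈ C, ∀ y ∈ C, x * y = y * x) →
      Nat.card ↥C = 64 → C.subgroupOf (S : Subgroup G) = m.abel := fun {C} hC hc h64 =>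
    m.abel_unique _ ⟨⟨fun x y => Subtype.ext (Subtype.ext (hc _ x.2 _ y.2))⟩⟩
      (by rw [Nat.card_congr (subgroupOfEquivOfLe hC).toEquiv, h64])
  have h1 := key hB hBc hB64
  have h2 := key hA (fun x hx y hy => congrArg Subtype.val (hAc.is_comm.comm ⟨x, hx⟩ ⟨y, hy⟩)) hA64
  ext x
  constructor
  · intro hx
    exact (SetLike.ext_iff.1 (h1.trans h2.symm) ⟨x, hB hx⟩).1 hx
  · intro hx
    exact (SetLike.ext_iff.1 (h1.trans h2.symm) ⟨x, hA hx⟩).2 hx

theorem mem_A_iff {a : ℕ} (ha : a < 512) : (m.f a : G) ∈ A ↔ a < 64 := by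
  have hc : ∀ x ∈ A, ∀ y ∈ A, x * y = y * x :=
    fun x hx y hy => congrArg Subtype.val (hAc.is_comm.comm ⟨x, hx⟩ ⟨y, hy⟩)
  have h2 : A.subgroupOf (S : Subgroup G) = m.abel := m.abel_unique _
    ⟨⟨fun x y => Subtype.ext (Subtype.ext (hc _ x.2 _ y.2))⟩⟩
    (by rw [Nat.card_congr (subgroupOfEquivOfLe hA).toEquiv, hA64])
  rw [← mem_subgroupOf, h2]
  constructor
  · rintro ⟨b, hb, e⟩
    rwa [← m.inj b (by omega) a ha e]
  · exact fun h => ⟨a, h, rfl⟩

theorem sq_eq_one {x : G} (hx : x ∈ A) : x * x = 1 := by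
  obtain ⟨a, ha, e⟩ := m.surj ⟨x, hA hx⟩
  have hxa : (m.f a : G) = x := congrArg Subtype.val e
  have ha64 := (mem_A_iff m hA hAc hA64 ha).1 (by rwa [hxa])
  have := List.all_eq_true.1 small_ok a (List.mem_range.2 ha64)
  simp only [Bool.and_eq_true] at this
  rw [← hxa, ← Subgroup.coe_mul, ← m.map_mu a ha a ha, Nat.eq_of_beq_eq_true this.1, m.f_zero]
  rfl

/-- A 2-subgroup containing `A` is moved into `S` by the normalizer of `A`. -/
theorem exists_conj_le_fix [Finite G] {Q : Subgroup G} (hQ : IsPGroup 2 ↥Q) (hAQ : A ≤ Q) :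
    ∃ h ∈ normalizer (A : Set G), ∀ q ∈ Q, h * q * h⁻¹ ∈ (S : Subgroup G) := by
  haveI : Fact (Nat.Prime 2) := ⟨Nat.prime_two⟩
  obtain ⟨h, hh⟩ := Invol.exists_conj_mem_sylow S hQ
  have e := eq_A m hA hAc hA64 (B := A.map (MulAut.conj h).toMonoidHom)
    (by rintro _ ⟨a, ha, rfl⟩; exact hh a (hAQ ha))
    (by
      rintro _ ⟨a, ha, rfl⟩ _ ⟨b, hb, rfl⟩
      rw [← map_mul, ← map_mul]
      exact congrArg _ (congrArg Subtype.val (hAc.is_comm.comm ⟨a, ha⟩ ⟨b, hb⟩)))
    (by rw [Subgroup.card_map_of_injective (MulAut.conj h).injective, hA64])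
  exact ⟨h, Invol.mem_normalizer_iff_of_finite fun a ha => e ▸ ⟨a, ha, rfl⟩, hh⟩

/-- The hypotheses of the abstract theorem. -/
theorem hyp_of [Finite G] (hsc : Cfsg.IsStronglyClosed A (S : Subgroup G))
    (hcit : ∀ t ∈ normalizer (A : Set G), t ∉ centralizer (A : Set G) →
      t * t ∈ centralizer (A : Set G) → ∀ n ∈ normalizer (A : Set G), Odd (orderOf n) →
      n * t * n⁻¹ * t⁻¹ ∈ centralizer (A : Set G) → n ∈ centralizer (A : Set G))
    (hfix : ∀ n ∈ normalizer (A : Set G), Odd (orderOf n) → n ∉ centralizer (A : Set G) →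
      Nat.card ↥(A ⊓ centralizer ({n} : Set G)) ≤ 4 ∧ ∃ t ∈ normalizer (A : Set G),
        t ∉ centralizer (A : Set G) ∧ t * t ∈ centralizer (A : Set G) ∧
          ∀ a ∈ A, n * a = a * n → t * a = a * t) : Hyp A := by
  haveI : Fact (Nat.Prime 2) := ⟨Nat.prime_two⟩
  have hsq : ∀ a ∈ A, a * a = 1 := fun a ha => sq_eq_one m hA hAc hA64 ha
  have hA2 : IsPGroup 2 ↥A := S.2.to_le hA
  have hext : ∀ x ∈ normalizer (A : Set G), IsPGroup 2 (zpowers x) →
      IsPGroup 2 ↥(zpowers x ⊔ A) := fun x hx h2 =>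
    IsPGroup.to_sup_of_normal_right' h2 hA2 (zpowers_le.2 hx)
  -- an element with square in `A`, seen in the model
  have hmove : ∀ s ∈ normalizer (A : Set G), s * s ∈ A → ∃ h ∈ normalizer (A : Set G),
      ∃ b < 512, (m.f b : G) = h * s * h⁻¹ ∧ hpart (mu b b) = 0 := by
    intro s hs hs2
    have h2 : IsPGroup 2 (zpowers s) := IsPGroup.of_card_dvd_pow (n := 2) (by
      rw [Nat.card_zpowers]
      exact orderOf_dvd_of_pow_eq_one (by
        rw [show 2 ^ 2 = 2 + 2 from rfl, pow_add, pow_two]; exact hsq _ hs2))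
    obtain ⟨h, hh, hQ⟩ := exists_conj_le_fix m hA hAc hA64 (hext s hs h2) le_sup_right
    obtain ⟨b, hb, e⟩ := m.surj ⟨_, hQ s (mem_sup_left (mem_zpowers s))⟩
    have hb' : (m.f b : G) = h * s * h⁻¹ := congrArg Subtype.val e
    refine ⟨h, hh, b, hb, hb', lt_iff_hpart.1 ((mem_A_iff m hA hAc hA64 (mu_lt hb hb)).1 ?_)⟩
    rw [m.map_mu b hb b hb, Subgroup.coe_mul, hb',
      show h * s * h⁻¹ * (h * s * h⁻¹) = h * (s * s) * h⁻¹ by group]
    exact (mem_normalizer_iff.1 hh _).1 hs2
  constructor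
  · exact hsq
  · exact hA64
  · -- self-centralizing
    intro x hx h2
    have hxN : x ∈ normalizer (A : Set G) := centralizer_le_normalizer _ hx
    obtain ⟨h, hh, hQ⟩ := exists_conj_le_fix m hA hAc hA64 (hext x hxN h2) le_sup_right
    obtain ⟨b, hb, e⟩ := m.surj ⟨_, hQ x (mem_sup_left (mem_zpowers x))⟩
    have hb' : (m.f b : G) = h * x * h⁻¹ := congrArg Subtype.val e
    refine (mem_normalizer_iff.1 hh x).2 ?_
    rw [← hb', mem_A_iff m hA hAc hA64 hb, lt_iff_hpart]
    have hfix' : ((List.range 64).all fun a => Nat.beq (tFn (hpart b) a) a) = true := by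
      refine List.all_eq_true.2 fun a ha => ?_
      have ha64 : a < 64 := List.mem_range.1 ha
      have haA : (m.f a : G) ∈ A := (mem_A_iff m hA hAc hA64 (by omega)).2 ha64
      have hc : mu a b = mu b a := by
        refine m.inj _ (mu_lt (by omega) hb) _ (mu_lt hb (by omega)) (Subtype.ext ?_)
        rw [m.map_mu a (by omega) b hb, m.map_mu b hb a (by omega), Subgroup.coe_mul,
          Subgroup.coe_mul, hb']
        have e1 := mem_centralizer_iff.1 hx (h⁻¹ * (m.f a : G) * h) ((mem_normalizer_iff.1 hh _).2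
          (by rwa [show h * (h⁻¹ * (m.f a : G) * h) * h⁻¹ = (m.f a : G) by group]))
        calc (m.f a : G) * (h * x * h⁻¹) = h * ((h⁻¹ * (m.f a : G) * h) * x) * h⁻¹ := by group
          _ = h * (x * (h⁻¹ * (m.f a : G) * h)) * h⁻¹ := by rw [e1]
          _ = _ := by group
      have h0 := List.all_eq_true.1 (List.all_eq_true.1 comm_coset b (List.mem_range.2 hb)) a
        (List.mem_range.2 ha64)
      have hb2 : CfsgLib.StructC.M24SylQ.comm a b = true := by
        show Nat.beq _ _ = true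
        rw [hc]
        exact Nat.beq_refl _
      rw [hb2] at h0
      simpa using h0
    have h1 := List.all_eq_true.1 coset_ok b (List.mem_range.2 hb)
    rw [hfix'] at h1
    simpa using h1
  · -- weak closure
    intro Q hQ hAQ g hg
    obtain ⟨h, hh, hhQ⟩ := exists_conj_le_fix m hA hAc hA64 hQ hAQ
    have e := eq_A m hA hAc hA64 (B := A.map (MulAut.conj (h * g)).toMonoidHom)
      (by
        rintro _ ⟨a, ha, rfl⟩
        have h3 := hhQ _ (hg a ha)
        rwa [show h * (g * a * g⁻¹) * h⁻¹ = h * g * a * (h * g)⁻¹ by group] at h3)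
      (by
        rintro _ ⟨a, ha, rfl⟩ _ ⟨b, hb, rfl⟩
        rw [← map_mul, ← map_mul]
        exact congrArg _ (congrArg Subtype.val (hAc.is_comm.comm ⟨a, ha⟩ ⟨b, hb⟩)))
      (by rw [Subgroup.card_map_of_injective (MulAut.conj (h * g)).injective, hA64])
    have h4 : h * g ∈ normalizer (A : Set G) :=
      Invol.mem_normalizer_iff_of_finite fun a ha => e ▸ ⟨a, ha, rfl⟩
    simpa using mul_mem (inv_mem hh) h4
  · -- strong closure
    intro a ha g hg
    have h2 : IsPGroup 2 (zpowers (g * a * g⁻¹)) := IsPGroup.of_card_dvd_pow (n := 1) (by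
      rw [Nat.card_zpowers]
      exact orderOf_dvd_of_pow_eq_one (by
        rw [pow_one, pow_two, show g * a * g⁻¹ * (g * a * g⁻¹) = g * (a * a) * g⁻¹ by group,
          hsq a ha]; group))
    obtain ⟨h, hh, hQ⟩ := exists_conj_le_fix m hA hAc hA64 (hext _ hg h2) le_sup_right
    have h3 := hQ _ (mem_sup_left (mem_zpowers _))
    rw [show h * (g * a * g⁻¹) * h⁻¹ = h * g * a * (h * g)⁻¹ by group] at h3
    have h4 := hsc.2 a ha _ h3
    rw [show h * g * a * (h * g)⁻¹ = h * (g * a * g⁻¹) * h⁻¹ by group] at h4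
    exact (mem_normalizer_iff.1 hh _).2 h4
  · exact hcit
  · -- rank
    intro s hs hs2
    obtain ⟨h, hh, b, hb, hb', hp⟩ := hmove s hs hs2
    have h1 := List.all_eq_true.1 rank_ok b (List.mem_range.2 hb)
    rw [hp] at h1
    have h16 : 16 ≤ ((List.range 64).filter fun a => comm a b).length :=
      Nat.le_of_ble_eq_true (by simpa using h1)
    set L := (List.range 64).filter fun a => comm a b with hL
    have hmem : ∀ a ∈ L.toFinset, h⁻¹ * (m.f a : G) * h ∈ A ⊓ centralizer ({s} : Set G) := by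
      intro a ha
      obtain ⟨ha', hc⟩ : a < 64 ∧ comm a b = true := by simpa [hL] using ha
      refine mem_inf.2 ⟨(mem_normalizer_iff.1 hh _).2 ?_, mem_centralizer_singleton_iff.2 ?_⟩
      · rw [show h * (h⁻¹ * (m.f a : G) * h) * h⁻¹ = (m.f a : G) by group]
        exact (mem_A_iff m hA hAc hA64 (by omega)).2 ha'
      · have e : (m.f a : G) * (m.f b : G) = (m.f b : G) * (m.f a : G) := by
          rw [← Subgroup.coe_mul, ← Subgroup.coe_mul, ← m.map_mu a (by omega) b hb,
            ← m.map_mu b hb a (by omega), Nat.eq_of_beq_eq_true hc]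
        rw [hb'] at e
        calc h⁻¹ * (m.f a : G) * h * s = h⁻¹ * ((m.f a : G) * (h * s * h⁻¹)) * h := by group
          _ = h⁻¹ * (h * s * h⁻¹ * (m.f a : G)) * h := by rw [e]
          _ = _ := by group
    have hinj : Function.Injective (fun a : L.toFinset =>
        (⟨h⁻¹ * (m.f a : G) * h, hmem a a.2⟩ : ↥(A ⊓ centralizer ({s} : Set G)))) := by
      intro a a' e
      have e' : (m.f a : G) = (m.f a' : G) := by simpa using congrArg Subtype.val e
      have l1 : (a : ℕ) < 64 := (by simpa [hL] using a.2 : (a : ℕ) < 64 ∧ _).1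
      have l2 : (a' : ℕ) < 64 := (by simpa [hL] using a'.2 : (a' : ℕ) < 64 ∧ _).1
      exact Subtype.ext (m.inj a (by omega) a' (by omega) (Subtype.ext e'))
    have h3 := Nat.card_le_card_of_injective _ hinj
    rw [Nat.card_eq_fintype_card, Fintype.card_coe,
      List.toFinset_card_of_nodup (List.nodup_range.filter _)] at h3
    rw [hL] at h16
    omega
  · -- splitting
    intro s hs hs2
    obtain ⟨h, hh, b, hb, hb', hp⟩ := hmove s hs hs2
    have h1 := List.all_eq_true.1 split_ok' b (List.mem_range.2 hb)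
    rw [hp] at h1
    have h1' : ((List.range 64).any fun a => Nat.beq (mu (mu b a) (mu b a)) 0) = true := by
      simpa using h1
    obtain ⟨a, ha, he⟩ := List.any_eq_true.1 h1'
    have ha' : a < 64 := List.mem_range.1 ha
    refine ⟨h⁻¹ * (m.f a : G) * h, (mem_normalizer_iff.1 hh _).2 ?_, ?_⟩
    · rw [show h * (h⁻¹ * (m.f a : G) * h) * h⁻¹ = (m.f a : G) by group]
      exact (mem_A_iff m hA hAc hA64 (by omega)).2 ha'
    · have e : (m.f b : G) * (m.f a : G) * ((m.f b : G) * (m.f a : G)) = 1 := by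
        rw [← Subgroup.coe_mul, ← Subgroup.coe_mul, ← m.map_mu b hb a (by omega),
          ← m.map_mu _ (mu_lt hb (by omega)) _ (mu_lt hb (by omega)), Nat.eq_of_beq_eq_true he,
          m.f_zero]
        rfl
      rw [hb'] at e
      calc s * (h⁻¹ * (m.f a : G) * h) * (s * (h⁻¹ * (m.f a : G) * h))
          = h⁻¹ * (h * s * h⁻¹ * (m.f a : G) * (h * s * h⁻¹ * (m.f a : G))) * h := by group
        _ = 1 := by rw [e]; group
  · exact hfix

end CfsgLib.SylM24Q
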