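import Cfsg.Agent.Lib.SylM24Q.Quotient
import Cfsg.Agent.Lib.SylM24Q.Fusion
import Cfsg.Agent.Lib.SylM24Q.Auto

/-!
The normality of the abelian subgroup of order 64 in groups with Sylow 2-subgroup of type M24/Z.
-/

set_option autoImplicit false

namespace CfsgLib.SylM24Q

/-- The abelian subgroup of order 64 is normal. -/
theorem normal_of_model {G : Type*} [Group G] [Finite G] (hO : Cfsg.oddCore G = ⊥) (S : Sylow 2 G)
    (m : CfsgLib.StructC.M24SylQ.Model ↥(S : Subgroup G)) (A : Subgroup G) (hA : A ≤ (S : Subgroup G))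
    (hAc : IsMulCommutative ↥A) (hA64 : Nat.card ↥A = 64) : A.Normal :=
  (hyp_of m hA hAc hA64 (strongly_closed S m A hA hAc hA64)
    (fun _ ht htA ht2 _ hn hodd hnt => cit S m A hA hAc hA64 ht htA ht2 hn hodd hnt)
    (fun _ hn hodd hnA => exists_fix S m A hA hAc hA64 hn hodd hnA)).normal hO

end CfsgLib.SylM24Q
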