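import Cfsg.Agent.Lib.SylM24Q.Local
import Cfsg.Agent.Lib.Fusion.ZStarCenter
import Cfsg.Prelude.Def_Transfer

/-!
Models of the Sylow 2-subgroup through isomorphisms, and the passage to the quotient by the centre
for the statement on the extraspecial subgroup.
-/

set_option autoImplicit false
set_option linter.style.haveILetI false

namespace CfsgLib.SylM24Q

open Subgroup CfsgLib.StructC.M24SylQ

universe u v

/-- A model transported along an isomorphism. -/
def modelOfEquiv {S : Type u} [Group S] {T : Type v} [Group T] (e : T ≃* S) (m : Model S) :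
    Model T where
  f a := e.symm (m.f a)
  map_mu a ha b hb := by rw [m.map_mu a ha b hb, map_mul]
  surj t := by
    obtain ⟨a, ha, h⟩ := m.surj (e t)
    exact ⟨a, ha, by rw [h, MulEquiv.symm_apply_apply]⟩
  inj a ha b hb h := m.inj a ha b hb (e.symm.injective h)

/-- The centre of a Sylow 2-subgroup of `M24` has order 2. -/
theorem card_center_sylow (P : Sylow 2 ↥Cfsg.M24) :
    Nat.card (Subgroup.center ↥(P : Subgroup ↥Cfsg.M24)) = 2 := by
  obtain ⟨m⟩ := exists_model P
  have h1 := Subgroup.card_eq_card_quotient_mul_card_subgroup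
    (Subgroup.center ↥(P : Subgroup ↥Cfsg.M24))
  have hcard : Nat.card ↥(P : Subgroup ↥Cfsg.M24) = 2 ^ 10 := by
    haveI : Fact (Nat.Prime 2) := ⟨Nat.prime_two⟩
    rw [P.card_eq_multiplicity, CfsgLib.Golay.card_M24,
      show (244823040 : ℕ) = 2 ^ 10 * 239085 by norm_num,
      Nat.factorization_mul (by norm_num) (by norm_num), Finsupp.add_apply,
      Nat.Prime.factorization_pow Nat.prime_two, Finsupp.single_eq_same,
      Nat.factorization_eq_zero_of_not_dvd (by norm_num : ¬ 2 ∣ 239085)]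
  rw [hcard, m.card] at h1
  omega

/-- The extraspecial subgroup is normal when the statement on the quotient holds. -/
theorem extraspecial_normal {H : Type u} [Group H] [Finite H] (hO : Cfsg.oddCore H = ⊥)
    (T : Sylow 2 H) (P : Sylow 2 ↥Cfsg.M24)
    (hT : Nonempty (↥(T : Subgroup H) ≃* ↥(P : Subgroup ↥Cfsg.M24)))
    (hZ : ∀ z ∈ (T : Subgroup H), (∀ t ∈ (T : Subgroup H), z * t = t * z) → z ∈ center H)
    (E : Subgroup H) (hE : E ≤ (T : Subgroup H)) (hEn : (E.subgroupOf (T : Subgroup H)).Normal)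
    (hEx : Cfsg.IsExtraspecial 2 ↥E) (hE7 : Nat.card ↥E = 2 ^ 7)
    (hmain : ∀ {G : Type u} [Group G] [Finite G], Cfsg.oddCore G = ⊥ → ∀ S : Sylow 2 G,
      Model ↥(S : Subgroup G) → ∀ A : Subgroup G, A ≤ (S : Subgroup G) → IsMulCommutative ↥A →
        Nat.card ↥A = 64 → A.Normal) : E.Normal := by
  haveI : Fact (Nat.Prime 2) := ⟨Nat.prime_two⟩
  obtain ⟨e⟩ := hT
  obtain ⟨m⟩ := exists_model P
  set Z : Subgroup H := (center ↥(T : Subgroup H)).map (T : Subgroup H).subtype with hZdef
  have hZc : Z ≤ center H := by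
    rintro _ ⟨z, hz, rfl⟩
    exact hZ z z.2 fun t ht => (congrArg Subtype.val (mem_center_iff.1 hz ⟨t, ht⟩)).symm
  have hZT : Z ≤ (T : Subgroup H) := map_subtype_le _
  have hcardCT : Nat.card (center ↥(T : Subgroup H)) = 2 := by
    rw [Nat.card_congr (Subgroup.centerCongr e).toEquiv, card_center_sylow]
  have hcardZ : Nat.card Z = 2 := by
    rw [hZdef, Subgroup.card_map_of_injective (T : Subgroup H).subtype_injective, hcardCT]
  haveI hZn : Z.Normal := ⟨fun z hz g => by
    rw [mem_center_iff.1 (hZc hz) g, mul_inv_cancel_right]; exact hz⟩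
  let π := QuotientGroup.mk' Z
  have hπ : Function.Surjective π := QuotientGroup.mk'_surjective Z
  -- the odd core of the quotient
  have hO' : Cfsg.oddCore (H ⧸ Z) = ⊥ := by
    haveI : (Cfsg.oddCore (H ⧸ Z)).Normal := CfsgLib.Solvable.pPrimeCore_normal 2 _
    set R := Cfsg.oddCore (H ⧸ Z) with hR
    have hM : R.comap π ≤ Z := by
      refine CfsgLib.Fusion.le_of_central_of_odd hO inferInstance (fun x hx => ?_) hZc ?_
      · show π x ∈ R
        rw [show π x = 1 from (QuotientGroup.eq_one_iff x).2 hx]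
        exact one_mem R
      · have : Z.relIndex (R.comap π) = Nat.card R := by
          have hb : (⊥ : Subgroup (H ⧸ Z)).comap π = Z := QuotientGroup.ker_mk' Z
          refine (congrArg (fun K : Subgroup H => K.relIndex (R.comap π)) hb.symm).trans ?_
          show ((⊥ : Subgroup (H ⧸ Z)).comap π).relIndex (R.comap π) = _
          rw [relIndex_comap, map_comap_eq_self_of_surjective hπ, relIndex_bot_left]
        rw [this]; exact CfsgLib.Invol.odd_card_oddCore _
    refine eq_bot_iff.2 fun x hx => ?_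
    obtain ⟨x, rfl⟩ := hπ x
    exact (QuotientGroup.eq_one_iff x).2 (hM hx)
  -- the Sylow subgroup of the quotient
  let T' : Sylow 2 (H ⧸ Z) := T.mapSurjective hπ
  let f : ↥(T : Subgroup H) →* ↥(T' : Subgroup (H ⧸ Z)) := π.subgroupMap (T : Subgroup H)
  have hf : Function.Surjective f := π.subgroupMap_surjective (T : Subgroup H)
  have hker : f.ker = center ↥(T : Subgroup H) := by
    ext x
    rw [MonoidHom.mem_ker, Subtype.ext_iff]
    show π (x : H) = 1 ↔ _
    rw [show π (x : H) = 1 ↔ (x : H) ∈ Z from QuotientGroup.eq_one_iff _]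
    constructor
    · rintro ⟨y, hy, hyx⟩
      rwa [← show y = x from Subtype.ext hyx]
    · exact fun hx => ⟨x, hx, rfl⟩
  let e' : ↥(T' : Subgroup (H ⧸ Z)) ≃*
      ↥(P : Subgroup ↥Cfsg.M24) ⧸ center ↥(P : Subgroup ↥Cfsg.M24) :=
    ((QuotientGroup.quotientKerEquivOfSurjective f hf).symm.trans
      (QuotientGroup.quotientMulEquivOfEq hker)).trans
        (QuotientGroup.congr _ _ e (by
          ext y
          constructor
          · rintro ⟨x, hx, rfl⟩
            exact mem_center_iff.2 fun w => by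
              obtain ⟨w, rfl⟩ := e.surjective w
              show e w * e x = e x * e w
              rw [← map_mul, ← map_mul, mem_center_iff.1 hx w]
          · intro hy
            obtain ⟨x, rfl⟩ := e.surjective y
            refine ⟨x, mem_center_iff.2 fun w => e.injective ?_, rfl⟩
            rw [map_mul, map_mul, mem_center_iff.1 hy (e w)]))
  -- `Z` lies in `E`
  have hEp : IsPGroup 2 ↥E := T.2.to_le hE
  have hcE : Nat.card (center ↥E) = 2 := hEx.2
  have hZE : (center ↥E).map E.subtype = Z := by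
    set W : Subgroup H := (center ↥E).map E.subtype
    have hWcard : Nat.card W = 2 := by
      rw [Subgroup.card_map_of_injective E.subtype_injective, hcE]
    refine eq_of_le_of_card_ge ?_ (by rw [hWcard, hcardZ])
    rintro _ ⟨w, hw, rfl⟩
    refine ⟨⟨w, hE w.2⟩, mem_center_iff.2 fun t => Subtype.ext ?_, rfl⟩
    by_cases hw1 : (w : H) = 1
    · simp [hw1]
    have htw : (t : H) * w * (t : H)⁻¹ ∈ W := by
      have h1 : (t : H) * w * (t : H)⁻¹ ∈ E :=
        mem_subgroupOf.1 (hEn.conj_mem ⟨w, hE w.2⟩ w.2 t)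
      refine ⟨⟨_, h1⟩, mem_center_iff.2 fun x => Subtype.ext ?_, rfl⟩
      have hx' : (t : H)⁻¹ * x * t ∈ E := by
        have h2 := mem_subgroupOf.1 (hEn.conj_mem ⟨x, hE x.2⟩ x.2 t⁻¹)
        simpa using h2
      have e1 : (t : H)⁻¹ * x * t * w = w * ((t : H)⁻¹ * x * t) :=
        congrArg Subtype.val (mem_center_iff.1 hw ⟨_, hx'⟩)
      show (x : H) * ((t : H) * w * (t : H)⁻¹) = (t : H) * w * (t : H)⁻¹ * x
      calc (x : H) * ((t : H) * w * (t : H)⁻¹)
          = t * ((t : H)⁻¹ * x * t * w) * (t : H)⁻¹ := by group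
        _ = t * (w * ((t : H)⁻¹ * x * t)) * (t : H)⁻¹ := by rw [e1]
        _ = _ := by group
    have hne : (t : H) * w * (t : H)⁻¹ ≠ 1 := fun h => hw1 (conj_eq_one_iff.1 h)
    obtain ⟨-, w₀, hw₀, huniq⟩ : Nat.card W = 2 ∧ ∃ w₀ : W, w₀ ≠ 1 ∧ ∀ y : W, y ≠ 1 → y = w₀ := by
      obtain ⟨y, hy, huy⟩ := (Nat.card_eq_two_iff' (1 : W)).1 hWcard
      exact ⟨hWcard, y, hy, huy⟩
    have e1 := huniq ⟨_, htw⟩ (fun h => hne (congrArg Subtype.val h))
    have e2 := huniq ⟨(w : H), ⟨w, hw, rfl⟩⟩ (fun h => hw1 (congrArg Subtype.val h))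
    exact mul_inv_eq_iff_eq_mul.1 (congrArg Subtype.val (e1.trans e2.symm))
  -- the image of `E`
  set A : Subgroup (H ⧸ Z) := E.map π
  have hA : A ≤ (T' : Subgroup (H ⧸ Z)) := map_mono hE
  have hAc : IsMulCommutative ↥A := by
    refine ⟨⟨fun x y => Subtype.ext ?_⟩⟩
    obtain ⟨a, ha, hax⟩ := x.2
    obtain ⟨b, hb, hby⟩ := y.2
    show (x : H ⧸ Z) * y = y * x
    rw [← hax, ← hby, ← map_mul, ← map_mul]
    refine (QuotientGroup.eq (s := Z)).2 ?_
    have hc : (⟨(a * b)⁻¹ * (b * a), mul_mem (inv_mem (mul_mem ha hb)) (mul_mem hb ha)⟩ : ↥E) ∈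
        center ↥E := by
      rw [← hEx.1.2.2, commutator_def]
      have := commutator_mem_commutator (H₁ := (⊤ : Subgroup ↥E)) (H₂ := (⊤ : Subgroup ↥E))
        (mem_top (⟨b, hb⟩⁻¹ : ↥E)) (mem_top (⟨a, ha⟩⁻¹ : ↥E))
      convert this using 1
      exact Subtype.ext (by simp [commutatorElement_def, mul_assoc])
    rw [← hZE]
    exact ⟨_, hc, rfl⟩
  have hA64 : Nat.card ↥A = 64 := by
    have h1 := (π.subgroupMap E).ker.card_eq_card_quotient_mul_card_subgroup
    have hk : (π.subgroupMap E).ker = Z.subgroupOf E := by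
      ext x
      rw [MonoidHom.mem_ker, mem_subgroupOf, Subtype.ext_iff]
      exact QuotientGroup.eq_one_iff (x : H)
    have hZle : Z ≤ E := by rw [← hZE]; exact map_subtype_le _
    rw [hE7, Nat.card_congr (QuotientGroup.quotientKerEquivOfSurjective _
      (π.subgroupMap_surjective E)).toEquiv, hk,
      Nat.card_congr (subgroupOfEquivOfLe hZle).toEquiv, hcardZ] at h1
    have h2 : 2 ^ 7 = Nat.card ↥A * 2 := h1
    omega
  have hAn := hmain hO' T' (modelOfEquiv e' m) A hA hAc hA64
  have hEA : E = A.comap π := by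
    rw [comap_map_eq, QuotientGroup.ker_mk', sup_eq_left.2]
    rw [← hZE]; exact map_subtype_le _
  rw [hEA]
  exact hAn.comap π

end CfsgLib.SylM24Q
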